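import Groth.Prelude.Def_RedSub
import Groth.Agent.H21Rank1.GaProps
import Mathlib.LinearAlgebra.FreeModule.Basic

/-!
Split tori and products of additive groups are smooth.
-/

open CategoryTheory MonoidalCategory CartesianMonoidalCategory MonObj GrpObj AlgebraicGeometry
open CategoryTheory.Limits

universe u

set_option backward.isDefEq.respectTransparency false
set_option linter.style.haveILetI false

noncomputable section

namespace Groth.Agent.H21Split

/-- characters of a free lattice lift along square zero ideals -/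
theorem exists_char_lift {M : Type} [AddCommGroup M] [Module.Free ℤ M] {B : Type u} [CommRing B] (I : Ideal B)
    (hI : I * I = ⊥) (χ : Multiplicative M →* B ⧸ I) :
    ∃ χ' : Multiplicative M →* B, (Ideal.Quotient.mk I).toMonoidHom.comp χ' = χ := by
  classical
  let b := Module.Free.chooseBasis ℤ M
  have hu : ∀ j, ∃ v : Bˣ, Ideal.Quotient.mk I (v : B) = χ (Multiplicative.ofAdd (b j)) := fun j => by
    obtain ⟨x, hx⟩ := Ideal.Quotient.mk_surjective (χ (Multiplicative.ofAdd (b j)))
    obtain ⟨y, hy⟩ := Ideal.Quotient.mk_surjective (χ (Multiplicative.ofAdd (-b j)))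
    have h1 : x * y - 1 ∈ I := by
      refine Ideal.Quotient.eq.mp ?_
      rw [map_mul, hx, hy, ← map_mul, ← ofAdd_add, add_neg_cancel, ofAdd_zero, map_one, map_one]
    have h2 : (x * y - 1) * (x * y - 1) = 0 := by
      have := Ideal.mul_mem_mul h1 h1
      rwa [hI, Ideal.mem_bot] at this
    exact ⟨⟨x, y * (2 - x * y), by linear_combination -h2, by linear_combination -h2⟩, hx⟩
  choose v hv using hu
  let L : M →ₗ[ℤ] Additive Bˣ := b.constr ℤ fun j => Additive.ofMul (v j)
  refine ⟨(Units.coeHom B).comp (AddMonoidHom.toMultiplicativeLeft L.toAddMonoidHom), ?_⟩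
  let L' : M →ₗ[ℤ] Additive (B ⧸ I)ˣ :=
    (MonoidHom.toAdditive (Units.map (Ideal.Quotient.mk I).toMonoidHom)).toIntLinearMap ∘ₗ L
  let L'' : M →ₗ[ℤ] Additive (B ⧸ I)ˣ :=
    (AddMonoidHom.mk' (fun m => Additive.ofMul (χ.toHomUnits (Multiplicative.ofAdd m))) fun m m' => by
      rw [ofAdd_add, map_mul, ofMul_mul]).toIntLinearMap
  have hL : L' = L'' := b.ext fun j => by
    refine Additive.toMul.injective (Units.ext ?_)
    simp only [L', L'', LinearMap.comp_apply, L, Module.Basis.constr_basis]
    exact hv j
  refine MonoidHom.ext fun m => ?_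
  exact congrArg (fun x : Additive (B ⧸ I)ˣ => ((Additive.toMul x : (B ⧸ I)ˣ) : B ⧸ I))
    (LinearMap.congr_fun hL m.toAdd)

theorem smooth_monoidAlgebra (R : Type u) [CommRing R] [IsNoetherianRing R] (M : Type) [AddCommGroup M]
    [Module.Free ℤ M] [Module.Finite ℤ M] : Algebra.Smooth R (MonoidAlgebra R (Multiplicative M)) := by
  haveI : AddGroup.FG M := Module.Finite.iff_addGroup_fg.mp inferInstance
  haveI : AddMonoid.FG M := AddGroup.fg_iff_addMonoid_fg.mp inferInstance
  haveI : Monoid.FG (Multiplicative M) := inferInstance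
  haveI : Algebra.FormallySmooth R (MonoidAlgebra R (Multiplicative M)) := by
    refine Algebra.FormallySmooth.of_comp_surjective fun B _ _ I hI f => ?_
    obtain ⟨χ', hχ'⟩ := exists_char_lift I (by rw [← pow_two]; exact hI)
      (f.toRingHom.toMonoidHom.comp (MonoidAlgebra.of R (Multiplicative M)))
    refine ⟨MonoidAlgebra.lift R B (Multiplicative M) χ', AlgHom.ext fun x => ?_⟩
    induction x using MonoidAlgebra.induction_on with
    | of m => simpa using DFunLike.congr_fun hχ' m
    | add p q hp hq => simp only [map_add, hp, hq]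
    | smul r p hp => simp only [map_smul, hp]
  exact ⟨inferInstance, Algebra.FinitePresentation.of_finiteType.mp inferInstance⟩

variable {S : Scheme.{u}}

theorem smooth_DS (M : Type) [AddCommGroup M] [Module.Free ℤ M] [Module.Finite ℤ M] : Smooth (Red.DS S M).hom := by
  have h : Smooth (Red.diag (ULift.{u} ℤ) M).hom := by
    change Smooth (Spec.map (CommRingCat.ofHom (algebraMap (ULift.{u} ℤ) (MonoidAlgebra (ULift.{u} ℤ) (Multiplicative M)))))
    rw [HasRingHomProperty.Spec_iff (P := @Smooth)]
    change RingHom.Smooth (algebraMap (ULift.{u} ℤ) (MonoidAlgebra (ULift.{u} ℤ) (Multiplicative M)))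
    rw [RingHom.smooth_algebraMap]
    haveI : IsNoetherianRing (ULift.{u} ℤ) := isNoetherianRing_of_ringEquiv ℤ ULift.ringEquiv.symm
    exact smooth_monoidAlgebra _ M
  change Smooth (pullback.snd (Red.diag (ULift.{u} ℤ) M).hom (specULiftZIsTerminal.from S))
  exact MorphismProperty.pullback_snd (P := @Smooth) _ _ h

theorem smooth_tensor' {X Y : Over S} (hX : Smooth X.hom) (hY : Smooth Y.hom) : Smooth (X ⊗ Y).hom := by
  change Smooth (pullback.fst X.hom Y.hom ≫ X.hom)
  infer_instance

theorem smooth_pow {X : Over S} (hX : Smooth X.hom) : ∀ n, Smooth (RedSub.pow X n).hom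
  | 0 => by
    change Smooth (𝟙 S)
    infer_instance
  | n + 1 => smooth_tensor' hX (smooth_pow hX n)

end Groth.Agent.H21Split
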