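import Groth.Agent.H21Split.Lie
import Groth.Prelude.Def_RedSub

/-!
The points of a split group given by root homomorphisms and the torus, and the resulting basis of the
derivations at the unit.
-/

open CategoryTheory MonoidalCategory CartesianMonoidalCategory MonObj GrpObj AlgebraicGeometry
open CategoryTheory.Limits
open TrivSqZeroExt (inl inr fst snd)

universe u

set_option backward.isDefEq.respectTransparency false
set_option linter.style.haveILetI false
set_option synthInstance.maxHeartbeats 400000

noncomputable section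

namespace Groth.Agent.H21Split

variable {S : Scheme.{u}} {R : Type u} [CommRing R] (g : Spec (CommRingCat.of R) ⟶ S)
variable {B : Type u} [CommRing B] [Algebra R B] {B' : Type u} [CommRing B'] [Algebra R B']
variable {G : Over S} [GrpObj G] (D : Red.SplitRed G)

instance isMonHom_i : IsMonHom D.i := D.maximalTorus.1

instance isMonHom_u (a : D.idx) : IsMonHom (D.u a) := (D.rootHom a).1

instance isMonHom_split_hom : IsMonHom D.split.hom.hom.hom := D.split.hom.hom.isMonHom_hom

instance isMonHom_split_inv : IsMonHom D.split.inv.hom.hom := D.split.inv.hom.isMonHom_hom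

instance mono_i : Mono D.i := D.maximalTorus.2.1

theorem mono_u (a : D.idx) : Mono (D.u a) :=
  haveI := (D.rootHom a).2.1
  (Over.forget S).mono_of_mono_map (inferInstanceAs (Mono (D.u a).left))

include D in
theorem isAffineHom_hom : IsAffineHom G.hom := D.reductive.1

include D in
theorem smooth_hom : Smooth G.hom := D.reductive.2.1

theorem split_inv_hom : D.split.inv.hom.hom ≫ D.split.hom.hom.hom = 𝟙 _ :=
  congrArg (fun f => f.hom.hom) D.split.inv_hom_id

theorem split_hom_inv : D.split.hom.hom.hom ≫ D.split.inv.hom.hom = 𝟙 _ :=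
  congrArg (fun f => f.hom.hom) D.split.hom_inv_id

/-- the point of a root group -/
def uPt (a : D.idx) (b : B) : pt g B ⟶ G := ga g b ≫ D.u a

theorem uPt_add (a : D.idx) (b b' : B) : uPt g D a (b + b') = uPt g D a b * uPt g D a b' := by
  rw [uPt, uPt, uPt, ga_add, MonObj.mul_comp]

theorem uPt_zero (a : D.idx) : uPt g D a (0 : B) = 1 := by
  rw [uPt, ga_zero, MonObj.one_comp]

theorem uPt_neg (a : D.idx) (b : B) : uPt g D a (-b) = (uPt g D a b)⁻¹ :=
  grp_inv (by rw [← uPt_add, neg_add_cancel, uPt_zero])

theorem pmap_uPt (f : B →ₐ[R] B') (a : D.idx) (b : B) : pmap g f ≫ uPt g D a b = uPt g D a (f b) := by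
  rw [uPt, uPt, ← Category.assoc, pmap_ga]

theorem uPt_injective (a : D.idx) : Function.Injective (uPt g D a : B → _) := fun b b' h => by
  haveI := mono_u D a
  have h1 : ga g b = ga g b' := (cancel_mono (D.u a)).mp h
  rw [← gv_ga g b, ← gv_ga g b', h1]

/-- the point of the torus with given characters -/
def tPt (χ : Multiplicative D.M →* B) : pt g B ⟶ G := ds g χ ≫ D.split.inv.hom.hom ≫ D.i

theorem tPt_mul (χ χ' : Multiplicative D.M →* B) : tPt g D (χ * χ') = tPt g D χ * tPt g D χ' := by
  rw [tPt, tPt, tPt, ds_mul, MonObj.mul_comp]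

theorem tPt_one : tPt g D (1 : Multiplicative D.M →* B) = 1 := by
  rw [tPt, ds_one, MonObj.one_comp]

theorem pmap_tPt (f : B →ₐ[R] B') (χ : Multiplicative D.M →* B) :
    pmap g f ≫ tPt g D χ = tPt g D (f.toRingHom.toMonoidHom.comp χ) := by
  rw [tPt, tPt, ← Category.assoc, pmap_ds]

theorem tPt_injective : Function.Injective (tPt g D : (Multiplicative D.M →* B) → _) := fun χ χ' h => by
  rw [tPt, tPt, ← Category.assoc, ← Category.assoc] at h
  have h1 := congrArg (· ≫ D.split.hom.hom.hom) ((cancel_mono D.i).mp h)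
  simp only [Category.assoc, split_inv_hom, Category.comp_id] at h1
  exact ds_injective g h1

theorem tPt_commute (χ χ' : Multiplicative D.M →* B) : Commute (tPt g D χ) (tPt g D χ') := by
  unfold Commute SemiconjBy
  rw [← tPt_mul, ← tPt_mul, mul_comm χ χ']

theorem exists_tPt (t : pt g B ⟶ D.T) : ∃ χ, tPt g D χ = t ≫ D.i := by
  obtain ⟨χ, hχ⟩ := ds_surjective g (t ≫ D.split.hom.hom.hom)
  refine ⟨χ, ?_⟩
  rw [tPt, hχ, Category.assoc, reassoc_of% split_hom_inv D]

/-- the torus acts on root groups through the roots -/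
theorem tPt_conj (χ : Multiplicative D.M →* B) (a : D.idx) (b : B) :
    tPt g D χ * uPt g D a b * (tPt g D χ)⁻¹ = uPt g D a (χ (Multiplicative.ofAdd (D.P.root a)) * b) := by
  obtain ⟨y, hy, hy2⟩ := (D.rootHom a).2.2 (pt g B) (ds g χ ≫ D.split.inv.hom.hom) (ga g b)
  have hv := gv_of_gaFn_eq_mul g hy2
  rw [Category.assoc, reassoc_of% split_inv_hom D, gmv_chi, gv_ga] at hv
  rw [tPt, uPt, uPt, ← hv, ga_gv, hy, Category.assoc]

theorem isLie_uPt_inr (a : D.idx) (b : B) : IsLie g (uPt g D a (inr b : DualNumber B)) := by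
  unfold IsLie
  rw [pmap_uPt, fstA_apply, TrivSqZeroExt.fst_inr, uPt_zero]

/-- the infinitesimal character of an additive function -/
def expChar (h : D.M →+ B) : Multiplicative D.M →* DualNumber B where
  toFun m := 1 + inr (h m.toAdd)
  map_one' := by simp
  map_mul' m m' := by
    ext
    · simp
    · simp [add_comm]

theorem fst_expChar (h : D.M →+ B) (m : Multiplicative D.M) : TrivSqZeroExt.fst (expChar D h m) = 1 := by
  simp [expChar]

theorem snd_expChar (h : D.M →+ B) (m : Multiplicative D.M) :
    TrivSqZeroExt.snd (expChar D h m) = h m.toAdd := by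
  simp [expChar]

theorem isLie_tPt (h : D.M →+ B) : IsLie g (tPt g D (expChar D h)) := by
  unfold IsLie
  rw [pmap_tPt, show (fstA (R := R) (B := B)).toRingHom.toMonoidHom.comp (expChar D h) = 1 from
    MonoidHom.ext fun m => fst_expChar D h m, tPt_one]

theorem expChar_add (h h' : D.M →+ B) : expChar D (h + h') = expChar D h * expChar D h' := by
  refine MonoidHom.ext fun m => ?_
  ext
  · simp [fst_expChar]
  · simp [snd_expChar, fst_expChar, add_comm]

/-- rank of the lattice -/
abbrev rk : ℕ := Module.finrank ℤ D.M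

/-- a basis of the lattice -/
def bM : Module.Basis (Fin (rk D)) ℤ D.M := Module.finBasis ℤ D.M

variable (B) in
/-- the additive function picking a coordinate -/
def coordHom (j : Fin (rk D)) : D.M →+ B :=
  (Int.castAddHom B).comp ((bM D).coord j).toAddMonoidHom

/-- the additive function with given values on the basis -/
def hOf (c : Fin (rk D) → B) : D.M →+ B := ∑ j, (AddMonoidHom.mulLeft (c j)).comp (coordHom B D j)

theorem hOf_basis (c : Fin (rk D) → B) (j : Fin (rk D)) : hOf D c (bM D j) = c j := by
  simp [hOf, coordHom, AddMonoidHom.finsetSum_apply, Module.Basis.repr_self, Finsupp.single_apply,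
    apply_ite]

theorem hOf_eq (h : D.M →+ B) : hOf D (fun j => h (bM D j)) = h := by
  have : (hOf D fun j => h (bM D j)).toIntLinearMap = h.toIntLinearMap :=
    (bM D).ext fun j => hOf_basis D _ j
  exact AddMonoidHom.ext fun m => LinearMap.congr_fun this m

/-- the vectors of the split group -/
def vec : D.idx ⊕ Fin (rk D) → (Crd g G →ₗ[R] R) :=
  Sum.elim (fun a => lieDev g (uPt g D a (inr (1 : R) : DualNumber R)))
    fun j => lieDev g (tPt g D (expChar D (coordHom R D j)))

theorem uPt_inr_eq (a : D.idx) (b : B) :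
    uPt g D a (inr b : DualNumber B) = pmap g (dn b) ≫ uPt g D a (inr (1 : R) : DualNumber R) := by
  rw [pmap_uPt, show (inr (1 : R) : DualNumber R) = DualNumber.eps from rfl, dn_eps]

theorem lieDev_uPt (a : D.idx) (b : B) (x : Crd g G) :
    lieDev g (uPt g D a (inr b : DualNumber B)) x = b * algebraMap R B (vec g D (Sum.inl a) x) := by
  rw [uPt_inr_eq, lieDev_pmap_dn]
  rfl

theorem tPt_expChar_scale (j : Fin (rk D)) (b : B) :
    tPt g D (expChar D ((AddMonoidHom.mulLeft b).comp (coordHom B D j))) =
      pmap g (dn b) ≫ tPt g D (expChar D (coordHom R D j)) := by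
  rw [pmap_tPt]
  congr 1
  refine MonoidHom.ext fun m => TrivSqZeroExt.ext ?_ ?_
  · refine (fst_expChar D _ m).trans ?_
    refine Eq.trans ?_ (fst_dn b _).symm
    rw [fst_expChar, map_one]
  · refine (snd_expChar D _ m).trans ?_
    refine Eq.trans ?_ (snd_dn b _).symm
    rw [snd_expChar]
    simp [coordHom]

variable [IsAffineHom G.hom]

theorem lieDev_tPt_hOf (c : Fin (rk D) → B) (x : Crd g G) :
    lieDev g (tPt g D (expChar D (hOf D c))) x =
      ∑ j, c j * algebraMap R B (vec g D (Sum.inr j) x) := by
  suffices h : ∀ s : Finset (Fin (rk D)),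
      lieDev g (tPt g D (expChar D (∑ j ∈ s, (AddMonoidHom.mulLeft (c j)).comp (coordHom B D j)))) x =
        ∑ j ∈ s, c j * algebraMap R B (vec g D (Sum.inr j) x) from h Finset.univ
  intro s
  induction s using Finset.induction_on with
  | empty =>
    rw [Finset.sum_empty, Finset.sum_empty, show expChar D (0 : D.M →+ B) = 1 from
      MonoidHom.ext fun m => TrivSqZeroExt.ext (by simp [fst_expChar]) (by simp [snd_expChar]),
      tPt_one, lieDev_one]
    rfl
  | insert j s hj ih =>
    rw [Finset.sum_insert hj, Finset.sum_insert hj, expChar_add, tPt_mul,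
      lieDev_mul (isLie_tPt g D _) (isLie_tPt g D _), LinearMap.add_apply, ih, tPt_expChar_scale,
      lieDev_pmap_dn]
    rfl

end Groth.Agent.H21Split
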