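import Groth.Agent.H21Split.PinWeyl
import Groth.Agent.H21Rank1.Generate

/-!
Homomorphisms out of a split group are determined on the torus and the root groups.
-/

open CategoryTheory MonoidalCategory CartesianMonoidalCategory MonObj GrpObj AlgebraicGeometry
open CategoryTheory.Limits

universe u

set_option backward.isDefEq.respectTransparency false
set_option linter.style.haveILetI false
set_option linter.unusedSectionVars false
set_option synthInstance.maxHeartbeats 400000

noncomputable section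

namespace Groth.Agent.H21Split

variable {S : Scheme.{u}} {G : Over S} [GrpObj G] (D : Red.SplitRed G)

theorem exists_enumerates (Ψ : Set D.idx) : ∃ (n : ℕ) (e : Fin n → D.idx), RedSub.Enumerates Ψ e := by
  haveI : Fintype Ψ := Fintype.ofFinite _
  refine ⟨Fintype.card Ψ, fun k => ((Fintype.equivFin Ψ).symm k).1,
    Subtype.val_injective.comp (Equiv.injective _), ?_⟩
  exact ((Fintype.equivFin Ψ).symm.surjective.range_comp Subtype.val).trans Subtype.range_coe

/-- the product morphism after a homomorphism -/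
theorem prodMap_comp_hom {A H : Over S} [GrpObj H] (f : G ⟶ H) [IsMonHom f] :
    ∀ (n : ℕ) (a : Fin n → (A ⟶ G)), RedSub.prodMap A n a ≫ f = RedSub.prodMap A n (fun k => a k ≫ f)
  | 0, _ => MonObj.one_comp f
  | n + 1, a => by
    rw [RedSub.prodMap, RedSub.prodMap, MonObj.mul_comp, Category.assoc, Category.assoc,
      prodMap_comp_hom f n]

/-- the unit of the group lies in the big cell -/
theorem one_eq_cell {n m : ℕ} (en : Fin n → D.idx) (ep : Fin m → D.idx) :
    lift (tuple n fun _ => (1 : 𝟙_ (Over S) ⟶ Red.Ga S)) (lift (1 : 𝟙_ (Over S) ⟶ D.T) (tuple m fun _ => 1)) ≫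
      RedSub.cellMap D en ep = 1 := by
  have h1 : ∀ (k : ℕ) (e : Fin k → D.idx), tuple k (fun _ => (1 : 𝟙_ (Over S) ⟶ Red.Ga S)) ≫
      RedSub.prodMap (Red.Ga S) k (fun j => D.u (e j)) = 1 := fun k e => by
    rw [comp_prodMap]
    refine List.prod_eq_one fun x hx => ?_
    obtain ⟨j, rfl⟩ := List.mem_ofFn.mp hx
    rw [tuple_pr, MonObj.one_comp]
  rw [RedSub.cellMap, MonObj.comp_mul, MonObj.comp_mul, lift_fst_assoc, lift_snd_assoc, lift_snd_assoc,
    lift_fst_assoc, lift_snd_assoc, h1, h1, MonObj.one_comp, _root_.one_mul, _root_.one_mul]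

/-- the unit section meets the range of the cell -/
theorem eta_mem_range {n m : ℕ} (en : Fin n → D.idx) (ep : Fin m → D.idx) (s : S) :
    η[G].left s ∈ Set.range (RedSub.cellMap D en ep).left.base := by
  have h := congrArg (fun f => f.left s) (one_eq_cell D en ep)
  refine ⟨_, h.trans ?_⟩
  exact H21Rank1.one_left_apply (Y := 𝟙_ (Over S)) s

/-- two morphisms which are multiplicative and agree on the big cell agree -/
theorem hom_ext_cell {H : Over S} [GrpObj H] (f g : G ⟶ H) [IsMonHom f] [IsMonHom g] {n m : ℕ}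
    {en : Fin n → D.idx} {ep : Fin m → D.idx} (hD : IsCellData D en ep) (hbij : Function.Bijective (Sum.elim en ep))
    (h : RedSub.cellMap D en ep ≫ f = RedSub.cellMap D en ep ≫ g) : f = g := by
  haveI := smooth_hom D
  haveI := H21Rank1.geometricallyIrreducible_of_isReductive D.reductive
  haveI := isOpenImmersion_cellMap D en ep hD hbij
  obtain ⟨Y', p, a, b, hp, hp', ha, hb, hab⟩ := H21Rank1.exists_split (G := G)
    (RedSub.cellMap D en ep).left.opensRange (eta_mem_range D en ep) (𝟙 G)
  obtain ⟨a', rfl⟩ := H21Rank1.exists_lift_of_range_subset (RedSub.cellMap D en ep) a ha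
  obtain ⟨b', rfl⟩ := H21Rank1.exists_lift_of_range_subset (RedSub.cellMap D en ep) b hb
  refine H21Rank1.eq_of_flat_surjective p ?_
  rw [Category.comp_id] at hab
  rw [hab, MonObj.mul_comp, MonObj.mul_comp, Category.assoc, Category.assoc, Category.assoc, Category.assoc, h]

/-- homomorphisms agreeing on the torus and all root groups are equal -/
theorem hom_ext_roots (b : D.P.Base) {H : Over S} [GrpObj H] (f g : G ⟶ H) [IsMonHom f] [IsMonHom g]
    (hT : D.i ≫ f = D.i ≫ g) (hU : ∀ a, D.u a ≫ f = D.u a ≫ g) : f = g := by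
  obtain ⟨n, en, hen⟩ := exists_enumerates D (RedSub.negRoots D.P b)
  obtain ⟨m, ep, hep⟩ := exists_enumerates D (RedSub.posRoots D.P b)
  obtain ⟨hD, hbij⟩ := isCellData_of_base D b hen hep
  refine hom_ext_cell D f g hD hbij ?_
  simp only [RedSub.cellMap, MonObj.mul_comp, Category.assoc, prodMap_comp_hom, hT, hU]

theorem conj_cancel {K L : Type*} [Group K] [Group L] (F F' : K →* L) (n x z : K) (hn : F n = F' n)
    (hz : F z = F' z) (h : n * x * n⁻¹ = z) : F x = F' x := by
  have e : x = n⁻¹ * z * n := by rw [← h]; group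
  simp only [e, map_mul, map_inv, hn, hz]

/-- agreement passes to the root obtained by a reflection realised by a point -/
theorem agree_reflect {H : Over S} [GrpObj H] (f g : G ⟶ H) [IsMonHom f] [IsMonHom g] (a d : D.idx)
    (hred : (2 : ℤ) • D.P.root d ∉ Set.range D.P.root) (n : 𝟙_ (Over S) ⟶ G)
    (hn : ∀ (X : Over S) (t : X ⟶ D.T), (toUnit X ≫ n) * (t ≫ D.i) * (toUnit X ≫ n)⁻¹ =
      t ≫ D.split.hom.hom.hom ≫ Red.DSmap S (D.P.reflection a).toLinearMap.toAddMonoidHom ≫
        D.split.inv.hom.hom ≫ D.i)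
    (hfn : n ≫ f = n ≫ g) (hd : D.u d ≫ f = D.u d ≫ g) :
    D.u (D.P.reflectionPerm a d) ≫ f = D.u (D.P.reflectionPerm a d) ≫ g := by
  obtain ⟨c, hc, -⟩ := existsUnique_conj D a (D.P.reflectionPerm a d) (by rwa [D.P.reflectionPerm_self]) n hn
  obtain ⟨y, hy⟩ := H27Witt.GaCoord.gaFn_surjective
    ((Red.Ga S).hom.appTop c * Red.gaFn (𝟙 (Red.Ga S)))
  have h := hc _ (𝟙 _) y hy
  rw [D.P.reflectionPerm_self, Category.id_comp] at h
  exact conj_cancel (H21Rank1.postHom f _) (H21Rank1.postHom g _) _ _ _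
    (by simp only [H21Rank1.postHom_apply, Category.assoc, hfn])
    (by simp only [H21Rank1.postHom_apply, Category.assoc, hd]) h

/-- agreement on the simple root groups and simple Weyl elements gives agreement on all root groups -/
theorem agree_all (b : D.P.Base) {H : Over S} [GrpObj H] (f g : G ⟶ H) [IsMonHom f] [IsMonHom g]
    (w : D.idx → (𝟙_ (Over S) ⟶ G))
    (hn : ∀ a ∈ b.support, ∀ (X : Over S) (t : X ⟶ D.T), (toUnit X ≫ w a) * (t ≫ D.i) * (toUnit X ≫ w a)⁻¹ =
      t ≫ D.split.hom.hom.hom ≫ Red.DSmap S (D.P.reflection a).toLinearMap.toAddMonoidHom ≫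
        D.split.inv.hom.hom ≫ D.i)
    (hw : ∀ a ∈ b.support, w a ≫ f = w a ≫ g) (hU : ∀ a ∈ b.support, D.u a ≫ f = D.u a ≫ g) (c : D.idx) :
    D.u c ≫ f = D.u c ≫ g := by
  have hrn : ∀ i : D.idx, D.P.root (D.P.reflectionPerm i i) = -D.P.root i := fun i => by
    rw [D.P.root_reflectionPerm, D.P.reflection_apply_self]
  have hcomm : ∀ i j : D.idx, D.P.reflectionPerm j (D.P.reflectionPerm i i) =
      D.P.reflectionPerm (D.P.reflectionPerm j i) (D.P.reflectionPerm j i) := fun i j => D.P.root.injective (by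
    rw [hrn (D.P.reflectionPerm j i), D.P.root_reflectionPerm j, hrn i, map_neg, ← D.P.root_reflectionPerm])
  have hneg : ∀ i : D.idx, D.P.reflectionPerm (D.P.reflectionPerm i i) (D.P.reflectionPerm i i) = i := fun i =>
    D.P.root.injective (by rw [hrn (D.P.reflectionPerm i i), hrn i, neg_neg])
  refine (induction_reflect D.P b (p := fun c => D.u c ≫ f = D.u c ≫ g ∧
    D.u (D.P.reflectionPerm c c) ≫ f = D.u (D.P.reflectionPerm c c) ≫ g) ?_ ?_ ?_ c).1
  · intro i hi
    exact ⟨hi.2, by rw [hneg]; exact hi.1⟩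
  · intro i hi
    exact ⟨hU i hi, agree_reflect D f g i i (two_smul_root_notMem D b i) (w i) (hn i hi) (hw i hi) (hU i hi)⟩
  · intro i j hi hj
    refine ⟨agree_reflect D f g j i (two_smul_root_notMem D b i) (w j) (hn j hj) (hw j hj) hi.1, ?_⟩
    rw [← hcomm]
    exact agree_reflect D f g j _ (two_smul_root_notMem D b _) (w j) (hn j hj) (hw j hj) hi.2

end Groth.Agent.H21Split
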