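import Groth.Agent.H21Split.Commutator

/-!
The commutator formula over an arbitrary base.
-/

open CategoryTheory MonoidalCategory CartesianMonoidalCategory MonObj GrpObj AlgebraicGeometry
open CategoryTheory.Limits

universe u

set_option backward.isDefEq.respectTransparency false
set_option linter.style.haveILetI false
set_option synthInstance.maxHeartbeats 400000

noncomputable section

namespace Groth.Agent.H21Split

variable {S : Scheme.{u}} {G : Over S} [GrpObj G] (D : Red.SplitRed G)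

theorem existsUnique_commFormula (α β : D.idx)
    (hne : ∀ p q : ℕ, 1 ≤ p → 1 ≤ q → (p : ℤ) • D.P.root α + (q : ℤ) • D.P.root β ≠ 0)
    {n : ℕ} (e : Fin n → D.idx) (i j : Fin n → ℕ) (he : Function.Injective e)
    (hij : ∀ k, 1 ≤ i k ∧ 1 ≤ j k ∧ D.P.root (e k) = (i k : ℤ) • D.P.root α + (j k : ℤ) • D.P.root β)
    (hall : ∀ (c : D.idx) (p q : ℕ), 1 ≤ p → 1 ≤ q →
      D.P.root c = (p : ℤ) • D.P.root α + (q : ℤ) • D.P.root β → ∃ k, e k = c ∧ i k = p ∧ j k = q)
    {R : Type u} [CommRing R] (g : Spec (CommRingCat.of R) ⟶ S) :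
    ∃! C : Fin n → R, CommFormula D g α β e i j C := by
  haveI := isAffineHom_hom D
  obtain ⟨C, hC, hu⟩ := existsUnique_comm_core D g α β hne e i j he hij hall
  exact ⟨C, (commFormula_iff D g α β e i j C).mp hC, fun C' h' => hu C' ((commFormula_iff D g α β e i j C').mpr h')⟩

theorem commFormula_map (α β : D.idx) {n : ℕ} (e : Fin n → D.idx) (i j : Fin n → ℕ)
    {R R' : Type u} [CommRing R] [CommRing R'] (f : R →+* R') (g : Spec (CommRingCat.of R) ⟶ S)
    {C : Fin n → R} (hC : CommFormula D g α β e i j C) :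
    CommFormula D (Spec.map (CommRingCat.ofHom f) ≫ g) α β e i j (fun k => f (C k)) := by
  intro X h x y z hz
  let b : (Over.mk (Spec.map (CommRingCat.ofHom f) ≫ g) : Over S) ⟶ Over.mk g :=
    Over.homMk (Spec.map (CommRingCat.ofHom f)) rfl
  refine hC X (h ≫ b) x y z fun k => ?_
  rw [hz k]
  congr 2
  have e1 : (h ≫ b).left.appTop = (Spec.map (CommRingCat.ofHom f)).appTop ≫ h.left.appTop :=
    Scheme.Hom.comp_appTop _ _
  rw [e1]
  refine congrArg h.left.appTop.hom ?_
  exact ConcreteCategory.congr_hom (Scheme.ΓSpecIso_inv_naturality (CommRingCat.ofHom f)) (C k)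

omit [GrpObj G] in
theorem appTop_hom_comp {X Y : Over S} (q : Y ⟶ X) (C : Γ(S, ⊤)) :
    q.left.appTop (X.hom.appTop C) = Y.hom.appTop C := by
  rw [← Over.w q]
  exact (ConcreteCategory.congr_hom (Scheme.Hom.comp_appTop q.left X.hom) C).symm

theorem inv_res {R : Type u} [CommRing R] (g : Spec (CommRingCat.of R) ⟶ S) (C : Γ(S, ⊤)) :
    (Scheme.ΓSpecIso (CommRingCat.of R)).inv (res g C) = g.appTop C :=
  Iso.hom_inv_id_apply (Scheme.ΓSpecIso (CommRingCat.of R)) (g.appTop C)

/-- The commutator formula over the base. -/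
theorem existsUnique_comm_global (α β : D.idx)
    (hne : ∀ p q : ℕ, 1 ≤ p → 1 ≤ q → (p : ℤ) • D.P.root α + (q : ℤ) • D.P.root β ≠ 0)
    {n : ℕ} (e : Fin n → D.idx) (i j : Fin n → ℕ) (he : Function.Injective e)
    (hij : ∀ k, 1 ≤ i k ∧ 1 ≤ j k ∧ D.P.root (e k) = (i k : ℤ) • D.P.root α + (j k : ℤ) • D.P.root β)
    (hall : ∀ (c : D.idx) (p q : ℕ), 1 ≤ p → 1 ≤ q →
      D.P.root c = (p : ℤ) • D.P.root α + (q : ℤ) • D.P.root β → ∃ k, e k = c ∧ i k = p ∧ j k = q) :
    ∃! C : Fin n → Γ(S, ⊤), ∀ (X : Over S) (x y : X ⟶ Red.Ga S) (z : Fin n → (X ⟶ Red.Ga S)),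
      (∀ k, Red.gaFn (z k) = X.hom.appTop (C k) * Red.gaFn x ^ (i k) * Red.gaFn y ^ (j k)) →
        (x ≫ D.u α) * (y ≫ D.u β) * (x ≫ D.u α)⁻¹ =
          (y ≫ D.u β) * (List.ofFn (fun k => z k ≫ D.u (e k))).prod := by
  have huniq := fun {R : Type u} [CommRing R] (g : Spec (CommRingCat.of R) ⟶ S) =>
    existsUnique_commFormula D α β hne e i j he hij hall g
  let c : ∀ (R : Type u) [CommRing R], (Spec (CommRingCat.of R) ⟶ S) → Fin n → R := fun R _ g => (huniq g).choose
  have hc : ∀ (R : Type u) [CommRing R] (g : Spec (CommRingCat.of R) ⟶ S), CommFormula D g α β e i j (c R g) :=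
    fun R _ g => (huniq g).choose_spec.1
  have hnat : ∀ k (R R' : Type u) [CommRing R] [CommRing R'] (f : R →+* R') (g : Spec (CommRingCat.of R) ⟶ S),
      c R' (Spec.map (CommRingCat.ofHom f) ≫ g) k = f (c R g k) := fun k R R' _ _ f g =>
    congrFun ((huniq _).unique (hc R' _) (commFormula_map D α β e i j f g (hc R g))) k
  choose C hC _ using fun k => existsUnique_res (fun R _ g => c R g k) (hnat k)
  refine ⟨C, fun X x y z hz => hom_ext_pts fun B _ t q => ?_, fun C' hC' => funext fun k => ext_res fun R _ g => ?_⟩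
  · rw [MonObj.comp_mul, MonObj.comp_mul, MonObj.comp_mul, GrpObj.comp_inv, prod_comp]
    simp only [← Category.assoc]
    refine hc B t (Over.mk t) (𝟙 _) (q ≫ x) (q ≫ y) (fun k => q ≫ z k) fun k => ?_
    rw [H27Witt.GaCoord.gaFn_comp, H27Witt.GaCoord.gaFn_comp, H27Witt.GaCoord.gaFn_comp, hz k, map_mul,
      map_mul, map_pow, map_pow]
    congr 2
    refine (appTop_hom_comp q (C k)).trans ?_
    rw [← hC k B t, inv_res]
    exact (appTop_hom_comp (𝟙 (Over.mk t : Over S)) (C k)).symm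
  · rw [hC k R g]
    refine congrFun ((huniq g).unique (y₁ := fun k => res g (C' k)) ?_ (hc R g)) k
    intro X h x y z hz
    refine hC' X x y z fun l => ?_
    rw [hz l]
    congr 2
    rw [inv_res]
    exact appTop_hom_comp h (C' l)

end Groth.Agent.H21Split
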