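import Groth.Agent.H21Split.CellMap
import Groth.Agent.H21Split.CommGlobal

/-!
Conjugating root homomorphisms by points which act on the torus as reflections.
-/

open CategoryTheory MonoidalCategory CartesianMonoidalCategory MonObj GrpObj AlgebraicGeometry
open CategoryTheory.Limits

universe u

set_option backward.isDefEq.respectTransparency false
set_option linter.style.haveILetI false
set_option linter.unusedSectionVars false
set_option synthInstance.maxHeartbeats 400000

noncomputable section

namespace Groth.Agent.H21Split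

variable {S : Scheme.{u}} {R : Type u} [CommRing R] (g : Spec (CommRingCat.of R) ⟶ S)
variable {G : Over S} [GrpObj G] (D : Red.SplitRed G)

theorem isPosSet_singleton (a : D.idx) (hred : (2 : ℤ) • D.P.root a ∉ Set.range D.P.root) :
    IsPosSet D.P {a} where
  closed x y z hx hy hz := by
    rw [Set.mem_singleton_iff] at hx hy ⊢
    subst hx hy
    exact absurd ⟨z, by rw [← hz, two_smul]⟩ hred
  noNeg x y hx hy hy' := by
    rw [Set.mem_singleton_iff] at hx hy'
    rw [hy', hx] at hy
    have h2 : (2 : ℤ) • D.P.root a = 0 := by rw [two_smul]; nth_rw 2 [hy]; exact add_neg_cancel _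
    rcases smul_eq_zero.mp h2 with h | h
    · omega
    · exact D.P.ne_zero a h

theorem two_smul_root_notMem (b : D.P.Base) (a : D.idx) : (2 : ℤ) • D.P.root a ∉ Set.range D.P.root := by
  haveI := isReduced_of_base D.P b
  haveI : IsAddTorsionFree D.M := .of_isTorsionFree ℤ D.M
  rw [ofNat_zsmul]
  exact D.P.nsmul_notMem_range_root (n := 2)

/-- the reflection as a map of the lattice -/
abbrev sMap (a : D.idx) : D.M →+ D.M := (D.P.reflection a).toLinearMap.toAddMonoidHom

theorem sMap_root (a d : D.idx) : sMap D a (D.P.root d) = D.P.root (D.P.reflectionPerm a d) :=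
  (D.P.root_reflectionPerm a d).symm

theorem sMap_sMap (a : D.idx) (m : D.M) : sMap D a (sMap D a m) = m := D.P.reflection_same a m

variable (R) in
/-- the structure map of a test algebra -/
def toBase (B : Type u) [CommRing B] [Algebra R B] : R →ₐ[R] B := Algebra.ofId R B

theorem comp_toBase {B B' : Type u} [CommRing B] [Algebra R B] [CommRing B'] [Algebra R B'] (f : B →ₐ[R] B') :
    f.comp (toBase R B) = toBase R B' := Algebra.ext_id _ _ _

theorem toBase_self : toBase R R = AlgHom.id R R := Algebra.ext_id _ _ _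

/-- a point over the base acting on the torus by a reflection -/
def ActsBy (a : D.idx) (nr : pt g R ⟶ G) : Prop :=
  ∀ (B : Type u) [CommRing B] [Algebra R B] (χ : Multiplicative D.M →* B),
    (pmap g (toBase R B) ≫ nr) * tPt g D χ * (pmap g (toBase R B) ≫ nr)⁻¹ =
      tPt g D (χ.comp (AddMonoidHom.toMultiplicative (sMap D a)))

theorem actsBy_of_global (a : D.idx) (n : 𝟙_ (Over S) ⟶ G)
    (hn : ∀ (X : Over S) (t : X ⟶ D.T), (toUnit X ≫ n) * (t ≫ D.i) * (toUnit X ≫ n)⁻¹ =
      t ≫ D.split.hom.hom.hom ≫ Red.DSmap S (D.P.reflection a).toLinearMap.toAddMonoidHom ≫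
        D.split.inv.hom.hom ≫ D.i) : ActsBy g D a (toUnit (pt g R) ≫ n) := by
  intro B _ _ χ
  have h := hn (pt g B) (ds g χ ≫ D.split.inv.hom.hom)
  rw [← Category.assoc (pmap g (toBase R B)), toUnit_unique (pmap g (toBase R B) ≫ toUnit _) (toUnit _)]
  rw [Category.assoc, ← tPt] at h
  rw [h, Category.assoc, reassoc_of% (split_inv_hom D), ← Category.assoc, ds_DSmap]
  rfl

variable [IsAffineHom G.hom]

theorem conj_aux' {H : Type*} [Group H] {n t t' u u' : H} (h : n * t' * n⁻¹ = t) (h' : t' * u * t'⁻¹ = u') :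
    t * (n * u * n⁻¹) * t⁻¹ = n * u' * n⁻¹ := by
  rw [← h, ← h']; group

theorem isEquivariant_conj (a d : D.idx) {nr : pt g R ⟶ G} (hnr : ActsBy g D a nr) :
    IsEquivariant g D (fun _ : Unit => D.P.root (D.P.reflectionPerm a d))
      ((pmap g (toBase R _) ≫ nr) * uPt g D d (MvPolynomial.X () : MvPolynomial Unit R) *
        (pmap g (toBase R _) ≫ nr)⁻¹) := by
  unfold IsEquivariant
  simp only [MonObj.comp_mul, GrpObj.comp_inv, pmap_uPt, ← Category.assoc, pmap_comp, comp_toBase]
  let χ := univPoly D Unit R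
  have h := hnr (MvPolynomial Unit (MonoidAlgebra R (Multiplicative D.M)))
    (χ.comp (AddMonoidHom.toMultiplicative (sMap D a)))
  rw [MonoidHom.comp_assoc, ← show AddMonoidHom.toMultiplicative ((sMap D a).comp (sMap D a)) =
      (AddMonoidHom.toMultiplicative (sMap D a)).comp (AddMonoidHom.toMultiplicative (sMap D a)) from rfl,
    show (sMap D a).comp (sMap D a) = AddMonoidHom.id _ from AddMonoidHom.ext (sMap_sMap D a)] at h
  rw [show AddMonoidHom.toMultiplicative (AddMonoidHom.id D.M) = MonoidHom.id _ from rfl, MonoidHom.comp_id] at h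
  rw [conj_aux' h (tPt_conj g D _ d _)]
  congr 3
  rw [show (MvPolynomial.X () : MvPolynomial Unit R) = MvPolynomial.monomial (Finsupp.single () 1) 1 from rfl,
    scaleVar_monomial, constVar_monomial, wt_single, one_smul, MonoidHom.comp_apply]
  simp [χ, univPoly, sMap_root, MvPolynomial.C_mul_monomial, constMap_apply, MonoidAlgebra.single_mul_single]

/-- conjugation of a root group by such a point is multiplication of the coordinate by a unit -/
theorem existsUnique_conj_core (a d : D.idx) (hred : (2 : ℤ) • D.P.root (D.P.reflectionPerm a d) ∉ Set.range D.P.root)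
    {nr : pt g R ⟶ G} (hnr : ActsBy g D a nr) :
    ∃! c : R, ∀ (B : Type u) [CommRing B] [Algebra R B] (x : B),
      (pmap g (toBase R B) ≫ nr) * uPt g D d x * (pmap g (toBase R B) ≫ nr)⁻¹ =
        uPt g D (D.P.reflectionPerm a d) (algebraMap R B c * x) := by
  set a' := D.P.reflectionPerm a d
  have hΨ := isPosSet_singleton D a' hred
  obtain ⟨P, hP, -, hPe⟩ := exists_uProd_eval g D hΨ (fun _ : Fin 1 => a') (fun _ _ _ => Subsingleton.elim _ _)
    Set.range_const (fun _ : Unit => a') (fun _ => rfl) (isEquivariant_conj g D a d hnr) (by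
      simp only [MonObj.comp_mul, GrpObj.comp_inv, pmap_uPt, MvPolynomial.aeval_X, uPt_zero, _root_.mul_one,
        mul_inv_cancel])
  have hsupp : ∀ x, (P 0).coeff x ≠ 0 → x = Finsupp.single () 1 := fun x hx => by
    obtain ⟨-, h2⟩ := hP 0 x hx
    have e : x = Finsupp.single () (x ()) := Finsupp.ext fun i => by cases i; simp
    obtain ⟨hf, hpos⟩ := hΨ.exists_functional
    have h3 := congrArg hf h2
    rw [e, wt_single, map_nsmul, nsmul_eq_mul] at h3
    have h4 := hpos a' rfl
    have h5 : ((x () : ℕ) : ℤ) = 1 :=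
      mul_right_cancel₀ (ne_of_gt h4) (h3.trans (_root_.one_mul _).symm)
    rw [e]
    congr
    omega
  have hform : P 0 = MvPolynomial.monomial (Finsupp.single () 1) ((P 0).coeff (Finsupp.single () 1)) := by
    classical
    refine MvPolynomial.ext _ _ fun x => ?_
    rw [MvPolynomial.coeff_monomial]
    split_ifs with h
    · rw [h]
    · exact not_not.mp fun hx => h (hsupp x hx).symm
  refine ⟨(P 0).coeff (Finsupp.single () 1), fun B _ _ x => ?_, fun c' hc' => ?_⟩
  · have h := hPe B fun _ => x
    simp only [MonObj.comp_mul, GrpObj.comp_inv, pmap_uPt, MvPolynomial.aeval_X, ← Category.assoc, pmap_comp,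
      comp_toBase] at h
    rw [h, uProd, List.ofFn_succ, List.ofFn_zero, List.prod_cons, List.prod_nil, _root_.mul_one]
    congr 1
    conv_lhs => rw [hform]
    simp [MvPolynomial.aeval_monomial]
  · have h := hPe R fun _ => (1 : R)
    simp only [MonObj.comp_mul, GrpObj.comp_inv, pmap_uPt, MvPolynomial.aeval_X, ← Category.assoc, pmap_comp,
      comp_toBase] at h
    rw [hc' R 1, uProd, List.ofFn_succ, List.prod_cons, List.ofFn_zero, List.prod_nil, _root_.mul_one, _root_.mul_one] at h
    have h1 := uPt_injective g D _ h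
    rw [hform] at h1
    simpa [MvPolynomial.aeval_monomial] using h1

omit [IsAffineHom G.hom] in
/-- the equation at test algebras as an equation on all schemes, one coefficient on the base -/
theorem existsUnique_conj (a d : D.idx) (hred : (2 : ℤ) • D.P.root (D.P.reflectionPerm a d) ∉ Set.range D.P.root)
    (n : 𝟙_ (Over S) ⟶ G)
    (hn : ∀ (X : Over S) (t : X ⟶ D.T), (toUnit X ≫ n) * (t ≫ D.i) * (toUnit X ≫ n)⁻¹ =
      t ≫ D.split.hom.hom.hom ≫ Red.DSmap S (D.P.reflection a).toLinearMap.toAddMonoidHom ≫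
        D.split.inv.hom.hom ≫ D.i) :
    ∃! c : Γ(S, ⊤), ∀ (X : Over S) (x y : X ⟶ Red.Ga S), Red.gaFn y = X.hom.appTop c * Red.gaFn x →
      (toUnit X ≫ n) * (x ≫ D.u d) * (toUnit X ≫ n)⁻¹ = y ≫ D.u (D.P.reflectionPerm a d) := by
  haveI := isAffineHom_hom D
  have huniq := fun {R : Type u} [CommRing R] (g : Spec (CommRingCat.of R) ⟶ S) =>
    existsUnique_conj_core g D a d hred (actsBy_of_global g D a n hn)
  have hpt : ∀ {R : Type u} [CommRing R] (g : Spec (CommRingCat.of R) ⟶ S) (B : Type u) [CommRing B] [Algebra R B],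
      pmap g (toBase R B) ≫ toUnit (pt g R) ≫ n = toUnit (pt g B) ≫ n := fun g B _ _ => by
    rw [← Category.assoc, toUnit_unique (pmap g (toBase _ B) ≫ toUnit _) (toUnit _)]
  let c : ∀ (R : Type u) [CommRing R], (Spec (CommRingCat.of R) ⟶ S) → R := fun R _ g => (huniq g).choose
  have hc : ∀ (R : Type u) [CommRing R] (g : Spec (CommRingCat.of R) ⟶ S) (B : Type u) [CommRing B] [Algebra R B]
      (x : B), (toUnit (pt g B) ≫ n) * uPt g D d x * (toUnit (pt g B) ≫ n)⁻¹ =
        uPt g D (D.P.reflectionPerm a d) (algebraMap R B (c R g) * x) := fun R _ g B _ _ x => by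
    rw [← hpt]; exact (huniq g).choose_spec.1 B x
  have hc1 : ∀ (R : Type u) [CommRing R] (g : Spec (CommRingCat.of R) ⟶ S) (c' : R),
      (toUnit (pt g R) ≫ n) * uPt g D d (1 : R) * (toUnit (pt g R) ≫ n)⁻¹ =
        uPt g D (D.P.reflectionPerm a d) c' → c' = c R g := fun R _ g c' h => by
    refine uPt_injective g D (D.P.reflectionPerm a d) ?_
    rw [← h, hc R g R 1, Algebra.algebraMap_self_apply, _root_.mul_one]
  have hnat : ∀ (R R' : Type u) [CommRing R] [CommRing R'] (f : R →+* R') (g : Spec (CommRingCat.of R) ⟶ S),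
      c R' (Spec.map (CommRingCat.ofHom f) ≫ g) = f (c R g) := fun R R' _ _ f g => by
    letI := f.toAlgebra
    refine (hc1 R' _ (f (c R g)) ?_).symm
    let e : pt (Spec.map (CommRingCat.ofHom f) ≫ g) R' ≅ pt g R' :=
      towerIso g R' R'
    have hga : ∀ (b : R'), e.hom ≫ ga g b = ga (Spec.map (CommRingCat.ofHom f) ≫ g) b := fun b =>
      gv_injective _ (by rw [gv_ga, gv_def, H27Witt.GaCoord.gaFn_comp]; exact (gv_def g _).symm.trans (gv_ga g b))
    have hu : ∀ (a : D.idx) (b : R'), e.hom ≫ uPt g D a b = uPt (Spec.map (CommRingCat.ofHom f) ≫ g) D a b :=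
      fun a b => by rw [uPt, uPt, ← Category.assoc, hga]
    have hnn : e.hom ≫ toUnit (pt g R') ≫ n = toUnit _ ≫ n := by
      rw [← Category.assoc, toUnit_unique (e.hom ≫ toUnit _) (toUnit _)]
    have := congrArg (fun z => e.hom ≫ z) (hc R g R' 1)
    simp only [MonObj.comp_mul, GrpObj.comp_inv, hu, hnn, _root_.mul_one] at this
    exact this
  obtain ⟨C, hC, -⟩ := existsUnique_res c hnat
  refine ⟨C, fun X x y hy => hom_ext_pt fun R _ g j => ?_, fun C' hC' => ext_res fun R _ g => ?_⟩
  · have hn' : j ≫ toUnit X ≫ n = toUnit (pt g R) ≫ n := by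
      rw [← Category.assoc, toUnit_unique (j ≫ toUnit X) (toUnit _)]
    have h := hc R g R (gv g (j ≫ x))
    rw [MonObj.comp_mul, MonObj.comp_mul, GrpObj.comp_inv, hn']
    rw [uPt, ga_gv, Category.assoc] at h
    rw [h, uPt, ← Category.assoc j y]
    congr 1
    refine (ga_of_gv g ?_).symm
    rw [gv_def, H27Witt.GaCoord.gaFn_comp, hy, map_mul, map_mul, ← H27Witt.GaCoord.gaFn_comp, ← gv_def,
      appTop_hom_comp, Algebra.algebraMap_self_apply]
    congr 1
    rw [← hC R g]
    have e : Spec.map (CommRingCat.ofHom (algebraMap R R)) = 𝟙 _ := Spec.map_id (CommRingCat.of R)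
    change res (Spec.map (CommRingCat.ofHom (algebraMap R R)) ≫ g) C = res g C
    rw [e, Category.id_comp]
  · rw [hC R g]
    refine hc1 R g _ (hC' (pt g R) (ga g 1) (ga g (res g C')) ?_)
    rw [gaFn_eq_of_gv g (gv_ga g _), gaFn_eq_of_gv g (gv_ga g (1 : R)), map_one, _root_.mul_one]
    have e : Spec.map (CommRingCat.ofHom (algebraMap R R)) = 𝟙 _ := Spec.map_id (CommRingCat.of R)
    change _ = (Spec.map (CommRingCat.ofHom (algebraMap R R)) ≫ g).appTop C'
    rw [e, Category.id_comp]
    exact inv_res g C'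

end Groth.Agent.H21Split
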