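import Groth.Agent.H21Split.Levi
import Groth.Agent.H21Split.HomExt
import Groth.Agent.H21Split.RootConj

/-!
The centre of a split group is the intersection of the kernels of the roots on the torus.
-/

open CategoryTheory MonoidalCategory CartesianMonoidalCategory MonObj GrpObj AlgebraicGeometry
open Groth.Agent.H27Witt.GaCoord (gaFn_comp gaFn_surjective gaFn_injective gaFn_one)

universe u

set_option backward.isDefEq.respectTransparency false
set_option linter.style.haveILetI false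
set_option linter.unusedSectionVars false
set_option synthInstance.maxHeartbeats 400000

noncomputable section

namespace Groth.Agent.H21Split

variable {S : Scheme.{u}} {G : Over S} [GrpObj G] (D : Red.SplitRed G)

/-- a cell of a split group without choosing a base -/
theorem exists_cell : ∃ (n m : ℕ) (en : Fin n → D.idx) (ep : Fin m → D.idx),
    IsCellData D en ep ∧ Function.Bijective (Sum.elim en ep) := by
  haveI := D.fintypeIdx
  obtain ⟨h, hh⟩ := exists_dual_ne_zero (M := D.M) (fun b => D.P.root b)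
  obtain ⟨n, en, hen⟩ := exists_enumerates D {b | 0 < (-h) (D.P.root b)}
  obtain ⟨m, ep, hep⟩ := exists_enumerates D {b | 0 < h (D.P.root b)}
  have hn : ∀ k, h (D.P.root (en k)) < 0 := fun k => by
    have : en k ∈ {b | 0 < (-h) (D.P.root b)} := hen.2 ▸ ⟨k, rfl⟩
    simpa using this
  have hp : ∀ k, 0 < h (D.P.root (ep k)) := fun k => (hep.2 ▸ ⟨k, rfl⟩ : ep k ∈ {b | 0 < h (D.P.root b)})
  refine ⟨n, m, en, ep, ⟨hen.1, hep.1, hen.2 ▸ isPosSet_gt D _, hep.2 ▸ isPosSet_gt D _, h, hn, hp⟩, ?_, ?_⟩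
  · refine hen.1.sumElim hep.1 fun k l hkl => ?_
    have := hn k
    rw [hkl] at this
    exact absurd (hp l) (not_lt.mpr this.le)
  · intro b
    rcases (hh b (D.P.ne_zero b)).lt_or_gt with hb | hb
    · obtain ⟨k, rfl⟩ : b ∈ Set.range en := by rw [hen.2]; simpa using hb
      exact ⟨Sum.inl k, rfl⟩
    · obtain ⟨k, rfl⟩ : b ∈ Set.range ep := by rw [hep.2]; exact hb
      exact ⟨Sum.inr k, rfl⟩

theorem xProd_fixed {X : Over S} (t : X ⟶ D.T)
    (ht : ∀ a : D.idx, t ≫ D.split.hom.hom.hom ≫ Red.chi S (D.P.root a) = 1) {n : ℕ} (e : Fin n → D.idx)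
    (v : Fin n → (X ⟶ Red.Ga S)) : Commute (t ≫ D.i) (xProd D e v) := by
  have h := xProd_scale D t e v v fun k => by rw [ht, H21Rank1.gmFn_one, _root_.one_mul]
  exact eq_mul_inv_iff_mul_eq.mp h |>.symm

theorem commute_torus {X : Over S} (s t : X ⟶ D.T) : Commute (s ≫ D.i) (t ≫ D.i) := by
  refine show _ * _ = _ * _ from hom_ext_pt fun R _ g j => ?_
  obtain ⟨χ, hχ⟩ := exists_tPt g D (j ≫ s)
  obtain ⟨χ', hχ'⟩ := exists_tPt g D (j ≫ t)
  rw [MonObj.comp_mul, MonObj.comp_mul, ← Category.assoc, ← Category.assoc, ← hχ, ← hχ']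
  exact tPt_commute g D χ χ'

/-- a cell point as a product -/
theorem cell_point {n m : ℕ} (en : Fin n → D.idx) (ep : Fin m → D.idx) {X : Over S}
    (z : X ⟶ RedSub.pow (Red.Ga S) n ⊗ (D.T ⊗ RedSub.pow (Red.Ga S) m)) :
    z ≫ RedSub.cellMap D en ep = xProd D en (fun k => (z ≫ fst _ _) ≫ pr (Red.Ga S) n k) *
      (((z ≫ snd _ _ ≫ fst _ _) ≫ D.i) * xProd D ep fun k => (z ≫ snd _ _ ≫ snd _ _) ≫ pr (Red.Ga S) m k) := by
  rw [RedSub.cellMap, MonObj.comp_mul, MonObj.comp_mul, xProd, xProd, ← comp_prodMap, ← comp_prodMap]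
  simp only [Category.assoc]

/-- a torus point on which all roots are trivial commutes with every point -/
theorem commute_of_roots_trivial {X : Over S} (t : X ⟶ D.T)
    (ht : ∀ a : D.idx, t ≫ D.split.hom.hom.hom ≫ Red.chi S (D.P.root a) = 1) (h : X ⟶ G) :
    (t ≫ D.i) * h = h * (t ≫ D.i) := by
  haveI := smooth_hom D
  haveI := H21Rank1.geometricallyIrreducible_of_isReductive D.reductive
  obtain ⟨n, m, en, ep, hD, hbij⟩ := exists_cell D
  haveI := isOpenImmersion_cellMap D en ep hD hbij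
  obtain ⟨Y, p, a, b, hp, hp', ha, hb, hab⟩ := H21Rank1.exists_split (G := G)
    (RedSub.cellMap D en ep).left.opensRange (eta_mem_range D en ep) h
  obtain ⟨a', rfl⟩ := H21Rank1.exists_lift_of_range_subset (RedSub.cellMap D en ep) a ha
  obtain ⟨b', rfl⟩ := H21Rank1.exists_lift_of_range_subset (RedSub.cellMap D en ep) b hb
  have ht' : ∀ c : D.idx, (p ≫ t) ≫ D.split.hom.hom.hom ≫ Red.chi S (D.P.root c) = 1 := fun c => by
    rw [Category.assoc, ht]
    exact MonObj.comp_one p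
  have key : ∀ z : Y ⟶ _, Commute ((p ≫ t) ≫ D.i) (z ≫ RedSub.cellMap D en ep) := fun z => by
    rw [cell_point]
    exact (xProd_fixed D _ ht' en _).mul_right ((commute_torus D _ _).mul_right (xProd_fixed D _ ht' ep _))
  refine H21Rank1.eq_of_flat_surjective p ?_
  rw [MonObj.comp_mul, MonObj.comp_mul, ← Category.assoc, hab]
  exact (key a').mul_right (key b')

theorem central_aux {H : Type*} [Group H] {g v t w v' t' w' : H} (hg : g * v = v * g)
    (h : g * (v * (t * w)) = v' * (t' * w')) : g = (v⁻¹ * v') * (t' * ((w' * w⁻¹) * t⁻¹)) := by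
  calc g = v⁻¹ * (v * g) := by group
    _ = v⁻¹ * (g * (v * (t * w))) * w⁻¹ * t⁻¹ := by rw [← hg]; group
    _ = _ := by rw [h]; group

theorem triv_ends {H : Type*} [Group H] {a b c d : H} (h : d = a * (b * c)) (ha : a = 1) (hc : c = 1) : b = d := by
  rw [h, ha, hc, _root_.one_mul, _root_.mul_one]

theorem regroup_cell' {H : Type*} [Group H] (vi v' tb ta w' wi : H) :
    vi * v' * (tb * ta⁻¹ * (ta * (w' * wi) * ta⁻¹)) = vi * v' * (tb * (w' * wi * ta⁻¹)) := by group

set_option maxHeartbeats 1600000 in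
/-- a central point lies in the big cell -/
theorem range_subset_of_central {n m : ℕ} {en : Fin n → D.idx} {ep : Fin m → D.idx} (hD : IsCellData D en ep)
    (hbij : Function.Bijective (Sum.elim en ep)) {X : Over S} (g : X ⟶ G)
    (hg : ∀ (X' : Over S) (x : X' ⟶ X) (h : X' ⟶ G), (x ≫ g) * h = h * (x ≫ g)) :
    Set.range g.left ⊆ Set.range (RedSub.cellMap D en ep).left.base := by
  haveI := smooth_hom D
  haveI := H21Rank1.geometricallyIrreducible_of_isReductive D.reductive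
  haveI := isOpenImmersion_cellMap D en ep hD hbij
  let c := RedSub.cellMap D en ep
  let U : G.left.Opens := c.left.opensRange ⊓ (ι[G]).left ⁻¹ᵁ c.left.opensRange
  have hU : ∀ s : S, η[G].left s ∈ U := fun s => ⟨eta_mem_range D en ep s, by
    change (η[G] ≫ ι[G]).left s ∈ Set.range c.left.base
    rw [GrpObj.one_inv]
    exact eta_mem_range D en ep s⟩
  obtain ⟨Y, p, a, b, hp, hp', ha, hb, hab⟩ := H21Rank1.exists_split (G := G) U hU g⁻¹
  have hb' : Set.range (b⁻¹).left ⊆ Set.range c.left := by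
    rintro _ ⟨q, rfl⟩
    have : (b⁻¹ : Y ⟶ G) = b ≫ ι[G] := Hom.inv_def b
    rw [this]
    exact (hb ⟨q, rfl⟩).2
  obtain ⟨za, hza⟩ := H21Rank1.exists_lift_of_range_subset c a fun x hx => (ha hx).1
  obtain ⟨zb, hzb⟩ := H21Rank1.exists_lift_of_range_subset c b⁻¹ hb'
  have hkey : (p ≫ g) * (za ≫ c) = zb ≫ c := by
    rw [hza, hzb, eq_inv_iff_mul_eq_one, _root_.mul_assoc, ← hab, GrpObj.comp_inv, mul_inv_cancel]
  rw [show za ≫ c = _ from cell_point D en ep za, show zb ≫ c = _ from cell_point D en ep zb] at hkey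
  have e := central_aux (hg Y p _) hkey
  obtain ⟨vi, hvi⟩ := exists_inverse D hD.posn en hD.hn rfl fun k => (za ≫ fst _ _) ≫ pr (Red.Ga S) n k
  obtain ⟨v, hv⟩ := exists_mul D hD.posn en hD.hn rfl vi fun k => (zb ≫ fst _ _) ≫ pr (Red.Ga S) n k
  obtain ⟨wi, hwi⟩ := exists_inverse D hD.posp ep hD.hp rfl fun k => (za ≫ snd _ _ ≫ snd _ _) ≫ pr (Red.Ga S) m k
  obtain ⟨w₀, hw₀⟩ := exists_mul D hD.posp ep hD.hp rfl (fun k => (zb ≫ snd _ _ ≫ snd _ _) ≫ pr (Red.Ga S) m k) wi
  let ta := za ≫ snd _ _ ≫ fst _ _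
  let tb := zb ≫ snd _ _ ≫ fst _ _
  obtain ⟨w, hw⟩ := exists_torus_conj D ep ta w₀
  let z : Y ⟶ RedSub.pow (Red.Ga S) n ⊗ (D.T ⊗ RedSub.pow (Red.Ga S) m) :=
    lift (tuple n v) (lift (tb * ta⁻¹) (tuple m w))
  have hz : z ≫ c = p ≫ g := by
    rw [e, show z ≫ c = _ from cell_point D en ep z]
    simp only [z, lift_fst, lift_snd_assoc, lift_snd, tuple_pr]
    rw [hv, hvi, hw, hw₀, hwi, MonObj.mul_comp, GrpObj.inv_comp]
    exact regroup_cell' _ _ _ _ _ _
  haveI := hp'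
  rintro _ ⟨x, rfl⟩
  obtain ⟨y, rfl⟩ := p.left.surjective x
  exact ⟨z.left y, congrArg (fun f : Y ⟶ G => f.left y) hz⟩

theorem eq_one_of_gmFn {X : Over S} (t : X ⟶ Red.Gm S) (h : Red.gmFn t = 1) : t = 1 :=
  H21Rank1.gmFn_injective (by rw [h, H21Rank1.gmFn_one])

set_option maxHeartbeats 1600000 in
/-- a central point lies on the torus and all roots are trivial on it -/
theorem exists_torus_of_central {X : Over S} (g : X ⟶ G)
    (hg : ∀ (X' : Over S) (x : X' ⟶ X) (h : X' ⟶ G), (x ≫ g) * h = h * (x ≫ g)) :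
    ∃ t : X ⟶ D.T, t ≫ D.i = g ∧ ∀ a : D.idx, t ≫ D.split.hom.hom.hom ≫ Red.chi S (D.P.root a) = 1 := by
  haveI := isAffineHom_hom D
  obtain ⟨n, m, en, ep, hD, hbij⟩ := exists_cell D
  haveI := isOpenImmersion_cellMap D en ep hD hbij
  obtain ⟨z, hz⟩ := H21Rank1.exists_lift_of_range_subset (RedSub.cellMap D en ep) g
    (range_subset_of_central D hD hbij g hg)
  obtain ⟨h, hneg, hpos⟩ := hD.functional
  have hzero : ∀ (R : Type u) [CommRing R] (g₀ : Spec (CommRingCat.of R) ⟶ S) (j : pt g₀ R ⟶ X),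
      gvs g₀ ((j ≫ z) ≫ fst _ _) = 0 ∧ gvs g₀ ((j ≫ z) ≫ snd _ _ ≫ snd _ _) = 0 := by
    intro R _ g₀ j
    obtain ⟨χ, hχ⟩ := exists_tPt g₀ D ((j ≫ z) ≫ snd _ _ ≫ fst _ _)
    have hc : j ≫ g = cellPt g₀ D en ep (gvs g₀ ((j ≫ z) ≫ fst _ _)) χ (gvs g₀ ((j ≫ z) ≫ snd _ _ ≫ snd _ _)) := by
      rw [← hz, ← Category.assoc, comp_cellMap g₀ D en ep (j ≫ z) χ hχ]
    set x := gvs g₀ ((j ≫ z) ≫ fst _ _)
    set y := gvs g₀ ((j ≫ z) ≫ snd _ _ ≫ snd _ _)
    have hcomm := hg (pt g₀ (LaurentPolynomial R)) (pmap g₀ (lconst R R) ≫ j) (tPt g₀ D (cz R D h))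
    rw [Category.assoc, hc, pmap_cellPt] at hcomm
    set χ' := (lconst R R).toRingHom.toMonoidHom.comp χ
    have e2 : cellPt g₀ D en ep (fun k => lconst R R (x k)) χ' (fun k => lconst R R (y k)) =
        cellPt g₀ D en ep (fun k => cz R D h (Multiplicative.ofAdd (D.P.root (en k))) * lconst R R (x k)) χ'
          (fun k => cz R D h (Multiplicative.ofAdd (D.P.root (ep k))) * lconst R R (y k)) := by
      have h0 := mul_inv_eq_iff_eq_mul.mpr hcomm.symm |>.symm
      refine h0.trans ?_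
      rw [cellPt, cellPt, ← tPt_conj_uProd, ← tPt_conj_uProd, ← conj_mul3, ← conj_mul3,
        (tPt_commute g₀ D (cz R D h) χ').eq, mul_inv_cancel_right]
    obtain ⟨h1, -, h2⟩ := cellPt_injective g₀ D hD e2
    have hT : ∀ (k : ℤ) (b : R), k ≠ 0 →
        lconst R R b = LaurentPolynomial.T k * lconst R R b → b = 0 := fun k b hk hb => by
      rw [lconst_apply, mul_comm, ← LaurentPolynomial.single_eq_C_mul_T] at hb
      have := congrArg (fun z : LaurentPolynomial R => z.coeff 0) hb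
      rwa [LaurentPolynomial.C_apply, if_pos rfl, AddMonoidAlgebra.coeff_single,
        Finsupp.single_eq_of_ne (Ne.symm hk)] at this
    exact ⟨funext fun k => hT _ _ (hneg k).ne (congrFun h1 k), funext fun k => hT _ _ (hpos k).ne' (congrFun h2 k)⟩
  have hn1 : ∀ k, (z ≫ fst _ _) ≫ pr (Red.Ga S) n k = 1 := fun k => hom_ext_pt fun R _ g₀ j => by
    rw [MonObj.comp_one]
    refine gv_injective g₀ ?_
    have := congrFun (hzero R g₀ j).1 k
    simp only [gvs, Category.assoc, Pi.zero_apply] at this ⊢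
    rw [this, gv_def, gaFn_one, map_zero]
  have hp1 : ∀ k, (z ≫ snd _ _ ≫ snd _ _) ≫ pr (Red.Ga S) m k = 1 := fun k => hom_ext_pt fun R _ g₀ j => by
    rw [MonObj.comp_one]
    refine gv_injective g₀ ?_
    have := congrFun (hzero R g₀ j).2 k
    simp only [gvs, Category.assoc, Pi.zero_apply] at this ⊢
    rw [this, gv_def, gaFn_one, map_zero]
  have ht : (z ≫ snd _ _ ≫ fst _ _) ≫ D.i = g := by
    exact triv_ends (hz.symm.trans (cell_point D en ep z)) (xProd_one D en _ hn1) (xProd_one D ep _ hp1)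
  refine ⟨z ≫ snd _ _ ≫ fst _ _, ht, fun a => ?_⟩
  set t := z ≫ snd _ _ ≫ fst _ _
  refine eq_one_of_gmFn _ ?_
  obtain ⟨e₁, he₁⟩ := gaFn_surjective (X := X) 1
  obtain ⟨y, hy, hy2⟩ := (D.rootHom a).2.2 X t e₁
  haveI := mono_u D a
  have hc := hg X (𝟙 X) (e₁ ≫ D.u a)
  rw [Category.id_comp, ← ht] at hc
  rw [hc, mul_inv_cancel_right] at hy
  rw [(cancel_mono (D.u a)).mp hy, he₁, _root_.mul_one] at hy2
  exact hy2.symm

end Groth.Agent.H21Split
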