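import Groth.Agent.H21Split.DualAt
import Groth.Agent.H21Rank1.Generate

/-!
Over a faithfully flat algebra a given point carries some point of a neighbourhood of the unit into it.
-/

open CategoryTheory MonoidalCategory CartesianMonoidalCategory MonObj GrpObj AlgebraicGeometry
open CategoryTheory.Limits

universe u

set_option backward.isDefEq.respectTransparency false
set_option linter.style.haveILetI false
set_option linter.unusedSectionVars false
set_option synthInstance.maxHeartbeats 400000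

noncomputable section

namespace Groth.Agent.H21Split

/-- an affine faithfully flat refinement of an open flat surjection onto an affine scheme -/
theorem exists_affine_ff {R : Type u} [CommRing R] {Y : Scheme.{u}} (f : Y ⟶ Spec (CommRingCat.of R)) [Flat f]
    [Surjective f] (hopen : IsOpenMap f.base) :
    ∃ (R' : Type u) (_ : CommRing R') (_ : Algebra R R'), Module.FaithfullyFlat R R' ∧
      ∃ v : Spec (CommRingCat.of R') ⟶ Y, v ≫ f = Spec.map (CommRingCat.ofHom (algebraMap R R')) := by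
  classical
  obtain ⟨t, ht⟩ := isCompact_univ.elim_finite_subcover (fun W : Y.affineOpens => f.base '' (W.1 : Set Y))
    (fun W => hopen _ W.1.2) (fun x _ => by
      obtain ⟨y, rfl⟩ := f.surjective x
      obtain ⟨W, hW, hyW, -⟩ := exists_isAffineOpen_mem_and_subset (X := Y) (x := y) (U := ⊤) trivial
      exact Set.mem_iUnion.mpr ⟨⟨W, hW⟩, ⟨y, hyW, rfl⟩⟩)
  haveI : ∀ W : t, IsAffine (W.1.1 : Y.Opens).toScheme := fun W => W.1.2
  let T := ∐ fun W : t => ((W.1.1 : Y.Opens) : Scheme.{u})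
  let v : T ⟶ Y := Sigma.desc fun W : t => (W.1.1 : Y.Opens).ι
  haveI : Flat v := inferInstance
  haveI : Surjective (v ≫ f) := ⟨fun x => by
    obtain ⟨W, hW, hx⟩ := Set.mem_iUnion₂.mp (ht (Set.mem_univ x))
    obtain ⟨y, hy, rfl⟩ := hx
    refine ⟨Sigma.ι (fun W : t => ((W.1.1 : Y.Opens) : Scheme.{u})) ⟨W, hW⟩ ⟨y, hy⟩, ?_⟩
    change (Sigma.ι (fun W : t => ((W.1.1 : Y.Opens) : Scheme.{u})) ⟨W, hW⟩ ≫ v ≫ f) ⟨y, hy⟩ = f y
    rw [Sigma.ι_desc_assoc]
    rfl⟩
  let w : Spec Γ(T, ⊤) ⟶ Spec (CommRingCat.of R) := T.isoSpec.inv ≫ v ≫ f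
  haveI : Flat w := inferInstance
  haveI : Surjective w := inferInstance
  let φ : CommRingCat.of R ⟶ Γ(T, ⊤) := Spec.preimage w
  have hw : Spec.map φ = w := Spec.map_preimage w
  have hff : φ.hom.FaithfullyFlat := (flat_and_surjective_SpecMap_iff φ).mp ⟨hw ▸ inferInstance, hw ▸ inferInstance⟩
  letI : Algebra R Γ(T, ⊤) := φ.hom.toAlgebra
  refine ⟨Γ(T, ⊤), inferInstance, inferInstance, hff, T.isoSpec.inv ≫ v, ?_⟩
  exact (Category.assoc _ _ _).trans hw.symm

variable {S : Scheme.{u}}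

/-- a neighbourhood of the unit and its translate meet after an open flat surjective base change -/
theorem exists_split_open {G : Over S} [GrpObj G] [GeometricallyIrreducible G.hom] [Flat G.hom]
    [UniversallyOpen G.hom] (U : G.left.Opens) (hU : ∀ s : S, η[G].left s ∈ U) {Y : Over S} (g : Y ⟶ G) :
    ∃ (Y' : Over S) (p : Y' ⟶ Y) (a b : Y' ⟶ G), Flat p.left ∧ Surjective p.left ∧ IsOpenMap p.left.base ∧
      Set.range a.left ⊆ U ∧ Set.range b.left ⊆ U ∧ p ≫ g = a * b := by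
  have hτ := H21Rank1.translate_self g
  let τ : Y ⊗ G ⟶ G := (fst Y G ≫ g) * (snd Y G)⁻¹
  let W : (Y ⊗ G).left.Opens := τ.left ⁻¹ᵁ U ⊓ (snd Y G).left ⁻¹ᵁ U
  let Y' : Over S := Over.mk (W.ι ≫ (Y ⊗ G).hom)
  let j : Y' ⟶ Y ⊗ G := Over.homMk W.ι rfl
  refine ⟨Y', j ≫ fst Y G, j ≫ τ, j ≫ snd Y G, ?_, ⟨fun y => ?_⟩, ?_, ?_, ?_, (H21Rank1.translate_split j g).symm⟩
  · change Flat (W.ι ≫ pullback.fst Y.hom G.hom)
    infer_instance
  · have hirr : IsIrreducible ((pullback.fst Y.hom G.hom) ⁻¹' {y}) :=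
      (pullback.fst Y.hom G.hom).isIrreducible_preimage (pullback.fst Y.hom G.hom).isOpenMap isIrreducible_singleton
    have h1 : (((pullback.fst Y.hom G.hom) ⁻¹' {y}) ∩ ((snd Y G).left ⁻¹ᵁ U : Set (Y ⊗ G).left)).Nonempty := by
      refine ⟨(lift (𝟙 Y) (1 : Y ⟶ G)).left y, ?_, ?_⟩
      · change ((lift (𝟙 Y) (1 : Y ⟶ G)) ≫ fst Y G).left y = y
        rw [lift_fst]; rfl
      · change ((lift (𝟙 Y) (1 : Y ⟶ G)) ≫ snd Y G).left y ∈ U
        rw [lift_snd, H21Rank1.one_left_apply]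
        exact hU _
    have h2 : (((pullback.fst Y.hom G.hom) ⁻¹' {y}) ∩ (τ.left ⁻¹ᵁ U : Set (Y ⊗ G).left)).Nonempty := by
      refine ⟨(lift (𝟙 Y) g).left y, ?_, ?_⟩
      · change ((lift (𝟙 Y) g) ≫ fst Y G).left y = y
        rw [lift_fst]; rfl
      · change ((lift (𝟙 Y) g) ≫ τ).left y ∈ U
        rw [hτ, H21Rank1.one_left_apply]
        exact hU _
    obtain ⟨q, hq, hqa, hqb⟩ := hirr.2 _ _ (τ.left ⁻¹ᵁ U).isOpen ((snd Y G).left ⁻¹ᵁ U).isOpen h2 h1
    exact ⟨⟨q, hqa, hqb⟩, hq⟩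
  · change IsOpenMap (W.ι ≫ pullback.fst Y.hom G.hom)
    exact (W.ι ≫ pullback.fst Y.hom G.hom).isOpenMap
  · rintro _ ⟨q, rfl⟩; exact q.2.1
  · rintro _ ⟨q, rfl⟩; exact q.2.2

/-- over a faithfully flat algebra a point carries a point of an open subscheme around the unit into it -/
theorem exists_ff_translate {G Z : Over S} [GrpObj G] [GeometricallyIrreducible G.hom] [Flat G.hom]
    [UniversallyOpen G.hom] (c : Z ⟶ G) [IsOpenImmersion c.left]
    (hc : ∀ s : S, η[G].left s ∈ Set.range c.left.base) {R : Type u} [CommRing R]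
    (g : Spec (CommRingCat.of R) ⟶ S) (n : 𝟙_ (Over S) ⟶ G) :
    ∃ (R' : Type u) (_ : CommRing R') (_ : Algebra R R'), Module.FaithfullyFlat R R' ∧
      ∃ z z' : pt (Spec.map (CommRingCat.ofHom (algebraMap R R')) ≫ g) R' ⟶ Z,
        (toUnit _ ≫ n) * (z ≫ c) = z' ≫ c := by
  let U : G.left.Opens := c.left.opensRange ⊓ (ι[G]).left ⁻¹ᵁ c.left.opensRange
  have hU : ∀ s : S, η[G].left s ∈ U := fun s => ⟨hc s, by
    change (η[G] ≫ ι[G]).left s ∈ Set.range c.left.base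
    rw [GrpObj.one_inv]
    exact hc s⟩
  let gg : pt g R ⟶ G := (toUnit (pt g R) ≫ n)⁻¹
  obtain ⟨Y', p, a, b, hp, hp', hopen, ha, hb, hab⟩ := exists_split_open U hU gg
  haveI := hp
  haveI := hp'
  have hb' : Set.range (b⁻¹).left ⊆ Set.range c.left := by
    rintro _ ⟨q, rfl⟩
    have : (b⁻¹ : Y' ⟶ G) = b ≫ ι[G] := Hom.inv_def b
    rw [this]
    exact (hb ⟨q, rfl⟩).2
  obtain ⟨za, hza⟩ := H21Rank1.exists_lift_of_range_subset c a fun x hx => (ha hx).1
  obtain ⟨zb, hzb⟩ := H21Rank1.exists_lift_of_range_subset c b⁻¹ hb'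
  have hkey : (toUnit Y' ≫ n) * (za ≫ c) = zb ≫ c := by
    have h1 : p ≫ gg = (toUnit Y' ≫ n)⁻¹ := by
      rw [GrpObj.comp_inv, ← Category.assoc, toUnit_unique (p ≫ toUnit _) (toUnit _)]
    rw [hza, hzb]
    rw [h1] at hab
    rw [eq_inv_iff_mul_eq_one]
    calc (toUnit Y' ≫ n) * a * b = (toUnit Y' ≫ n) * (a * b) := _root_.mul_assoc _ _ _
      _ = 1 := by rw [← hab, mul_inv_cancel]
  let f : Y'.left ⟶ Spec (CommRingCat.of R) := p.left
  obtain ⟨R', _, _, hff, v, hv⟩ := exists_affine_ff f hopen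
  refine ⟨R', inferInstance, inferInstance, hff, ?_⟩
  let g' := Spec.map (CommRingCat.ofHom (algebraMap R R')) ≫ g
  have e : Spec.map (CommRingCat.ofHom (algebraMap R' R')) = 𝟙 _ := Spec.map_id (CommRingCat.of R')
  let j : pt g' R' ⟶ Y' := Over.homMk v (by
    have hw : f ≫ (pt g R).hom = Y'.hom := Over.w p
    change v ≫ Y'.hom = Spec.map (CommRingCat.ofHom (algebraMap R' R')) ≫ g'
    rw [← hw, reassoc_of% hv, e, Category.id_comp]
    simp [g'])
  refine ⟨j ≫ za, j ≫ zb, ?_⟩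
  rw [Category.assoc, Category.assoc, ← hkey, MonObj.comp_mul, ← Category.assoc j (toUnit Y'),
    toUnit_unique (j ≫ toUnit Y') (toUnit _)]

end Groth.Agent.H21Split
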