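import Groth.Agent.H21Split.DualBase
import Groth.Agent.H21Split.FFPoint
import Groth.Agent.H21Split.HomExt

/-!
The rank one relation of every root over every test ring.
-/

open CategoryTheory MonoidalCategory CartesianMonoidalCategory MonObj GrpObj AlgebraicGeometry
open Groth.Agent.H27Witt.GaCoord (gaFn_comp gaFn_surjective gaFn_injective gaFn_one)

universe u

set_option backward.isDefEq.respectTransparency false
set_option linter.style.haveILetI false
set_option linter.unusedSectionVars false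
set_option synthInstance.maxHeartbeats 400000

noncomputable section

namespace Groth.Agent.H21Split

variable {S : Scheme.{u}} {G : Over S} [GrpObj G] (D : Red.SplitRed G)
variable {R : Type u} [CommRing R] (g : Spec (CommRingCat.of R) ⟶ S)

theorem exists_isSide (h : D.M →+ ℤ) : ∃ (n : ℕ) (e : Fin n → D.idx), IsSide D h e := by
  haveI := D.fintypeIdx
  obtain ⟨n, e, he⟩ := exists_enumerates D {b | 0 < h (D.P.root b)}
  exact ⟨n, e, he⟩

/-- the cell adapted to a pair -/
theorem isCellData_levi {d c : D.idx} {h : D.M →+ ℤ} (hl : IsLevi D d c h) {m n : ℕ} {eV : Fin m → D.idx}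
    {eW : Fin n → D.idx} (hV : IsSide D (-h) eV) (hW : IsSide D h eW) :
    IsCellData D (Fin.snoc eV d) (Fin.cons c eW) ∧ Function.Bijective (Sum.elim (Fin.snoc eV d) (Fin.cons c eW)) := by
  classical
  haveI := D.fintypeIdx
  let ψ : D.M →+ ℤ := (D.P.coroot c).toAddMonoidHom
  let K : ℤ := 1 + ∑ b, |ψ (D.P.root b)|
  have hc2 : ψ (D.P.root c) = 2 := by
    change D.P.coroot c (D.P.root c) = 2
    rw [coroot_apply, D.P.root_coroot'_eq_pairing, D.P.pairing_same]
  have hd2 : ψ (D.P.root d) = -2 := by rw [hl.1, map_neg, hc2]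
  have hK : ∀ b, |ψ (D.P.root b)| < K := fun b => by
    have := Finset.single_le_sum (f := fun x => |ψ (D.P.root x)|) (fun x _ => abs_nonneg _) (Finset.mem_univ b)
    simp only [K]
    omega
  have hVm : ∀ k, h (D.P.root (eV k)) < 0 := fun k => by
    have : eV k ∈ {b | 0 < (-h) (D.P.root b)} := hV.2 ▸ ⟨k, rfl⟩
    simpa using this
  have hWm : ∀ k, 0 < h (D.P.root (eW k)) := fun k => (hW.2 ▸ ⟨k, rfl⟩ : eW k ∈ {b | 0 < h (D.P.root b)})
  have hneg : ∀ k, (K • h + ψ) (D.P.root ((Fin.snoc eV d : Fin (m + 1) → D.idx) k)) < 0 := by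
    intro k
    simp only [AddMonoidHom.add_apply, AddMonoidHom.smul_apply, smul_eq_mul]
    induction k using Fin.lastCases with
    | last => rw [Fin.snoc_last, hl.symm.2.1, hd2]; norm_num
    | cast k =>
      rw [Fin.snoc_castSucc]
      have := abs_lt.mp (hK (eV k))
      nlinarith [hVm k]
  have hpos : ∀ k, 0 < (K • h + ψ) (D.P.root ((Fin.cons c eW : Fin (n + 1) → D.idx) k)) := by
    intro k
    simp only [AddMonoidHom.add_apply, AddMonoidHom.smul_apply, smul_eq_mul]
    induction k using Fin.cases with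
    | zero => rw [Fin.cons_zero, hl.2.1, hc2]; norm_num
    | succ k =>
      rw [Fin.cons_succ]
      have := abs_lt.mp (hK (eW k))
      nlinarith [hWm k]
  have hn : Function.Injective (Fin.snoc eV d : Fin (m + 1) → D.idx) := Fin.snoc_injective_iff.mpr ⟨hV.1, fun ⟨k, hk⟩ => by
    have := hVm k
    rw [hk, hl.symm.2.1] at this
    omega⟩
  have hp : Function.Injective (Fin.cons c eW : Fin (n + 1) → D.idx) := Fin.cons_injective_iff.mpr ⟨fun ⟨k, hk⟩ => by
    have := hWm k
    rw [hk, hl.2.1] at this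
    omega, hW.1⟩
  refine ⟨⟨hn, hp, ?_, ?_, K • h + ψ, hneg, hpos⟩, ?_, ?_⟩
  · rw [Fin.range_snoc, hV.2]
    exact isPosSet_levi D hl.symm.neg
  · rw [Fin.range_cons, hW.2]
    exact isPosSet_levi D hl
  · refine hn.sumElim hp fun k l hkl => ?_
    have := hneg k
    rw [hkl] at this
    exact absurd (hpos l) (not_lt.mpr this.le)
  · intro b
    rcases lt_trichotomy (h (D.P.root b)) 0 with hb | hb | hb
    · obtain ⟨k, rfl⟩ : b ∈ Set.range eV := by rw [hV.2]; simpa using hb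
      exact ⟨Sum.inl k.castSucc, by simp⟩
    · rcases hl.2.2 b hb with rfl | rfl
      · exact ⟨Sum.inr 0, rfl⟩
      · exact ⟨Sum.inl (Fin.last m), by simp⟩
    · obtain ⟨k, rfl⟩ : b ∈ Set.range eW := by rw [hW.2]; exact hb
      exact ⟨Sum.inr k.succ, rfl⟩

variable [IsAffineHom G.hom]

theorem regroup {H : Type*} [Group H] (a b t c e : H) : a * b * (t * (c * e)) = a * (b * t * c) * e := by group

/-- a cell point of the adapted cell -/
theorem cell_levi_pt {d c : D.idx} {h : D.M →+ ℤ} (hl : IsLevi D d c h) {m n : ℕ} (eV : Fin m → D.idx)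
    (eW : Fin n → D.idx) {B : Type u} [CommRing B] [Algebra R B]
    (z : pt g B ⟶ RedSub.pow (Red.Ga S) (m + 1) ⊗ (D.T ⊗ RedSub.pow (Red.Ga S) (n + 1))) :
    ∃ (v : Fin m → (pt g B ⟶ Red.Ga S)) (y x : pt g B ⟶ Red.Ga S) (t : pt g B ⟶ D.T)
      (w : Fin n → (pt g B ⟶ Red.Ga S)),
      z ≫ RedSub.cellMap D (Fin.snoc eV d) (Fin.cons c eW) = xProd D eV v * mid D y t x hl * xProd D eW w := by
  obtain ⟨χ, hχ⟩ := exists_tPt g D (z ≫ snd _ _ ≫ fst _ _)
  rw [comp_cellMap g D _ _ z χ hχ, cellPt, hχ, uProd, uProd, List.ofFn_succ', List.ofFn_succ, List.concat_eq_append,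
    List.prod_append, List.prod_singleton, List.prod_cons]
  simp only [Fin.snoc_last, Fin.snoc_castSucc, Fin.cons_zero, Fin.cons_succ]
  exact ⟨fun k => ga g (gvs g (z ≫ fst _ _) k.castSucc), ga g (gvs g (z ≫ fst _ _) (Fin.last m)),
    ga g (gvs g (z ≫ snd _ _ ≫ snd _ _) 0), z ≫ snd _ _ ≫ fst _ _,
    fun k => ga g (gvs g (z ≫ snd _ _ ≫ snd _ _) k.succ), regroup _ _ _ _ _⟩

set_option maxHeartbeats 1600000 in
/-- over a faithfully flat extension the reflection point is a word in the pair -/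
theorem exists_word [D.P.IsReduced] {d c : D.idx} {h : D.M →+ ℤ} (hl : IsLevi D d c h) (nn : 𝟙_ (Over S) ⟶ G)
    (hn : ∀ (X : Over S) (t : X ⟶ D.T), (toUnit X ≫ nn) * (t ≫ D.i) * (toUnit X ≫ nn)⁻¹ =
      t ≫ D.split.hom.hom.hom ≫ Red.DSmap S (D.P.reflection c).toLinearMap.toAddMonoidHom ≫
        D.split.inv.hom.hom ≫ D.i) :
    ∃ (R' : Type u) (_ : CommRing R') (_ : Algebra R R'), Module.FaithfullyFlat R R' ∧
      ∃ p q r : R', ActsBy (Spec.map (CommRingCat.ofHom (algebraMap R R')) ≫ g) D c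
        (uPt (Spec.map (CommRingCat.ofHom (algebraMap R R')) ≫ g) D d p *
          uPt (Spec.map (CommRingCat.ofHom (algebraMap R R')) ≫ g) D c q *
          uPt (Spec.map (CommRingCat.ofHom (algebraMap R R')) ≫ g) D d r) := by
  obtain ⟨m, eV, hV⟩ := exists_isSide D (-h)
  obtain ⟨n, eW, hW⟩ := exists_isSide D h
  obtain ⟨hD, hbij⟩ := isCellData_levi D hl hV hW
  haveI := smooth_hom D
  haveI := H21Rank1.geometricallyIrreducible_of_isReductive D.reductive
  haveI := isOpenImmersion_cellMap D _ _ hD hbij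
  obtain ⟨R', _, _, hff, z, z', hz⟩ := exists_ff_translate (RedSub.cellMap D (Fin.snoc eV d) (Fin.cons c eW))
    (eta_mem_range D _ _) g nn
  refine ⟨R', inferInstance, inferInstance, hff, ?_⟩
  let g' := Spec.map (CommRingCat.ofHom (algebraMap R R')) ≫ g
  obtain ⟨v, y, x, t, w, hv⟩ := cell_levi_pt D g' hl eV eW z
  obtain ⟨v', y', x', t', w', hv'⟩ := cell_levi_pt D g' hl eV eW z'
  rw [hv, hv'] at hz
  obtain ⟨v₁, w₁, P, Q, R₀, t₁, hs⟩ := exists_sandwich D hl hW hV nn hn hz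
  obtain ⟨χ, hχ⟩ := exists_tPt g' D t₁
  rw [xProd_pt, xProd_pt, ← hχ, ← ga_gv g' P, ← ga_gv g' Q, ← ga_gv g' R₀] at hs
  have hw := sandwich_eq_mid D hl g' hW hV nn hn (p := gv g' P) (q := gv g' Q) (r := gv g' R₀) hs
  obtain ⟨χi, hχi⟩ : ∃ χi, tPt g' D χi = (tPt g' D χ)⁻¹ := by
    obtain ⟨χi, h'⟩ := exists_tPt g' D (ds g' χ ≫ D.split.inv.hom.hom)⁻¹
    exact ⟨χi, h'.trans (by rw [GrpObj.inv_comp, tPt, Category.assoc])⟩
  refine ⟨χi (Multiplicative.ofAdd (D.P.root d)) * gv g' P, gv g' Q, gv g' R₀, fun B _ _ ξ => ?_⟩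
  have hN : uPt g' D d (χi (Multiplicative.ofAdd (D.P.root d)) * gv g' P) * uPt g' D c (gv g' Q) *
      uPt g' D d (gv g' R₀) = tPt g' D χi * (toUnit (pt g' R') ≫ nn) := by
    rw [hw, ← tPt_conj, hχi]; group
  rw [hN, MonObj.comp_mul, pmap_tPt]
  set T := tPt g' D ((toBase R' B).toRingHom.toMonoidHom.comp χi)
  have hT := actsBy_of_global g' D c nn hn B ξ
  calc T * (pmap g' (toBase R' B) ≫ toUnit (pt g' R') ≫ nn) * tPt g' D ξ *
        (T * (pmap g' (toBase R' B) ≫ toUnit (pt g' R') ≫ nn))⁻¹ =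
      T * ((pmap g' (toBase R' B) ≫ toUnit (pt g' R') ≫ nn) * tPt g' D ξ *
        (pmap g' (toBase R' B) ≫ toUnit (pt g' R') ≫ nn)⁻¹) * T⁻¹ := by group
    _ = T * tPt g' D (ξ.comp (AddMonoidHom.toMultiplicative (sMap D c))) * T⁻¹ := by rw [hT]
    _ = _ := by rw [(tPt_commute g' D _ _).eq, mul_inv_cancel_right]

/-- every root has a rank one relation, with unit constant -/
theorem exists_dual [D.P.IsReduced] (a : D.idx) :
    ∃ k : R, Dual g D a (D.P.reflectionPerm a a) k ∧ IsUnit k := by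
  set c := D.P.reflectionPerm a a with hc
  have hdc : D.P.root a = -D.P.root c := by rw [hc, D.P.root_reflectionPerm, D.P.reflection_apply_self, neg_neg]
  obtain ⟨h, hl⟩ := exists_levi D a
  obtain ⟨nn, hn⟩ := D.refl c
  obtain ⟨R', _, _, hff, p, q, r, hact⟩ := exists_word D g hl.symm nn hn
  let g' := Spec.map (CommRingCat.ofHom (algebraMap R R')) ≫ g
  have key : ∀ (K : Type u) [CommRing K] [Algebra R' K] [Nontrivial K],
      algebraMap R' K p ≠ 0 ∧ algebraMap R' K q ≠ 0 := by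
    intro K _ _ _
    constructor <;> intro h0
    · refine not_actsBy_two g' D hdc (algebraMap R' K q) (algebraMap R' K r) ?_ hact
      simp only [MonObj.comp_mul, pmap_uPt, toBase, Algebra.ofId_apply, g', h0, uPt_zero, _root_.one_mul, ← hc]
    · refine not_actsBy_two g' D hdc 0 (algebraMap R' K p + algebraMap R' K r) ?_ hact
      simp only [MonObj.comp_mul, pmap_uPt, toBase, Algebra.ofId_apply, g', h0, uPt_zero, uPt_add, _root_.one_mul,
        _root_.mul_one, ← hc]
  have unit : ∀ x : R', (∀ (K : Type u) [CommRing K] [Algebra R' K] [Nontrivial K], algebraMap R' K x ≠ 0) →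
      IsUnit x := fun x hx => by
    by_contra hu
    obtain ⟨m, hm, hxm⟩ := exists_max_ideal_of_mem_nonunits (mem_nonunits_iff.mpr hu)
    haveI : Nontrivial (R' ⧸ m) := Ideal.Quotient.nontrivial_iff.mpr hm.ne_top
    exact hx (R' ⧸ m) (Ideal.Quotient.eq_zero_iff_mem.mpr hxm)
  obtain ⟨p', rfl⟩ := unit p fun K _ _ _ => (key K).1
  obtain ⟨q', rfl⟩ := unit q fun K _ _ _ => (key K).2
  have hd := dual_of_word g' D hdc p' q' hact
  obtain ⟨k, hk⟩ := exists_dual_of_ff g D hdc hd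
  refine ⟨k, hk, ?_⟩
  have he := Dual.unique g' D hdc (hk.map g D) hd
  obtain ⟨m, hm, hkm⟩ | hu := (em (∃ m : Ideal R, m.IsMaximal ∧ k ∈ m))
  · obtain ⟨Q, hQ⟩ := PrimeSpectrum.comap_surjective_of_faithfullyFlat (B := R') ⟨m, hm.isPrime⟩
    have hkQ : algebraMap R R' k ∈ Q.asIdeal := by
      have : m = Q.asIdeal.comap (algebraMap R R') := congrArg PrimeSpectrum.asIdeal hQ.symm
      rw [this] at hkm
      exact hkm
    rw [he] at hkQ
    exact absurd (Q.asIdeal.eq_top_of_isUnit_mem hkQ (IsUnit.neg (Units.isUnit _))) Q.2.ne_top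
  · by_contra hne
    obtain ⟨m, hm, hkm⟩ := exists_max_ideal_of_mem_nonunits (mem_nonunits_iff.mpr hne)
    exact hu ⟨m, hm, hkm⟩

end Groth.Agent.H21Split
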