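import Groth.Agent.H21Split.Bridge

/-!
The commutator formula for two root homomorphisms.
-/

open CategoryTheory MonoidalCategory CartesianMonoidalCategory MonObj GrpObj AlgebraicGeometry
open CategoryTheory.Limits
open MvPolynomial (idealOfVars)

universe u

set_option backward.isDefEq.respectTransparency false
set_option linter.style.haveILetI false
set_option synthInstance.maxHeartbeats 400000

noncomputable section

namespace Groth.Agent.H21Split

variable {S : Scheme.{u}} {G : Over S} [GrpObj G] (D : Red.SplitRed G)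
variable {R : Type u} [CommRing R] (g : Spec (CommRingCat.of R) ⟶ S)

/-- exponents of two variables -/
def expo (i j : ℕ) : Fin 2 →₀ ℕ := Finsupp.single 0 i + Finsupp.single 1 j

theorem expo_apply_zero (i j : ℕ) : expo i j 0 = i := by simp [expo]
theorem expo_apply_one (i j : ℕ) : expo i j 1 = j := by simp [expo]

theorem eq_expo (ν : Fin 2 →₀ ℕ) : ν = expo (ν 0) (ν 1) := by
  ext k; fin_cases k <;> simp [expo]

theorem wt_expo (α β : D.idx) (ν : Fin 2 →₀ ℕ) :
    wt D ![D.P.root α, D.P.root β] ν = (ν 0 : ℤ) • D.P.root α + (ν 1 : ℤ) • D.P.root β := by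
  rw [wt, Finsupp.sum_fintype, Fin.sum_univ_two]
  · simp [natCast_zsmul]
  · simp

theorem conj_comm {H H' : Type*} [Group H] [Group H'] (F : H →* H') (a b : H) :
    F (b⁻¹ * (a * b * a⁻¹)) = (F b)⁻¹ * (F a * F b * (F a)⁻¹) := by simp [map_mul, map_inv]

section

variable [IsAffineHom G.hom]

/-- The commutator formula over a test ring: existence and uniqueness of the coefficients. -/
theorem existsUnique_comm_core (α β : D.idx)
    (hne : ∀ p q : ℕ, 1 ≤ p → 1 ≤ q → (p : ℤ) • D.P.root α + (q : ℤ) • D.P.root β ≠ 0)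
    {n : ℕ} (e : Fin n → D.idx) (i j : Fin n → ℕ) (he : Function.Injective e)
    (hij : ∀ k, 1 ≤ i k ∧ 1 ≤ j k ∧ D.P.root (e k) = (i k : ℤ) • D.P.root α + (j k : ℤ) • D.P.root β)
    (hall : ∀ (c : D.idx) (p q : ℕ), 1 ≤ p → 1 ≤ q →
      D.P.root c = (p : ℤ) • D.P.root α + (q : ℤ) • D.P.root β → ∃ k, e k = c ∧ i k = p ∧ j k = q) :
    ∃! C : Fin n → R, ∀ (B : Type u) [CommRing B] [Algebra R B] (x y : B),
      uPt g D α x * uPt g D β y * (uPt g D α x)⁻¹ =
        uPt g D β y * (List.ofFn fun k => uPt g D (e k) (algebraMap R B (C k) * x ^ i k * y ^ j k)).prod := by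
  let w : Fin 2 → D.M := ![D.P.root α, D.P.root β]
  let ν : Fin n → (Fin 2 →₀ ℕ) := fun k => expo (i k) (j k)
  let xα : pt g (MvPolynomial (Fin 2) R) ⟶ G := uPt g D α (MvPolynomial.X 0)
  let xβ : pt g (MvPolynomial (Fin 2) R) ⟶ G := uPt g D β (MvPolynomial.X 1)
  let c : pt g (MvPolynomial (Fin 2) R) ⟶ G := xβ⁻¹ * (xα * xβ * xα⁻¹)
  have hν : ∀ k, ν k ≠ 0 := fun k h => by
    have := congrArg (fun f : Fin 2 →₀ ℕ => f 0) h
    simp only [ν, expo_apply_zero, Finsupp.coe_zero, Pi.zero_apply] at this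
    have := (hij k).1; omega
  have hek : ∀ k, D.P.root (e k) = wt D w (ν k) := fun k => by
    rw [wt_expo, expo_apply_zero, expo_apply_one]; exact (hij k).2.2
  have hinj : Function.Injective fun k => (e k, ν k) := fun k l h => he (congrArg Prod.fst h)
  have hX : ∀ k : Fin 2, (MvPolynomial.X k : MvPolynomial (Fin 2) R) = MvPolynomial.monomial (Finsupp.single k 1) 1 :=
    fun k => rfl
  have hEα : IsEquivariant g D w xα := by
    show IsEquivariant g D w (uPt g D α (MvPolynomial.X 0))
    rw [hX]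
    exact isEquivariant_monomial g D w α _ (by simp [wt, w]) _
  have hEβ : IsEquivariant g D w xβ := by
    show IsEquivariant g D w (uPt g D β (MvPolynomial.X 1))
    rw [hX]
    exact isEquivariant_monomial g D w β _ (by simp [wt, w]) _
  have hEc : IsEquivariant g D w c :=
    isEquivariant_mul g D (isEquivariant_inv g D hEβ)
      (isEquivariant_mul g D (isEquivariant_mul g D hEα hEβ) (isEquivariant_inv g D hEα))
  have hmap : ∀ (B : Type u) [CommRing B] [Algebra R B] (f : MvPolynomial (Fin 2) R →ₐ[R] B),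
      pmap g f ≫ c = (uPt g D β (f (MvPolynomial.X 1)))⁻¹ * (uPt g D α (f (MvPolynomial.X 0)) *
        uPt g D β (f (MvPolynomial.X 1)) * (uPt g D α (f (MvPolynomial.X 0)))⁻¹) := by
    intro B _ _ f
    rw [← preHom_apply, conj_comm]
    simp only [preHom_apply, xα, xβ, pmap_uPt]
  have hkill : ∀ k ∈ (Set.univ : Set (Fin 2)), pmap g (kill R k) ≫ c = 1 := by
    intro k _
    rw [hmap]
    fin_cases k <;> simp [kill, uPt_zero]
  have h0 : ∀ a, dev g c a ∈ idealOfVars (Fin 2) R ^ 1 := by
    refine dev_mem_of_pmap_eq_one g _ ?_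
    rw [hmap, pow_one]
    have hz : ∀ k : Fin 2, Ideal.Quotient.mkₐ R (idealOfVars (Fin 2) R) (MvPolynomial.X k) = 0 := fun k =>
      Ideal.Quotient.eq_zero_iff_mem.mpr (Ideal.subset_span ⟨k, rfl⟩)
    simp [hz, uPt_zero]
  obtain ⟨C, hC⟩ := exists_eq_monProd g D w e ν Set.univ
    (fun k l _ => by fin_cases l <;> simp [ν, expo] <;> (have := hij k; omega)) hν hek hinj
    (fun ν' _ hz => by
      rw [wt_expo]
      exact hne _ _ (Nat.one_le_iff_ne_zero.mpr (hz 0 trivial)) (Nat.one_le_iff_ne_zero.mpr (hz 1 trivial)))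
    (fun a ν' _ hz ha => by
      rw [wt_expo] at ha
      obtain ⟨k, h1, h2, h3⟩ := hall a _ _ (Nat.one_le_iff_ne_zero.mpr (hz 0 trivial))
        (Nat.one_le_iff_ne_zero.mpr (hz 1 trivial)) ha
      exact ⟨k, h1, by rw [eq_expo ν']; simp only [ν, h2, h3]⟩)
    hEc hkill h0
  have heval : ∀ (C : Fin n → R) (B : Type u) [CommRing B] [Algebra R B] (x y : B),
      pmap g (MvPolynomial.aeval ![x, y]) ≫ monProd g D e ν C =
        (List.ofFn fun k => uPt g D (e k) (algebraMap R B (C k) * x ^ i k * y ^ j k)).prod := by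
    intro C B _ _ x y
    rw [pmap_monProd]
    congr
    funext k
    congr 1
    rw [MvPolynomial.aeval_monomial, Finsupp.prod_fintype _ _ (fun _ => pow_zero _), Fin.prod_univ_two]
    simp [ν, expo, _root_.mul_assoc]
  refine ⟨C, fun B _ _ x y => ?_, fun C' hC' => ?_⟩
  · have h1 := hmap B (MvPolynomial.aeval ![x, y])
    rw [hC, heval] at h1
    simp only [MvPolynomial.aeval_X, Matrix.cons_val_zero, Matrix.cons_val_one] at h1
    rw [h1]
    exact (mul_inv_cancel_left _ _).symm
  · refine monProd_injective g D w e ν hν hek hinj ?_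
    rw [← hC]
    have h2 := hC' (MvPolynomial (Fin 2) R) (MvPolynomial.X 0) (MvPolynomial.X 1)
    have h3 : monProd g D e ν C' = (List.ofFn fun k => uPt g D (e k)
        (algebraMap R _ (C' k) * MvPolynomial.X 0 ^ i k * MvPolynomial.X 1 ^ j k)).prod := by
      rw [← heval C' (MvPolynomial (Fin 2) R) (MvPolynomial.X 0) (MvPolynomial.X 1),
        show MvPolynomial.aeval ![(MvPolynomial.X 0 : MvPolynomial (Fin 2) R), MvPolynomial.X 1] =
          AlgHom.id R _ from MvPolynomial.algHom_ext fun k => by fin_cases k <;> simp,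
        pmap_id, Category.id_comp]
    show _ = xβ⁻¹ * (xα * xβ * xα⁻¹)
    rw [h2, inv_mul_cancel_left, h3]

end

/-- The formula with values in schemes over an affine test scheme. -/
def CommFormula (α β : D.idx) {n : ℕ} (e : Fin n → D.idx) (i j : Fin n → ℕ) (C : Fin n → R) : Prop :=
  ∀ (X : Over S) (h : X ⟶ Over.mk g) (x y : X ⟶ Red.Ga S) (z : Fin n → (X ⟶ Red.Ga S)),
    (∀ k, Red.gaFn (z k) = h.left.appTop ((Scheme.ΓSpecIso (CommRingCat.of R)).inv (C k)) *
      Red.gaFn x ^ i k * Red.gaFn y ^ j k) →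
      (x ≫ D.u α) * (y ≫ D.u β) * (x ≫ D.u α)⁻¹ = (y ≫ D.u β) * (List.ofFn fun k => z k ≫ D.u (e k)).prod

/-- the formula over a test ring is the formula on all schemes over it -/
theorem commFormula_iff (α β : D.idx) {n : ℕ} (e : Fin n → D.idx) (i j : Fin n → ℕ) (C : Fin n → R) :
    (∀ (B : Type u) [CommRing B] [Algebra R B] (x y : B),
      uPt g D α x * uPt g D β y * (uPt g D α x)⁻¹ =
        uPt g D β y * (List.ofFn fun k => uPt g D (e k) (algebraMap R B (C k) * x ^ i k * y ^ j k)).prod) ↔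
      CommFormula D g α β e i j C := by
  constructor
  · intro hcore X h x y z hz
    refine hom_ext_pts fun B _ t q => ?_
    obtain ⟨_, ι', hiso, hι, hh⟩ := exists_chart_iso g (q ≫ h)
    haveI := hiso
    rw [← cancel_epi ι', ← Category.assoc, ← Category.assoc]
    have hx' : ∀ (x : X ⟶ Red.Ga S) (a : D.idx),
        (ι' ≫ q) ≫ x ≫ D.u a = uPt g D a (gv g (ι' ≫ q ≫ x)) := fun x a => by
      rw [uPt, ga_gv]
      simp only [Category.assoc]
    rw [MonObj.comp_mul, MonObj.comp_mul, MonObj.comp_mul, GrpObj.comp_inv, prod_comp]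
    simp only [hx']
    rw [hcore]
    congr
    funext k
    congr 1
    rw [gv_chart g ι' hι, gv_chart g ι' hι, gv_chart g ι' hι, H27Witt.GaCoord.gaFn_comp,
      H27Witt.GaCoord.gaFn_comp, H27Witt.GaCoord.gaFn_comp, hz k]
    simp only [map_mul, map_pow]
    congr 2
    refine (ConcreteCategory.congr_hom (?_ : CommRingCat.ofHom (algebraMap R B) =
      (Scheme.ΓSpecIso (CommRingCat.of R)).inv ≫ (q ≫ h).left.appTop ≫
        (Scheme.ΓSpecIso (CommRingCat.of B)).hom) (C k)).trans ?_
    · rw [hh, Scheme.ΓSpecIso_naturality, Iso.inv_hom_id_assoc]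
    · rfl
  · intro hP B _ _ x y
    let h : pt g B ⟶ Over.mk g := Over.homMk (Spec.map (CommRingCat.ofHom (algebraMap R B))) rfl
    have := hP (pt g B) h (ga g x) (ga g y) (fun k => ga g (algebraMap R B (C k) * x ^ i k * y ^ j k))
      fun k => by
        rw [gaFn_eq_of_gv g (gv_ga g _), gaFn_eq_of_gv g (gv_ga g x), gaFn_eq_of_gv g (gv_ga g y), map_mul,
          map_mul, map_pow, map_pow]
        congr 2
        exact ConcreteCategory.congr_hom
          (Scheme.ΓSpecIso_inv_naturality (CommRingCat.ofHom (algebraMap R B))) (C k)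
    exact this

end Groth.Agent.H21Split
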