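import Groth.Agent.H21Split.Dual
import Groth.Agent.H21Rank1.FFlat

/-!
Rescaling one root homomorphism so that a pair of opposite roots is in duality; Weyl elements of a split group.
-/

open CategoryTheory MonoidalCategory CartesianMonoidalCategory MonObj GrpObj AlgebraicGeometry
open Groth.Agent.H27Witt.GaCoord (gaFn_comp gaFn_surjective gaFn_injective gaFn_one)

universe u

set_option backward.isDefEq.respectTransparency false
set_option linter.style.haveILetI false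
set_option linter.unusedSectionVars false
set_option synthInstance.maxHeartbeats 400000

noncomputable section

namespace Groth.Agent.H21Split

variable {S : Scheme.{u}} {G : Over S} [GrpObj G] (D : Red.SplitRed G)

theorem isMonHom_scale (κ : 𝟙_ (Over S) ⟶ Red.Gm S) : IsMonHom (H21Rank1.powScale 1 κ) :=
  H21Rank1.powScale_isMonHom 1 (fun _ a b => by rw [pow_one, pow_one, pow_one]) κ

theorem isRootHom_scale (c : D.idx) (κ : 𝟙_ (Over S) ⟶ Red.Gm S) :
    Red.IsRootHom D.i (D.split.hom.hom.hom ≫ Red.chi S (D.P.root c)) (H21Rank1.powScale 1 κ ≫ D.u c) := by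
  haveI := isMonHom_scale (S := S) κ
  haveI := (H21Rank1.isIso_powScale κ).1
  haveI := (D.rootHom c).2.1
  refine ⟨inferInstance, ?_, fun X t x => ?_⟩
  · rw [Over.comp_left]
    infer_instance
  · obtain ⟨y, hy, hy2⟩ := (D.rootHom c).2.2 X t (x ≫ H21Rank1.powScale 1 κ)
    refine ⟨(y : X ⟶ Red.Ga S) ≫ inv (H21Rank1.powScale 1 κ), ?_, ?_⟩
    · rw [Category.assoc, IsIso.inv_hom_id_assoc, hy, Category.assoc]
    · have h1 := congrArg Red.gaFn (show (y ≫ inv (H21Rank1.powScale 1 κ)) ≫ H21Rank1.powScale 1 κ = y by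
        rw [Category.assoc, IsIso.inv_hom_id, Category.comp_id])
      rw [H21Rank1.comp_powScale, pow_one, hy2, H21Rank1.comp_powScale, pow_one, mul_left_comm] at h1
      exact (H21Rank1.isUnit_gmFn (toUnit X ≫ κ)).mul_left_cancel h1

open scoped Classical in
/-- the splitting with one root homomorphism rescaled -/
def rescale (c : D.idx) (κ : 𝟙_ (Over S) ⟶ Red.Gm S) : Red.SplitRed G :=
  { D with
    u := fun b => if b = c then H21Rank1.powScale 1 κ ≫ D.u c else D.u b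
    rootHom := fun b => by
      by_cases h : b = c
      · subst h
        simp only [if_pos]
        exact isRootHom_scale D b κ
      · simp only [if_neg h]
        exact D.rootHom b }

theorem rescale_u_of_ne {c b : D.idx} (h : b ≠ c) (κ : 𝟙_ (Over S) ⟶ Red.Gm S) : (rescale D c κ).u b = D.u b :=
  if_neg h

theorem rescale_u_self (c : D.idx) (κ : 𝟙_ (Over S) ⟶ Red.Gm S) :
    (rescale D c κ).u c = H21Rank1.powScale 1 κ ≫ D.u c := if_pos rfl

/-- a rescaling putting a pair of opposite roots in duality -/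
theorem exists_pairing [D.P.IsReduced] (a : D.idx) : ∃ κ : 𝟙_ (Over S) ⟶ Red.Gm S,
    ∀ (X : Over S) (x y : X ⟶ Red.Ga S), IsUnit (1 + Red.gaFn x * Red.gaFn y) →
      ∃ (x' y' : X ⟶ Red.Ga S) (z : X ⟶ Red.Gm S), Red.gmFn z = 1 + Red.gaFn x * Red.gaFn y ∧
        Red.gaFn x' * Red.gmFn z = Red.gaFn x ∧ Red.gaFn y' * Red.gmFn z = Red.gaFn y ∧
        (x ≫ D.u a) * (y ≫ H21Rank1.powScale 1 κ ≫ D.u (D.P.reflectionPerm a a)) =
          (y' ≫ H21Rank1.powScale 1 κ ≫ D.u (D.P.reflectionPerm a a)) *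
            (z ≫ (Red.DSmap S (D.P.coroot a).toAddMonoidHom ≫ D.split.inv.hom.hom) ≫ D.i) * (x' ≫ D.u a) := by
  obtain ⟨k, hku, hk⟩ := exists_pairing_const D a
  obtain ⟨κ, hκ⟩ := H21Rank1.gmFn_surjective (X := 𝟙_ (Over S))
    ((𝟙_ (Over S)).hom.appTop ↑hku.unit⁻¹) (hku.unit⁻¹.isUnit.map _)
  have hκX : ∀ (X : Over S), Red.gmFn (toUnit X ≫ κ) = X.hom.appTop ↑hku.unit⁻¹ := fun X => by
    rw [H21Rank1.gmFn_comp, hκ, appTop_hom_comp]
  refine ⟨κ, fun X x y hu => ?_⟩
  have hy1 : X.hom.appTop k * Red.gaFn (y ≫ H21Rank1.powScale 1 κ) = Red.gaFn y := by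
    rw [H21Rank1.comp_powScale, pow_one, hκX, ← _root_.mul_assoc, ← map_mul, hku.mul_val_inv, map_one, _root_.one_mul]
  have h1 : 1 + X.hom.appTop k * Red.gaFn x * Red.gaFn (y ≫ H21Rank1.powScale 1 κ) = 1 + Red.gaFn x * Red.gaFn y := by
    rw [mul_right_comm, hy1, _root_.mul_comm (Red.gaFn y)]
  obtain ⟨x', y', z, hz, hx', hy', hmain⟩ := hk X x (y ≫ H21Rank1.powScale 1 κ) (h1 ▸ hu)
  obtain ⟨y'', hy''⟩ := gaFn_surjective (X := X) (X.hom.appTop k * Red.gaFn y')
  have hy2 : y'' ≫ H21Rank1.powScale 1 κ = y' := gaFn_injective (by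
    rw [H21Rank1.comp_powScale, pow_one, hκX, hy'', ← _root_.mul_assoc, ← map_mul, hku.val_inv_mul, map_one,
      _root_.one_mul])
  refine ⟨x', y'', z, hz.trans h1, hx', ?_, ?_⟩
  · rw [hy'', _root_.mul_assoc, hy', hy1]
  · simp only [Category.assoc] at hmain ⊢
    rw [← Category.assoc y'', hy2]
    exact hmain

theorem ne_refl_self (a : D.idx) : a ≠ D.P.reflectionPerm a a := fun h => by
  have h1 := congrArg (D.P.coroot a) (congrArg D.P.root h)
  rw [D.P.root_reflectionPerm, D.P.reflection_apply_self, map_neg, coroot_apply, D.P.root_coroot'_eq_pairing,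
    D.P.pairing_same] at h1
  omega

/-- a point in the group of two opposite root groups realising the reflection -/
theorem exists_weyl [D.P.IsReduced] (a : D.idx) :
    ∃ (w : 𝟙_ (Over S) ⟶ G) (p q r : 𝟙_ (Over S) ⟶ Red.Ga S),
      w = (p ≫ D.u a) * (q ≫ D.u (D.P.reflectionPerm a a)) * (r ≫ D.u a) ∧
      ∀ (X : Over S) (t : X ⟶ D.T), (toUnit X ≫ w) * (t ≫ D.i) * (toUnit X ≫ w)⁻¹ =
        t ≫ D.split.hom.hom.hom ≫ Red.DSmap S (D.P.reflection a).toLinearMap.toAddMonoidHom ≫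
          D.split.inv.hom.hom ≫ D.i := by
  obtain ⟨κ, hκ⟩ := exists_pairing D a
  obtain ⟨e₁, he₁⟩ := gaFn_surjective (X := 𝟙_ (Over S)) 1
  let c := D.P.reflectionPerm a a
  let D' := rescale D c κ
  have ha : D'.u a = D.u a := rescale_u_of_ne D (ne_refl_self D a) κ
  have hc : D'.u c = H21Rank1.powScale 1 κ ≫ D.u c := rescale_u_self D c κ
  haveI := isMonHom_scale (S := S) κ
  refine ⟨_, e₁, e₁⁻¹ ≫ H21Rank1.powScale 1 κ, e₁, rfl, fun X t => ?_⟩
  have h := weyl_acts D' e₁ he₁ a (Red.DSmap S (D'.P.coroot a).toAddMonoidHom ≫ D'.split.inv.hom.hom) rfl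
    (fun X x y hu => by
      obtain ⟨x', y', z, h1, h2, h3, h4⟩ := hκ X x y hu
      refine ⟨x', y', z, h1, h2, h3, ?_⟩
      change (x ≫ D'.u a) * (y ≫ D'.u c) = (y' ≫ D'.u c) * _ * (x' ≫ D'.u a)
      rw [ha, hc]
      exact h4) X t
  change (toUnit X ≫ ((e₁ ≫ D'.u a) * (e₁ ≫ D'.u c)⁻¹ * (e₁ ≫ D'.u a))) * (t ≫ D.i) *
      (toUnit X ≫ ((e₁ ≫ D'.u a) * (e₁ ≫ D'.u c)⁻¹ * (e₁ ≫ D'.u a)))⁻¹ = _ at h
  haveI : IsMonHom (D.u c) := (D.rootHom c).1
  haveI : IsMonHom (H21Rank1.powScale 1 κ ≫ D.u c) := inferInstance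
  have e : (e₁ ≫ H21Rank1.powScale 1 κ ≫ D.u c)⁻¹ = (e₁⁻¹ ≫ H21Rank1.powScale 1 κ) ≫ D.u c := by
    rw [Category.assoc, GrpObj.inv_comp]
  rw [ha, hc, e] at h
  exact h

/-- homomorphisms agreeing on the torus and on the simple root groups and their opposites are equal -/
theorem hom_ext_simple (b : D.P.Base) {H : Over S} [GrpObj H] (f g : G ⟶ H) [IsMonHom f] [IsMonHom g]
    (hT : D.i ≫ f = D.i ≫ g) (hU : ∀ a ∈ b.support, D.u a ≫ f = D.u a ≫ g ∧
      D.u (D.P.reflectionPerm a a) ≫ f = D.u (D.P.reflectionPerm a a) ≫ g) : f = g := by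
  haveI := D.fintypeIdx
  haveI : Finite D.idx := Finite.of_fintype _
  haveI : D.P.IsReduced := isReduced_of_base D.P b
  choose w p q r hw hn using fun a => exists_weyl D a
  refine hom_ext_roots D b f g hT (agree_all D b f g w (fun a _ => hn a) (fun a ha => ?_) fun a ha => (hU a ha).1)
  simp only [hw a, MonObj.mul_comp, Category.assoc, (hU a ha).1, (hU a ha).2]

end Groth.Agent.H21Split
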