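import Groth.Agent.H21Split.PowPts
import Groth.Agent.H21Split.SmoothTorus
import Groth.Agent.S1489
import Groth.Agent.H12AlgSp.LocPCancel
import Mathlib.AlgebraicGeometry.Morphisms.FlatMono

/-!
The big cell is open.
-/

open CategoryTheory MonoidalCategory CartesianMonoidalCategory MonObj GrpObj AlgebraicGeometry
open CategoryTheory.Limits

universe u

set_option backward.isDefEq.respectTransparency false
set_option linter.style.haveILetI false
set_option linter.unusedSectionVars false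
set_option synthInstance.maxHeartbeats 400000

noncomputable section

namespace Groth.Agent.H21Split

variable {S : Scheme.{u}} {G : Over S} [GrpObj G] (D : Red.SplitRed G)

theorem isCellData_of_base (b : D.P.Base) {n m : ℕ} {en : Fin n → D.idx} {ep : Fin m → D.idx}
    (hneg : RedSub.Enumerates (RedSub.negRoots D.P b) en) (hpos : RedSub.Enumerates (RedSub.posRoots D.P b) ep) :
    IsCellData D en ep ∧ Function.Bijective (Sum.elim en ep) := by
  refine ⟨⟨hneg.1, hpos.1, ?_, ?_, ?_⟩, ?_, ?_⟩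
  · rw [hneg.2]; exact isPosSet_negRoots b
  · rw [hpos.2]; exact isPosSet_posRoots b
  · obtain ⟨h, hh⟩ := (isPosSet_posRoots (P := D.P) b).exists_functional
    refine ⟨h, fun k => ?_, fun k => hh _ (hpos.2 ▸ ⟨k, rfl⟩)⟩
    have h1 : en k ∈ RedSub.negRoots D.P b := hneg.2 ▸ ⟨k, rfl⟩
    rw [mem_negRoots_iff] at h1
    have h2 := hh _ h1
    rw [D.P.root_reflectionPerm, D.P.reflection_apply_self, map_neg] at h2
    omega
  · refine hneg.1.sumElim hpos.1 fun k l h => ?_
    exact notMem_neg_of_mem_pos b (hpos.2 ▸ ⟨l, rfl⟩ : ep l ∈ RedSub.posRoots D.P b) (h ▸ hneg.2 ▸ ⟨k, rfl⟩)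
  · intro a
    rcases mem_pos_or_neg b a with h | h
    · obtain ⟨k, rfl⟩ : a ∈ Set.range ep := hpos.2 ▸ h
      exact ⟨Sum.inr k, rfl⟩
    · obtain ⟨k, rfl⟩ : a ∈ Set.range en := hneg.2 ▸ h
      exact ⟨Sum.inl k, rfl⟩

variable {R : Type u} [CommRing R] (g : Spec (CommRingCat.of R) ⟶ S)

theorem pmap_cellPt {B B' : Type u} [CommRing B] [Algebra R B] [CommRing B'] [Algebra R B'] (f : B →ₐ[R] B')
    {n m : ℕ} (en : Fin n → D.idx) (ep : Fin m → D.idx) (x : Fin n → B) (χ : Multiplicative D.M →* B) (y : Fin m → B) :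
    pmap g f ≫ cellPt g D en ep x χ y =
      cellPt g D en ep (fun k => f (x k)) (f.toRingHom.toMonoidHom.comp χ) fun k => f (y k) := by
  rw [cellPt, MonObj.comp_mul, MonObj.comp_mul, pmap_uProd, pmap_uProd, pmap_tPt]
  rfl

variable {n m : ℕ} (en : Fin n → D.idx) (ep : Fin m → D.idx)

theorem cell_point_ext {B : Type u} [CommRing B] [Algebra R B] (hD : IsCellData D en ep)
    {z z' : pt g B ⟶ RedSub.pow (Red.Ga S) n ⊗ (D.T ⊗ RedSub.pow (Red.Ga S) m)}
    (h : z ≫ RedSub.cellMap D en ep = z' ≫ RedSub.cellMap D en ep) : z = z' := by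
  haveI := isAffineHom_hom D
  obtain ⟨χ, hχ⟩ := exists_tPt g D (z ≫ snd _ _ ≫ fst _ _)
  obtain ⟨χ', hχ'⟩ := exists_tPt g D (z' ≫ snd _ _ ≫ fst _ _)
  rw [comp_cellMap g D en ep z χ hχ, comp_cellMap g D en ep z' χ' hχ'] at h
  obtain ⟨h1, h2, h3⟩ := cellPt_injective g D hD h
  subst h2
  refine CartesianMonoidalCategory.hom_ext _ _ (gvs_injective g h1) (CartesianMonoidalCategory.hom_ext _ _ ?_ ?_)
  · simpa [Category.assoc] using (cancel_mono D.i).mp (hχ.symm.trans hχ')
  · simpa [Category.assoc] using gvs_injective g h3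

theorem mono_cellMap (hD : IsCellData D en ep) : Mono (RedSub.cellMap D en ep) :=
  ⟨fun x y h => hom_ext_pt fun R _ g j => cell_point_ext D g en ep hD (by rw [Category.assoc, Category.assoc, h])⟩

theorem smooth_cell : Smooth (RedSub.pow (Red.Ga S) n ⊗ (D.T ⊗ RedSub.pow (Red.Ga S) m)).hom := by
  have hT : Smooth D.T.hom := by
    let e := (Over.forget S).mapIso ((Grp.forget (Over S)).mapIso D.split)
    rw [show D.T.hom = e.hom ≫ (Red.DS S D.M).hom from (Over.w D.split.hom.hom.hom).symm]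
    haveI := smooth_DS (S := S) D.M
    infer_instance
  exact smooth_tensor' (smooth_pow H21Rank1.smooth_Ga n) (smooth_tensor' hT (smooth_pow H21Rank1.smooth_Ga m))

theorem isFormallyEtale_cellMap (hD : IsCellData D en ep) (hbij : Function.Bijective (Sum.elim en ep)) :
    MoreMor.IsFormallyEtaleHom (RedSub.cellMap D en ep).left := by
  intro A _ I hI a b hab
  haveI := isAffineHom_hom D
  let g : Spec (CommRingCat.of A) ⟶ S := b ≫ G.hom
  have hA : Spec.map (CommRingCat.ofHom (algebraMap A A)) = 𝟙 _ := Spec.map_id (CommRingCat.of A)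
  let φ : pt g A ⟶ G := Over.homMk b (by
    change b ≫ G.hom = Spec.map (CommRingCat.ofHom (algebraMap A A)) ≫ g
    rw [hA]; exact (Category.id_comp _).symm)
  let zb : pt g (A ⧸ I) ⟶ RedSub.pow (Red.Ga S) n ⊗ (D.T ⊗ RedSub.pow (Red.Ga S) m) := Over.homMk a (by
    change a ≫ _ = Spec.map (CommRingCat.ofHom (Ideal.Quotient.mk I)) ≫ b ≫ G.hom
    rw [← Category.assoc _ b, hab, Category.assoc, Over.w])
  let q : A →ₐ[A] A ⧸ I := Ideal.Quotient.mkₐ A I
  have hzb : pmap g q ≫ φ = zb ≫ RedSub.cellMap D en ep := by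
    ext : 1
    exact hab
  have hI' : I * I = ⊥ := by rw [← pow_two]; exact hI
  obtain ⟨χb, hχb⟩ := exists_tPt g D (zb ≫ snd _ _ ≫ fst _ _)
  obtain ⟨χ, hχ⟩ := exists_char_lift I hI' χb
  choose x hx using fun k => Ideal.Quotient.mk_surjective (gvs g (zb ≫ fst _ _) k)
  choose y hy using fun k => Ideal.Quotient.mk_surjective (gvs g (zb ≫ snd _ _ ≫ snd _ _) k)
  have h0 : pmap g q ≫ φ = pmap g q ≫ cellPt g D en ep x χ y := by
    rw [hzb, comp_cellMap g D en ep zb χb hχb, pmap_cellPt,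
      show (fun k => q (x k)) = gvs g (zb ≫ fst _ _) from funext hx,
      show (fun k => q (y k)) = gvs g (zb ≫ snd _ _ ≫ snd _ _) from funext hy,
      show q.toRingHom.toMonoidHom.comp χ = χb from hχ]
  obtain ⟨x', χ', y', hφ⟩ := exists_cell_lift g D I hI' hD hbij h0
  let z : pt g A ⟶ RedSub.pow (Red.Ga S) n ⊗ (D.T ⊗ RedSub.pow (Red.Ga S) m) :=
    lift (gas g x') (lift (ds g χ' ≫ D.split.inv.hom.hom) (gas g y'))
  have hz : z ≫ RedSub.cellMap D en ep = φ := by
    rw [comp_cellMap g D en ep z χ' (by simp only [z, lift_snd_assoc, lift_fst, tPt, Category.assoc]),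
      lift_fst, lift_snd_assoc, lift_snd, gvs_gas, gvs_gas, hφ]
  have hzq : pmap g q ≫ z = zb := cell_point_ext D g en ep hD (by rw [Category.assoc, hz, hzb])
  haveI := mono_cellMap D en ep hD
  refine ⟨z.left, ⟨congrArg CategoryTheory.CommaMorphism.left hzq, congrArg CategoryTheory.CommaMorphism.left hz⟩,
    fun l hl => ?_⟩
  exact (cancel_mono (RedSub.cellMap D en ep).left).mp (hl.2.trans (congrArg CategoryTheory.CommaMorphism.left hz).symm)

theorem isOpenImmersion_cellMap (hD : IsCellData D en ep) (hbij : Function.Bijective (Sum.elim en ep)) :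
    IsOpenImmersion (RedSub.cellMap D en ep).left := by
  haveI := smooth_cell D (n := n) (m := m)
  haveI := smooth_hom D
  haveI : LocallyOfFinitePresentation ((RedSub.cellMap D en ep).left ≫ G.hom) := by
    rw [Over.w]; infer_instance
  haveI := H12AlgSp.lfp_of_comp (RedSub.cellMap D en ep).left G.hom
  haveI : Etale (RedSub.cellMap D en ep).left :=
    (S1489.result _).mpr ⟨inferInstance, isFormallyEtale_cellMap D en ep hD hbij⟩
  haveI := mono_cellMap D en ep hD
  exact IsOpenImmersion.of_flat_of_mono _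

theorem range_cellMap_subset {n' m' : ℕ} {en' : Fin n' → D.idx} {ep' : Fin m' → D.idx} (hD : IsCellData D en ep)
    (hn' : ∀ k, en' k ∈ Set.range en) (hp' : ∀ k, ep' k ∈ Set.range ep) :
    Set.range (RedSub.cellMap D en' ep').left.base ⊆ Set.range (RedSub.cellMap D en ep).left.base := by
  rintro _ ⟨w, rfl⟩
  let Ω := RedSub.pow (Red.Ga S) n' ⊗ (D.T ⊗ RedSub.pow (Red.Ga S) m')
  let s : Spec (Ω.left.residueField w) ⟶ Ω.left := Ω.left.fromSpecResidueField w
  haveI := isAffineHom_hom D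
  let g : Spec (CommRingCat.of (Ω.left.residueField w)) ⟶ S := s ≫ Ω.hom
  have hA : Spec.map (CommRingCat.ofHom (algebraMap (Ω.left.residueField w) (Ω.left.residueField w))) = 𝟙 _ :=
    Spec.map_id (Ω.left.residueField w)
  let z : pt g (Ω.left.residueField w) ⟶ Ω := Over.homMk s (by
    change s ≫ Ω.hom = Spec.map (CommRingCat.ofHom (algebraMap (Ω.left.residueField w) (Ω.left.residueField w))) ≫ g
    rw [hA]; exact (Category.id_comp _).symm)
  obtain ⟨χ, hχ⟩ := exists_tPt g D (z ≫ snd _ _ ≫ fst _ _)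
  obtain ⟨Qn, hQn⟩ := exists_reorder g D hD.posn en hD.hn rfl en' hn'
  obtain ⟨Qp, hQp⟩ := exists_reorder g D hD.posp ep hD.hp rfl ep' hp'
  have hz := comp_cellMap g D en' ep' z χ hχ
  rw [cellPt, hQn _ (gvs g (z ≫ fst _ _)), hQp _ (gvs g (z ≫ snd _ _ ≫ snd _ _))] at hz
  let z' : pt g (Ω.left.residueField w) ⟶ RedSub.pow (Red.Ga S) n ⊗ (D.T ⊗ RedSub.pow (Red.Ga S) m) :=
    lift (gas g fun k => MvPolynomial.aeval (gvs g (z ≫ fst _ _)) (Qn k))
      (lift (z ≫ snd _ _ ≫ fst _ _)
        (gas g fun k => MvPolynomial.aeval (gvs g (z ≫ snd _ _ ≫ snd _ _)) (Qp k)))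
  have hz' : z' ≫ RedSub.cellMap D en ep = z ≫ RedSub.cellMap D en' ep' := by
    rw [comp_cellMap g D en ep z' χ (by simp only [z', lift_snd_assoc, lift_fst]; exact hχ),
      lift_fst, lift_snd_assoc, lift_snd, gvs_gas, gvs_gas, hz, cellPt]
  refine ⟨z'.left.base (IsLocalRing.closedPoint (Ω.left.residueField w)), ?_⟩
  have h := congrArg (fun f => f.left.base (IsLocalRing.closedPoint (Ω.left.residueField w))) hz'
  simp only [Over.comp_left, Scheme.Hom.comp_base, TopCat.comp_app] at h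
  refine h.trans ?_
  congr 1
  exact Scheme.fromSpecResidueField_apply _ _

end Groth.Agent.H21Split
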