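import Groth.Agent.H21Split.RootConj
import Groth.Agent.H21Rank1.Rules
import Groth.Agent.H21Rank1.Braid

/-!
The Weyl elements of a pinned group act on the torus as reflections.
-/

open CategoryTheory MonoidalCategory CartesianMonoidalCategory MonObj GrpObj AlgebraicGeometry
open CategoryTheory.Limits

universe u

set_option backward.isDefEq.respectTransparency false
set_option linter.style.haveILetI false
set_option linter.unusedSectionVars false
set_option synthInstance.maxHeartbeats 400000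

noncomputable section

namespace Groth.Agent.H21Split

variable {S : Scheme.{u}} {G : Over S} [GrpObj G]

section Chars

variable {M N : Type} [AddCommGroup M] [AddCommGroup N]

theorem DSmap_add (φ ψ : M →+ N) : Red.DSmap S (φ + ψ) = Red.DSmap S φ * Red.DSmap S ψ := by
  refine hom_ext_pt fun R _ g j => ?_
  obtain ⟨χ, rfl⟩ := ds_surjective g j
  rw [MonObj.comp_mul, ds_DSmap, ds_DSmap, ds_DSmap, ← ds_mul]
  congr 1
  refine MonoidHom.ext fun m => ?_
  simp [MonoidHom.mul_apply]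

theorem DSmap_zero : Red.DSmap S (0 : M →+ N) = 1 := by
  refine hom_ext_pt fun R _ g j => ?_
  obtain ⟨χ, rfl⟩ := ds_surjective g j
  rw [MonObj.comp_one, ds_DSmap, ← ds_one]
  congr 1
  refine MonoidHom.ext fun m => ?_
  simp

theorem chi_add (m m' : M) : Red.chi S (m + m') = Red.chi S m * Red.chi S m' := by
  rw [Red.chi, Red.chi, Red.chi, ← DSmap_add]
  congr 1
  exact AddMonoidHom.ext_int (by simp)

theorem chi_zero : Red.chi S (0 : M) = 1 := by
  rw [Red.chi, ← DSmap_zero]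
  congr 1
  exact AddMonoidHom.ext_int (by simp)

set_option maxHeartbeats 1600000 in
theorem gmFn_chi_neg {X : Over S} {T : Over S} (t : X ⟶ T) (h : T ⟶ Red.DS S M) (m : M) :
    Red.gmFn (t ≫ h ≫ Red.chi S (-m)) * Red.gmFn (t ≫ h ≫ Red.chi S m) = 1 := by
  rw [← H21Rank1.gmFn_mul, ← MonObj.comp_mul, ← MonObj.comp_mul, ← chi_add, neg_add_cancel, chi_zero,
    MonObj.comp_one, MonObj.comp_one, H21Rank1.gmFn_one]

end Chars

variable (D : Red.SplitRed G)

theorem coroot_apply (a : D.idx) (m : D.M) : D.P.coroot a m = D.P.coroot' a m := by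
  simp [RootPairing.coroot', D.pairing_eq]

theorem reflection_apply' (a : D.idx) (m : D.M) : D.P.reflection a m = m - D.P.coroot a m • D.P.root a := by
  rw [coroot_apply]; exact D.P.reflection_apply a m

theorem hpp_root (a : D.idx) (X : Over S) (t : X ⟶ D.T) (x : X ⟶ Red.Ga S) : ∃ x' : X ⟶ Red.Ga S,
    x' ≫ D.u a = (t ≫ D.i) * (x ≫ D.u a) * (t ≫ D.i)⁻¹ ∧
      Red.gaFn x' = Red.gmFn (t ≫ D.split.hom.hom.hom ≫ Red.chi S (D.P.root a)) * Red.gaFn x :=
  (D.rootHom a).2.2 X t x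

theorem hpm_root (a : D.idx) (X : Over S) (t : X ⟶ D.T) (y : X ⟶ Red.Ga S) : ∃ y' : X ⟶ Red.Ga S,
    y' ≫ D.u (D.P.reflectionPerm a a) = (t ≫ D.i) * (y ≫ D.u (D.P.reflectionPerm a a)) * (t ≫ D.i)⁻¹ ∧
      Red.gaFn y' * Red.gmFn (t ≫ D.split.hom.hom.hom ≫ Red.chi S (D.P.root a)) = Red.gaFn y := by
  obtain ⟨y', h1, h2⟩ := (D.rootHom (D.P.reflectionPerm a a)).2.2 X t y
  refine ⟨y', h1, ?_⟩
  rw [D.P.root_reflectionPerm, D.P.reflection_apply_self] at h2
  rw [h2, mul_right_comm, gmFn_chi_neg, _root_.one_mul]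

set_option maxHeartbeats 1600000 in
theorem avc_h2 (a : D.idx) :
    (Red.DSmap S (D.P.coroot a).toAddMonoidHom ≫ D.split.inv.hom.hom) ≫
      D.split.hom.hom.hom ≫ Red.chi S (D.P.root a) = (𝟙 (Red.Gm S)) ^ 2 := by
  refine hom_ext_pt fun R _ g j => ?_
  obtain ⟨χ, rfl⟩ := ds_surjective g j
  refine Eq.trans ?_ (H21Rank1.sq_eq (ds g χ)).symm
  rw [Category.assoc, reassoc_of% (split_inv_hom D), Red.chi]
  refine Eq.trans (Category.assoc _ _ _).symm ?_
  rw [ds_DSmap, ds_DSmap]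
  refine Eq.trans ?_ (ds_mul g χ χ)
  congr 1
  refine MonoidHom.ext fun m => ?_
  have h : D.P.coroot a (D.P.root a) = 2 := by
    rw [coroot_apply, D.P.root_coroot'_eq_pairing, D.P.pairing_same]
  rw [MonoidHom.mul_apply, ← map_mul]
  simp only [MonoidHom.comp_apply]
  congr 1
  refine Multiplicative.toAdd.injective ?_
  simp [AddMonoidHom.toMultiplicative, h]
  ring

set_option maxHeartbeats 3200000 in
/-- the Weyl element of a pinned root acts on the torus as the reflection -/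
theorem weyl_acts (e₁ : 𝟙_ (Over S) ⟶ Red.Ga S) (he₁ : Red.gaFn e₁ = 1) (a : D.idx) (av : Red.Gm S ⟶ D.T)
    (hav : av = Red.DSmap S (D.P.coroot a).toAddMonoidHom ≫ D.split.inv.hom.hom)
    (hpair : ∀ (X : Over S) (x y : X ⟶ Red.Ga S), IsUnit (1 + Red.gaFn x * Red.gaFn y) →
        ∃ (x' y' : X ⟶ Red.Ga S) (z : X ⟶ Red.Gm S), Red.gmFn z = 1 + Red.gaFn x * Red.gaFn y ∧
          Red.gaFn x' * Red.gmFn z = Red.gaFn x ∧ Red.gaFn y' * Red.gmFn z = Red.gaFn y ∧
          (x ≫ D.u a) * (y ≫ D.u (D.P.reflectionPerm a a)) =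
            (y' ≫ D.u (D.P.reflectionPerm a a)) * (z ≫ av ≫ D.i) * (x' ≫ D.u a))
    (X : Over S) (t : X ⟶ D.T) :
    (toUnit X ≫ ((e₁ ≫ D.u a) * (e₁ ≫ D.u (D.P.reflectionPerm a a))⁻¹ * (e₁ ≫ D.u a))) * (t ≫ D.i) *
        (toUnit X ≫ ((e₁ ≫ D.u a) * (e₁ ≫ D.u (D.P.reflectionPerm a a))⁻¹ * (e₁ ≫ D.u a)))⁻¹ =
      t ≫ D.split.hom.hom.hom ≫ Red.DSmap S (D.P.reflection a).toLinearMap.toAddMonoidHom ≫
        D.split.inv.hom.hom ≫ D.i := by
  subst hav
  have hx1 : Red.gaFn (toUnit X ≫ e₁) = 1 := by rw [H27Witt.GaCoord.gaFn_comp, he₁, map_one]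
  have hxx : Red.gaFn ((toUnit X ≫ e₁)⁻¹) * Red.gaFn (toUnit X ≫ e₁) = -1 := by
    rw [H21Rank1.gaFn_inv, hx1, _root_.mul_one]
  let av : Red.Gm S ⟶ D.T := Red.DSmap S (D.P.coroot a).toAddMonoidHom ≫ D.split.inv.hom.hom
  let al : D.T ⟶ Red.Gm S := D.split.hom.hom.hom ≫ Red.chi S (D.P.root a)
  haveI : IsMonHom av := inferInstanceAs (IsMonHom (Red.DSmap S (D.P.coroot a).toAddMonoidHom ≫ D.split.inv.hom.hom))
  haveI : IsMonHom (Red.chi S (D.P.root a)) := H21Diag.isMonHom_DSmap S _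
  haveI : IsMonHom al := inferInstanceAs (IsMonHom (D.split.hom.hom.hom ≫ Red.chi S (D.P.root a)))
  have h : (((toUnit X ≫ e₁) ≫ D.u a) * ((toUnit X ≫ e₁)⁻¹ ≫ D.u (D.P.reflectionPerm a a)) * ((toUnit X ≫ e₁) ≫ D.u a)) *
      (t ≫ D.i) *
      (((toUnit X ≫ e₁) ≫ D.u a) * ((toUnit X ≫ e₁)⁻¹ ≫ D.u (D.P.reflectionPerm a a)) * ((toUnit X ≫ e₁) ≫ D.u a))⁻¹ =
      (t ≫ al ≫ av ≫ D.i)⁻¹ * (t ≫ D.i) :=
    (H21Rank1.w_normalizes (i := D.i) (α := al) (pp := D.u a) (pm := D.u (D.P.reflectionPerm a a)) (av := av)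
      (hpp_root D a) (hpm_root D a) (avc_h2 D a) hpair (toUnit X ≫ e₁) (toUnit X ≫ e₁)⁻¹ hxx).1 t
  simp only [MonObj.comp_mul, GrpObj.comp_inv, ← Category.assoc]
  rw [GrpObj.inv_comp] at h
  rw [h]
  simp only [al, av]
  refine hom_ext_pt fun R _ g j => ?_
  obtain ⟨χ, hχ⟩ := ds_surjective g ((j ≫ t) ≫ D.split.hom.hom.hom)
  have ht : (j ≫ t) = ds g χ ≫ D.split.inv.hom.hom := by
    rw [hχ, Category.assoc, split_hom_inv, Category.comp_id]
  rw [MonObj.comp_mul, GrpObj.comp_inv]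
  simp only [← Category.assoc]
  rw [ht]
  simp only [Category.assoc, reassoc_of% (split_inv_hom D), Red.chi]
  rw [← Category.assoc (ds g χ) (Red.DSmap S _), ds_DSmap, ← Category.assoc (ds g _) (Red.DSmap S _), ds_DSmap,
    ← Category.assoc (ds g χ) (Red.DSmap S _), ds_DSmap, ← tPt, ← tPt, ← tPt, inv_mul_eq_iff_eq_mul, ← tPt_mul]
  congr 1
  refine MonoidHom.ext fun m => ?_
  rw [MonoidHom.mul_apply]
  simp only [MonoidHom.comp_apply]
  rw [← map_mul]
  congr 1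
  refine Multiplicative.toAdd.injective ?_
  simp [AddMonoidHom.toMultiplicative, reflection_apply']

end Groth.Agent.H21Split
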