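import Groth.Agent.H21Split.RootLemmas
import Mathlib.LinearAlgebra.RootSystem.Finite.CanonicalBilinear

/-!
Closed sets of roots without opposite roots: stability under sums and a positive functional.
-/

namespace Groth.Agent.H21Split

open RootPairing

set_option linter.style.haveILetI false
set_option linter.unusedSectionVars false

variable {ι M N : Type} [Finite ι] [AddCommGroup M] [AddCommGroup N]

/-- a closed set of roots containing no two opposite roots -/
structure IsPosSet (P : RootPairing ι ℤ M N) (Ψ : Set ι) : Prop where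
  closed : ∀ a b c : ι, a ∈ Ψ → b ∈ Ψ → P.root a + P.root b = P.root c → c ∈ Ψ
  noNeg : ∀ a b : ι, a ∈ Ψ → P.root b = -P.root a → b ∉ Ψ

variable {P : RootPairing ι ℤ M N} {Ψ : Set ι}

/-- a root which is a sum of members of the set is a member -/
theorem IsPosSet.root_mem_of_sum (hΨ : IsPosSet P Ψ) :
    ∀ (n : ℕ) (l : List ι), l.length = n → (∀ a ∈ l, a ∈ Ψ) → ∀ c, P.root c = (l.map P.root).sum → c ∈ Ψ := by
  classical
  intro n
  induction n using Nat.strong_induction_on with
  | _ n ih =>
    intro l hl hmem c hc
    have hpos : ∃ a ∈ l, 0 < P.pairing a c := by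
      by_contra h
      push Not at h
      have h2 := congrArg (P.coroot' c) hc
      rw [map_list_sum, List.map_map, P.root_coroot'_eq_pairing, P.pairing_same] at h2
      have : ((l.map (fun a => P.pairing a c))).sum ≤ 0 := by
        refine le_trans (List.sum_le_card_nsmul _ 0 fun x hx => ?_) (by simp)
        obtain ⟨a, ha, rfl⟩ := List.mem_map.mp hx
        exact h a ha
      have e : (P.coroot' c ∘ P.root) = fun a => P.pairing a c := funext fun a => P.root_coroot'_eq_pairing c a
      rw [e] at h2
      omega
    obtain ⟨a, hal, hac⟩ := hpos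
    rcases eq_or_ne a c with rfl | hne
    · exact hmem a hal
    have hca : 0 < P.pairingIn ℤ c a := by
      refine (P.zero_lt_pairingIn_iff' ℤ).mp ?_
      rw [pairingIn_int]
      exact hac
    obtain ⟨r, hr⟩ := P.root_sub_root_mem_of_pairingIn_pos hca hne.symm
    have hsum : (l.map P.root).sum = P.root a + ((l.erase a).map P.root).sum := by
      rw [((List.perm_cons_erase hal).map P.root).sum_eq, List.map_cons, List.sum_cons]
    have hlen : (l.erase a).length < n := by
      rw [List.length_erase_of_mem hal, hl]
      have : 0 < l.length := List.length_pos_of_mem hal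
      omega
    have hrΨ : r ∈ Ψ := ih _ hlen (l.erase a) rfl (fun x hx => hmem x (List.mem_of_mem_erase hx)) r (by
      rw [hr, hc, hsum, add_sub_cancel_left])
    exact hΨ.closed a r c (hmem a hal) hrΨ (by rw [hr, add_sub_cancel])

/-- the value on a root of the functional of a set of roots -/
theorem two_mul_rootForm [Fintype ι] (x : M) (a : ι) :
    2 * P.RootForm x (P.root a) = P.coroot' a x * P.RootForm (P.root a) (P.root a) := by
  have h := P.rootForm_reflection_reflection_apply a x (P.root a)
  rw [P.reflection_apply_self, P.reflection_apply, map_neg, map_sub, LinearMap.sub_apply, map_smul,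
    LinearMap.smul_apply, smul_eq_mul] at h
  linear_combination -h

theorem rootForm_root_pos [Fintype ι] (a : ι) : 0 < P.RootForm (P.root a) (P.root a) := by
  rw [P.rootForm_root_self]
  refine Finset.sum_pos' (fun i _ => mul_self_nonneg _) ⟨a, Finset.mem_univ _, ?_⟩
  rw [P.pairing_same]; norm_num

theorem IsPosSet.sum_pairing_pos (hΨ : IsPosSet P Ψ) (s : Finset ι) (hs : ∀ b, b ∈ s ↔ b ∈ Ψ) {a : ι}
    (ha : a ∈ Ψ) : 0 < ∑ b ∈ s, P.pairing b a := by
  classical
  let Nn := s.filter fun b => P.pairing b a < 0
  let I := Nn.image (P.reflectionPerm a)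
  have hIs : ∀ b ∈ Nn, P.reflectionPerm a b ∈ s := by
    intro b hb
    obtain ⟨hbs, hb0⟩ := Finset.mem_filter.mp hb
    refine (hs _).mpr (hΨ.root_mem_of_sum _ (b :: List.replicate (-P.pairing b a).toNat a) rfl ?_ _ ?_)
    · intro x hx
      rcases List.mem_cons.mp hx with rfl | hx
      · exact (hs _).mp hbs
      · rw [List.eq_of_mem_replicate hx]; exact ha
    · rw [List.map_cons, List.sum_cons, List.map_replicate, List.sum_replicate, P.root_reflectionPerm,
        P.reflection_apply_root, ← natCast_zsmul, Int.toNat_of_nonneg (by omega), neg_smul, sub_eq_add_neg]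
  have hval : ∀ b, P.pairing (P.reflectionPerm a b) a = -P.pairing b a := fun b => by
    rw [← P.pairing_reflectionPerm a b a, P.pairing_reflectionPerm_self_right]
  have hdis : Disjoint Nn I := by
    rw [Finset.disjoint_left]
    intro x hx hxI
    obtain ⟨b, hb, rfl⟩ := Finset.mem_image.mp hxI
    have h1 := (Finset.mem_filter.mp hx).2
    have h2 := (Finset.mem_filter.mp hb).2
    rw [hval] at h1
    omega
  have haN : a ∉ Nn ∪ I := by
    intro h
    rcases Finset.mem_union.mp h with h | h
    · have := (Finset.mem_filter.mp h).2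
      rw [P.pairing_same] at this
      omega
    · obtain ⟨b, hb, hb'⟩ := Finset.mem_image.mp h
      refine hΨ.noNeg a b ha ?_ ((hs _).mp (Finset.mem_filter.mp hb).1)
      have := congrArg (P.reflection a) (congrArg P.root hb')
      rwa [← P.root_reflectionPerm, P.reflectionPerm_self, P.reflection_apply_self] at this
  have hsub : insert a (Nn ∪ I) ⊆ s := by
    refine Finset.insert_subset ((hs a).mpr ha) (Finset.union_subset (Finset.filter_subset _ _) fun x hx => ?_)
    obtain ⟨b, hb, rfl⟩ := Finset.mem_image.mp hx
    exact hIs b hb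
  refine lt_of_lt_of_le ?_ (Finset.sum_le_sum_of_subset_of_nonneg hsub fun x hx hx' => ?_)
  · rw [Finset.sum_insert haN, Finset.sum_union hdis, Finset.sum_image fun x _ y _ h => (P.reflectionPerm a).injective h,
      P.pairing_same]
    simp only [hval, Finset.sum_neg_distrib]
    omega
  · by_contra h
    exact hx' (Finset.mem_insert_of_mem (Finset.mem_union_left _ (Finset.mem_filter.mpr ⟨hx, by omega⟩)))

/-- such a set lies in an open half space -/
theorem IsPosSet.exists_functional (hΨ : IsPosSet P Ψ) : ∃ h : M →+ ℤ, ∀ a ∈ Ψ, 0 < h (P.root a) := by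
  classical
  haveI := Fintype.ofFinite ι
  let s : Finset ι := Finset.univ.filter (· ∈ Ψ)
  let σ : M := ∑ b ∈ s, P.root b
  refine ⟨(P.RootForm σ).toAddMonoidHom, fun a ha => ?_⟩
  have h2 := two_mul_rootForm (P := P) σ a
  have hσ : 0 < P.coroot' a σ := by
    have := hΨ.sum_pairing_pos s (fun b => by simp [s]) ha
    simpa [σ, map_sum, P.root_coroot'_eq_pairing] using this
  have := mul_pos hσ (rootForm_root_pos (P := P) a)
  change 0 < P.RootForm σ (P.root a)
  omega

/-- the sets given by a total order compatible with addition -/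
theorem isPosSet_of_order [LinearOrder M] [IsOrderedAddMonoid M] (h : ∀ a, a ∈ Ψ ↔ 0 < P.root a) :
    IsPosSet P Ψ where
  closed a b c ha hb hc := by
    rw [h] at ha hb ⊢
    rw [← hc]
    exact add_pos ha hb
  noNeg a b ha hb hb' := by
    rw [h] at ha hb'
    rw [hb] at hb'
    exact absurd hb' (not_lt.mpr (by simpa using ha.le))

theorem isPosSet_posRoots (b : P.Base) : IsPosSet P (RedSub.posRoots P b) where
  closed x y z hx hy hz := by
    change P.root z ∈ AddSubmonoid.closure (P.root '' (b.support : Set ι))
    rw [← hz]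
    exact AddSubmonoid.add_mem _ hx hy
  noNeg x y hx hy hy' := two_pos_comb P b hx hy' 1 1 le_rfl (by rw [hy]; simp)

theorem mem_negRoots_iff (b : P.Base) (a : ι) :
    a ∈ RedSub.negRoots P b ↔ P.reflectionPerm a a ∈ RedSub.posRoots P b := by
  change -P.root a ∈ AddSubmonoid.closure (P.root '' (b.support : Set ι)) ↔
    P.root (P.reflectionPerm a a) ∈ AddSubmonoid.closure (P.root '' (b.support : Set ι))
  rw [P.root_reflectionPerm, P.reflection_apply_self]

theorem isPosSet_negRoots (b : P.Base) : IsPosSet P (RedSub.negRoots P b) where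
  closed x y z hx hy hz := by
    change -P.root z ∈ AddSubmonoid.closure (P.root '' (b.support : Set ι))
    rw [← hz, neg_add]
    exact AddSubmonoid.add_mem _ hx hy
  noNeg x y hx hy hy' := by
    rw [mem_negRoots_iff] at hx hy'
    exact (isPosSet_posRoots b).noNeg _ _ hx (by
      rw [P.root_reflectionPerm, P.root_reflectionPerm, P.reflection_apply_self, P.reflection_apply_self, hy]) hy'

theorem mem_pos_or_neg (b : P.Base) (a : ι) : a ∈ RedSub.posRoots P b ∨ a ∈ RedSub.negRoots P b :=
  b.root_mem_or_neg_mem a

theorem notMem_neg_of_mem_pos (b : P.Base) {a : ι} (ha : a ∈ RedSub.posRoots P b) : a ∉ RedSub.negRoots P b := by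
  rw [mem_negRoots_iff]
  exact (isPosSet_posRoots b).noNeg a _ ha (by rw [P.root_reflectionPerm, P.reflection_apply_self])

end Groth.Agent.H21Split
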