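import Groth.Agent.H21Split.Centre
import Groth.Agent.H21Split.Psi
import Groth.Agent.H21Split.Bru.Coradical
import Groth.Agent.H21Split.PinWeyl
import Groth.Agent.H21Split.R2.ChevExist
import Groth.Agent.H21Split.Red0.GeomSplit
import Groth.Agent.H21Diag.MaxTorus
import Groth.Agent.S16611
import Mathlib.LinearAlgebra.RootSystem.Finite.Nondegenerate

/-!
The radical of a split group and the torus of the coroots.
-/

open CategoryTheory MonoidalCategory CartesianMonoidalCategory MonObj GrpObj AlgebraicGeometry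
open CategoryTheory.Limits

universe u

set_option autoImplicit false
set_option backward.isDefEq.respectTransparency false
set_option linter.style.haveILetI false
set_option linter.unusedSectionVars false
set_option synthInstance.maxHeartbeats 400000
set_option maxHeartbeats 1000000

noncomputable section

namespace Groth.Agent.H21Split.RadIsog

section Lattice

variable {κ M N : Type} [AddCommGroup M] [AddCommGroup N] (P : RootPairing κ ℤ M N) [Finite κ]

theorem exists_scalar : ∃ C : ℤ, C ≠ 0 ∧ ∀ x : M, ∃ q ∈ Submodule.span ℤ (Set.range P.root),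
    ∀ a, P.coroot' a (C • x - q) = 0 := by
  classical
  haveI := Fintype.ofFinite κ
  let c : κ → ℤ := fun a => P.RootForm (P.root a) (P.root a)
  have hc : ∀ a, 0 < c a := rootForm_root_pos
  let w : κ → ℤ := fun i => ∏ j ∈ Finset.univ.erase i, c j
  let C : ℤ := ∏ j, c j
  have hw : ∀ i, w i * c i = C := fun i => by
    rw [_root_.mul_comm]
    exact Finset.mul_prod_erase _ c (Finset.mem_univ i)
  have hsym : ∀ i a, w i * P.pairing i a = w a * P.pairing a i := fun i a => by
    have h1 : P.pairing i a * c a = P.pairing a i * c i := by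
      have e1 := two_mul_rootForm (P := P) (P.root i) a
      have e2 := two_mul_rootForm (P := P) (P.root a) i
      rw [show P.coroot' a (P.root i) = P.pairing i a from rfl] at e1
      rw [show P.coroot' i (P.root a) = P.pairing a i from rfl] at e2
      rw [show P.RootForm (P.root i) (P.root a) = P.RootForm (P.root a) (P.root i) from P.rootForm_symmetric.eq _ _] at e1
      exact e1.symm.trans e2
    refine mul_right_cancel₀ (mul_ne_zero (hc i).ne' (hc a).ne') ?_
    linear_combination (P.pairing i a * c a) * hw i - (P.pairing a i * c i) * hw a + C * h1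
  refine ⟨C, Finset.prod_ne_zero_iff.mpr fun a _ => (hc a).ne', fun x => ?_⟩
  refine ⟨∑ i, (2 * (w i * P.coroot' i x)) • P.root i,
    Submodule.sum_mem _ fun i _ => Submodule.smul_mem _ _ (Submodule.subset_span ⟨i, rfl⟩), fun a => ?_⟩
  have h2 : 2 * P.RootForm x (P.root a) = P.coroot' a x * c a := two_mul_rootForm (P := P) x a
  rw [P.rootForm_apply_apply] at h2
  have h3 : ∑ i, (2 * (w i * P.coroot' i x)) * P.pairing i a = C * P.coroot' a x := by
    rw [← hw a, _root_.mul_assoc, _root_.mul_comm (c a), ← h2, Finset.mul_sum, Finset.mul_sum]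
    refine Finset.sum_congr rfl fun i _ => ?_
    rw [show P.coroot' i (P.root a) = P.pairing a i from rfl]
    linear_combination 2 * P.coroot' i x * hsym i a
  rw [map_sub, map_zsmul, smul_eq_mul, map_sum, sub_eq_zero, ← h3]
  exact Finset.sum_congr rfl fun i _ => by rw [map_zsmul, smul_eq_mul]; rfl

theorem eq_zero_of_orth [IsAddTorsionFree M] {x : M} (hx : x ∈ Submodule.span ℤ (Set.range P.root))
    (h : ∀ a, P.coroot' a x = 0) : x = 0 := by
  haveI := Fintype.ofFinite κ
  refine P.eq_zero_of_mem_rootSpan_of_rootForm_self_eq_zero hx ?_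
  rw [P.rootForm_apply_apply]
  exact Finset.sum_eq_zero fun i _ => by rw [h, mul_zero]

/-- the saturation of the lattice of roots -/
def satRoots : AddSubgroup M where
  carrier := {m | ∃ k : ℕ, 0 < k ∧ k • m ∈ Submodule.span ℤ (Set.range P.root)}
  zero_mem' := ⟨1, one_pos, by rw [smul_zero]; exact zero_mem _⟩
  add_mem' := by
    rintro a b ⟨k, hk, ha⟩ ⟨l, hl, hb⟩
    refine ⟨k * l, Nat.mul_pos hk hl, ?_⟩
    rw [smul_add]
    refine add_mem ?_ ?_
    · rw [_root_.mul_comm, mul_smul]; exact nsmul_mem ha l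
    · rw [mul_smul]; exact nsmul_mem hb k
  neg_mem' := by
    rintro a ⟨k, hk, ha⟩
    exact ⟨k, hk, by rw [smul_neg]; exact neg_mem ha⟩

theorem root_mem_sat (a : κ) : P.root a ∈ satRoots P :=
  ⟨1, one_pos, by rw [one_smul]; exact Submodule.subset_span ⟨a, rfl⟩⟩

theorem isAddTorsionFree_quot : IsAddTorsionFree (M ⧸ satRoots P) where
  nsmul_right_injective := by
    intro n hn a b hab
    induction a using QuotientAddGroup.induction_on with
    | H a =>
      induction b using QuotientAddGroup.induction_on with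
      | H b =>
        have hd : ((n • (-a + b) : M) : M ⧸ satRoots P) = 0 := by
          rw [QuotientAddGroup.mk_nsmul, QuotientAddGroup.mk_add, QuotientAddGroup.mk_neg, smul_add, smul_neg]
          exact neg_add_eq_zero.mpr hab
        obtain ⟨k, hk, hkm⟩ := (QuotientAddGroup.eq_zero_iff _).mp hd
        exact QuotientAddGroup.eq.mpr ⟨k * n, Nat.mul_pos hk (Nat.pos_of_ne_zero hn), by rwa [mul_smul]⟩

end Lattice

theorem finite_mapDomain {M N : Type} [AddCommGroup M] [AddCommGroup N] (φ : M →+ N) [Finite (N ⧸ φ.range)] :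
    (MonoidAlgebra.mapDomainRingHom (ULift.{u} ℤ) (AddMonoidHom.toMultiplicative φ)).Finite := by
  classical
  let F := MonoidAlgebra.mapDomainRingHom (ULift.{u} ℤ) (AddMonoidHom.toMultiplicative φ)
  letI := F.toAlgebra
  haveI : Fintype (N ⧸ φ.range) := Fintype.ofFinite _
  let rep : N ⧸ φ.range → MonoidAlgebra (ULift.{u} ℤ) (Multiplicative N) := fun q =>
    MonoidAlgebra.single (Multiplicative.ofAdd q.out) 1
  change Module.Finite (MonoidAlgebra (ULift.{u} ℤ) (Multiplicative M)) (MonoidAlgebra (ULift.{u} ℤ) (Multiplicative N))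
  refine Module.Finite.of_fg_top ⟨Finset.univ.image rep, (eq_top_iff.mpr fun w _ => ?_)⟩
  clear ‹w ∈ ⊤›
  induction w using MonoidAlgebra.induction_linear with
  | zero => exact zero_mem _
  | add a b ha hb => exact add_mem ha hb
  | single n r =>
    let q : N ⧸ φ.range := (Multiplicative.toAdd n : N)
    obtain ⟨m, hm⟩ : -q.out + Multiplicative.toAdd n ∈ φ.range :=
      QuotientAddGroup.eq.mp (QuotientAddGroup.out_eq' q)
    have h : MonoidAlgebra.single n r = (MonoidAlgebra.single (Multiplicative.ofAdd m) r) • rep q := by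
      change _ = F _ * rep q
      rw [MonoidAlgebra.mapDomainRingHom_apply, MonoidAlgebra.mapDomain_single, MonoidAlgebra.single_mul_single,
        _root_.mul_one]
      congr 1
      change n = Multiplicative.ofAdd (φ m) * Multiplicative.ofAdd q.out
      rw [hm, ← ofAdd_add, add_comm (-q.out), add_assoc, neg_add_cancel, add_zero]
      rfl
    rw [h]
    exact Submodule.smul_mem _ _ (Submodule.subset_span (Finset.mem_image_of_mem _ (Finset.mem_univ q)))

theorem isFinite_DSmap (S : Scheme.{u}) {M N : Type} [AddCommGroup M] [AddCommGroup N] (φ : M →+ N)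
    [Finite (N ⧸ φ.range)] : IsFinite (Red.DSmap S φ).left := by
  refine MorphismProperty.baseChange_map (P := @IsFinite) _ _ ?_
  exact (IsFinite.SpecMap_iff _).mpr (finite_mapDomain φ)

theorem mul_comp_eq {S : Scheme.{u}} {A B C : Over S} [GrpObj B] [GrpObj C] (a b : A ⟶ B) (f : B ⟶ C) [IsMonHom f]
    {a' b' : A ⟶ C} (ha : a ≫ f = a') (hb : b ≫ f = b') : (a * b) ≫ f = a' * b' := by
  rw [MonObj.mul_comp, ha, hb]

theorem tensor_mul {S : Scheme.{u}} {A B C : Over S} [GrpObj C] (a : A ⟶ C) (b : B ⟶ C) :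
    (a ⊗ₘ b) ≫ μ[C] = (fst A B ≫ a) * (snd A B ≫ b) := by
  rw [Hom.mul_def]
  congr 1

/-- characters of a product -/
theorem isIso_prodMap {S : Scheme.{u}} (A B : Type) [AddCommGroup A] [AddCommGroup B] :
    IsIso ((fst (Red.DS S A) (Red.DS S B) ≫ Red.DSmap S (AddMonoidHom.fst A B)) *
      (snd (Red.DS S A) (Red.DS S B) ≫ Red.DSmap S (AddMonoidHom.snd A B))) := by
  let p₁ := AddMonoidHom.fst A B
  let p₂ := AddMonoidHom.snd A B
  let i₁ := AddMonoidHom.inl A B
  let i₂ := AddMonoidHom.inr A B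
  haveI := H21Diag.isMonHom_DSmap S i₁
  haveI := H21Diag.isMonHom_DSmap S i₂
  have e₁ : Red.DSmap S p₁ ≫ Red.DSmap S i₁ = 𝟙 _ := by
    rw [R2.DSmap_comp, show p₁.comp i₁ = AddMonoidHom.id _ from AddMonoidHom.ext fun _ => rfl, H21Red0.DSmap_id']
  have e₂ : Red.DSmap S p₂ ≫ Red.DSmap S i₂ = 𝟙 _ := by
    rw [R2.DSmap_comp, show p₂.comp i₂ = AddMonoidHom.id _ from AddMonoidHom.ext fun _ => rfl, H21Red0.DSmap_id']
  have e₃ : Red.DSmap S p₂ ≫ Red.DSmap S i₁ = 1 := by
    rw [R2.DSmap_comp, show p₂.comp i₁ = 0 from AddMonoidHom.ext fun _ => rfl, DSmap_zero]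
  have e₄ : Red.DSmap S p₁ ≫ Red.DSmap S i₂ = 1 := by
    rw [R2.DSmap_comp, show p₁.comp i₂ = 0 from AddMonoidHom.ext fun _ => rfl, DSmap_zero]
  refine ⟨lift (Red.DSmap S i₁) (Red.DSmap S i₂), CartesianMonoidalCategory.hom_ext _ _ ?_ ?_, ?_⟩
  · rw [Category.assoc, lift_fst, Category.id_comp]
    exact (mul_comp_eq _ _ _ (by rw [Category.assoc, e₁, Category.comp_id])
      ((Category.assoc _ _ _).trans ((congrArg (snd _ _ ≫ ·) e₃).trans (MonObj.comp_one _)))).trans
      (_root_.mul_one (fst (Red.DS S A) (Red.DS S B)))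
  · rw [Category.assoc, lift_snd, Category.id_comp]
    exact (mul_comp_eq _ _ _ ((Category.assoc _ _ _).trans ((congrArg (fst _ _ ≫ ·) e₄).trans (MonObj.comp_one _)))
      (by rw [Category.assoc, e₂, Category.comp_id])).trans
      (_root_.one_mul (snd (Red.DS S A) (Red.DS S B)))
  · rw [MonObj.comp_mul, lift_fst_assoc, lift_snd_assoc, R2.DSmap_comp, R2.DSmap_comp, ← DSmap_add,
      show i₁.comp p₁ + i₂.comp p₂ = AddMonoidHom.id _ from AddMonoidHom.ext fun x => by simp [i₁, i₂, p₁, p₂],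
      H21Red0.DSmap_id']

theorem props {S : Scheme.{u}} {A B M : Type} [AddCommGroup A] [AddCommGroup B] [AddCommGroup M] (φ₁ : M →+ A)
    (φ₂ : M →+ B) {R T : Over S} [GrpObj T] (f : R ⟶ Red.DS S A) [IsIso f] (e : Red.DS S M ⟶ T) [IsMonHom e]
    [IsIso e] (hinj : Function.Injective (φ₁.prod φ₂)) (hfin : Finite ((A × B) ⧸ (φ₁.prod φ₂).range)) :
    Surjective (((f ≫ Red.DSmap S φ₁ ≫ e) ⊗ₘ (Red.DSmap S φ₂ ≫ e)) ≫ μ[T]).left ∧
      Flat (((f ≫ Red.DSmap S φ₁ ≫ e) ⊗ₘ (Red.DSmap S φ₂ ≫ e)) ≫ μ[T]).left ∧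
      IsFinite (((f ≫ Red.DSmap S φ₁ ≫ e) ⊗ₘ (Red.DSmap S φ₂ ≫ e)) ≫ μ[T]).left := by
  let p₁ := AddMonoidHom.fst A B
  let p₂ := AddMonoidHom.snd A B
  let θ := (fst (Red.DS S A) (Red.DS S B) ≫ Red.DSmap S p₁) * (snd (Red.DS S A) (Red.DS S B) ≫ Red.DSmap S p₂)
  haveI : IsIso θ := isIso_prodMap A B
  haveI := H21Diag.isMonHom_DSmap S (φ₁.prod φ₂)
  haveI : IsMonHom (Red.DSmap S (φ₁.prod φ₂) ≫ e) := inferInstance
  have key : ((f ≫ Red.DSmap S φ₁ ≫ e) ⊗ₘ (Red.DSmap S φ₂ ≫ e)) ≫ μ[T] =
      (f ⊗ₘ 𝟙 _) ≫ θ ≫ Red.DSmap S (φ₁.prod φ₂) ≫ e := by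
    rw [tensor_mul]
    have h1 : θ ≫ Red.DSmap S (φ₁.prod φ₂) ≫ e =
        (fst _ _ ≫ Red.DSmap S φ₁ ≫ e) * (snd _ _ ≫ Red.DSmap S φ₂ ≫ e) := by
      refine mul_comp_eq (fst (Red.DS S A) (Red.DS S B) ≫ Red.DSmap S p₁)
        (snd (Red.DS S A) (Red.DS S B) ≫ Red.DSmap S p₂) (Red.DSmap S (φ₁.prod φ₂) ≫ e) ?_ ?_
      · rw [Category.assoc, ← Category.assoc (Red.DSmap S p₁), R2.DSmap_comp]
        rfl
      · rw [Category.assoc, ← Category.assoc (Red.DSmap S p₂), R2.DSmap_comp]
        rfl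
    rw [h1]
    rw [MonObj.comp_mul, ← Category.assoc (f ⊗ₘ _), ← Category.assoc (f ⊗ₘ _), tensorHom_fst, tensorHom_snd,
      Category.assoc, Category.comp_id]
  haveI := isFinite_DSmap S (φ₁.prod φ₂)
  obtain ⟨_, _⟩ := H21Diag.flat_surjective_DSmap S (φ₁.prod φ₂) hinj
  haveI : IsIso (f ⊗ₘ 𝟙 (Red.DS S B)) := inferInstance
  haveI : IsIso θ.left := inferInstanceAs (IsIso ((Over.forget _).map θ))
  haveI : IsIso (f ⊗ₘ 𝟙 (Red.DS S B)).left := inferInstanceAs (IsIso ((Over.forget S).map (f ⊗ₘ 𝟙 (Red.DS S B))))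
  haveI : IsIso e.left := inferInstanceAs (IsIso ((Over.forget _).map e))
  rw [key]
  simp only [Over.comp_left]
  exact ⟨inferInstance, inferInstance, inferInstance⟩

variable {S : Scheme.{u}} {G : Over S} [GrpObj G] (D : Red.SplitRed G)

/-- a character of a torus with a trivial power is trivial -/
theorem eq_one_of_pow {R : Over S} [GrpObj R] (hR : Red.IsTorus R) {X : Over S} [GrpObj X] (χ : R ⟶ X) [IsMonHom χ]
    {k : ℕ} (hk : 0 < k) (h : χ ^ k = 1) : χ = 1 := by
  have hn : IsLocallyConstant fun _ : S => k := IsLocallyConstant.const k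
  obtain ⟨p, hp⟩ := H21Diag.exists_lcPow (G := R) _ hn
  obtain ⟨_, _⟩ := H21Diag.lcPow_torus hR hn (fun _ => hk) hp
  haveI : Epi p.left := AlgebraicGeometry.Flat.epi_of_flat_of_surjective p.left
  haveI : Epi p := Over.epi_of_epi_left p
  rw [← cancel_epi p, MonObj.comp_one, show p = (𝟙 R) ^ k from (Category.id_comp p).symm.trans (hp k (𝟙 R) fun _ => rfl),
    MonObj.pow_comp, Category.id_comp, h]


theorem DS_pow {X : Over S} (x : X ⟶ Red.DS S D.M) (m : D.M) (k : ℕ) :
    x ≫ Red.chi S (k • m) = (x ≫ Red.chi S m) ^ k := by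
  induction k with
  | zero =>
    rw [zero_smul, chi_zero]
    exact (MonObj.comp_one x).trans (pow_zero (x ≫ Red.chi S m)).symm
  | succ j ih =>
    rw [succ_nsmul, chi_add, MonObj.comp_mul, ih]
    exact (pow_succ (x ≫ Red.chi S m) j).symm

/-- a map from a torus to the torus killing the roots kills their saturation -/
theorem chr_eq_one {R : Over S} [GrpObj R] (hR : Red.IsTorus R) (x : R ⟶ Red.DS S D.M) [IsMonHom x]
    (hroots : ∀ a : D.idx, x ≫ Red.chi S (D.P.root a) = 1) {m : D.M} (hm : m ∈ satRoots D.P) :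
    H18Torsor.DiagExact.chr x (Multiplicative.ofAdd m) = 1 := by
  obtain ⟨k, hk, hkm⟩ := hm
  let ch := H18Torsor.DiagExact.chr x
  let K : AddSubgroup D.M :=
    { carrier := {m | ch (Multiplicative.ofAdd m) = 1}
      zero_mem' := map_one ch
      add_mem' := fun {a b} ha hb => by
        change ch (Multiplicative.ofAdd a * Multiplicative.ofAdd b) = 1
        rw [map_mul, ha, hb, _root_.one_mul]
      neg_mem' := fun {a} ha => by
        have := map_mul ch (Multiplicative.ofAdd a) (Multiplicative.ofAdd (-a))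
        rw [← ofAdd_add, add_neg_cancel, ofAdd_zero, map_one, ha, _root_.one_mul] at this
        exact this.symm }
  have hchi : ∀ m : D.M, x ≫ Red.chi S m = 1 ↔ ch (Multiplicative.ofAdd m) = 1 := fun m => by
    constructor
    · intro h
      have := congrArg (fun z => H18Torsor.DiagExact.chr z (Multiplicative.ofAdd (1 : ℤ))) h
      rw [Red.chi, H18Torsor.DiagExact.chr_comp_DSmap, H18Torsor.DiagExact.chr_one] at this
      simpa [ch] using this
    · intro h
      refine H18Torsor.DiagExact.chr_ext (MonoidHom.ext fun z => ?_)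
      rw [Red.chi, H18Torsor.DiagExact.chr_comp_DSmap, H18Torsor.DiagExact.chr_one]
      change ch (Multiplicative.ofAdd (Multiplicative.toAdd z • m)) = 1
      rw [ofAdd_zsmul]
      obtain ⟨n, hn⟩ := Int.eq_nat_or_neg (Multiplicative.toAdd z)
      rcases hn with hn | hn
      · rw [hn, zpow_natCast, map_pow, h, one_pow]
      · rw [hn, zpow_neg, zpow_natCast]
        have := map_mul ch (Multiplicative.ofAdd m ^ n) (Multiplicative.ofAdd m ^ n)⁻¹
        rw [mul_inv_cancel, map_one, map_pow, h, one_pow, _root_.one_mul] at this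
        exact this.symm
  have hspan : Submodule.span ℤ (Set.range D.P.root) ≤ K.toIntSubmodule := by
    rw [Submodule.span_le]
    rintro _ ⟨a, rfl⟩
    exact (hchi _).mp (hroots a)
  haveI : IsMonHom (Red.chi S m) := H21Diag.isMonHom_DSmap S (zmultiplesHom D.M m)
  refine (hchi m).mp (eq_one_of_pow hR (x ≫ Red.chi S m) hk ?_)
  rw [← DS_pow D, hchi]
  exact hspan hkm

/-- the inclusion of the radical -/
def radIncl : Red.DS S (D.M ⧸ satRoots D.P) ⟶ D.T :=
  Red.DSmap S (QuotientAddGroup.mk' (satRoots D.P)) ≫ D.split.inv.hom.hom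

theorem isMonHom_radIncl : IsMonHom (radIncl D) :=
  haveI : IsMonHom (Red.DSmap S (QuotientAddGroup.mk' (satRoots D.P))) := H21Diag.isMonHom_DSmap S _
  inferInstanceAs (IsMonHom (Red.DSmap S (QuotientAddGroup.mk' (satRoots D.P)) ≫ D.split.inv.hom.hom))

theorem mono_radIncl : Mono (radIncl D) :=
  haveI : Mono (Red.DSmap S (QuotientAddGroup.mk' (satRoots D.P))) :=
    H18Torsor.DiagExact.mono_DSmap _ (QuotientAddGroup.mk'_surjective _)
  haveI : IsIso D.split.inv.hom.hom :=
    ⟨D.split.hom.hom.hom, congrArg (fun z => z.hom.hom) D.split.inv_hom_id,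
      congrArg (fun z => z.hom.hom) D.split.hom_inv_id⟩
  mono_comp _ _

theorem radIncl_roots {X : Over S} (x : X ⟶ Red.DS S (D.M ⧸ satRoots D.P)) (a : D.idx) :
    (x ≫ radIncl D) ≫ D.split.hom.hom.hom ≫ Red.chi S (D.P.root a) = 1 := by
  rw [radIncl, Category.assoc, Category.assoc, ← Category.assoc D.split.inv.hom.hom, split_inv_hom, Category.id_comp, Red.chi, R2.DSmap_comp,
    show (QuotientAddGroup.mk' (satRoots D.P)).comp (zmultiplesHom D.M (D.P.root a)) = 0 from
      AddMonoidHom.ext_int (by simp [(QuotientAddGroup.eq_zero_iff _).mpr (root_mem_sat D.P a)]),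
    DSmap_zero, MonObj.comp_one]

/-- the lattice map of the radical and the coroot torus -/
def phi (N : AddSubgroup D.M) : D.M →+ (D.M ⧸ satRoots D.P) × (D.M ⧸ N) :=
  (QuotientAddGroup.mk' (satRoots D.P)).prod (QuotientAddGroup.mk' N)

theorem phi_facts (N : AddSubgroup D.M) (hN : ∀ m : D.M, m ∈ N ↔ ∀ a : D.idx, D.P.coroot a m = 0) :
    Function.Injective (phi D N) ∧ Finite (((D.M ⧸ satRoots D.P) × (D.M ⧸ N)) ⧸ (phi D N).range) := by
  haveI := D.fintypeIdx
  haveI : Finite D.idx := Finite.of_fintype _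
  haveI := D.freeM
  haveI := D.finiteM
  haveI : IsAddTorsionFree D.M := .of_isTorsionFree ℤ D.M
  have hN' : ∀ m : D.M, m ∈ N ↔ ∀ a : D.idx, D.P.coroot' a m = 0 := fun m => by
    rw [hN]
    exact forall_congr' fun a => by rw [RootPairing.coroot', LinearMap.flip_apply, D.pairing_eq]; rfl
  refine ⟨?_, ?_⟩
  · refine (injective_iff_map_eq_zero _).mpr fun m hm => ?_
    obtain ⟨h1, h2⟩ := Prod.mk.injEq .. ▸ hm
    obtain ⟨k, hk, hkm⟩ := (QuotientAddGroup.eq_zero_iff _).mp h1
    have := eq_zero_of_orth D.P hkm fun a => by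
      rw [map_nsmul, (hN' m).mp ((QuotientAddGroup.eq_zero_iff _).mp h2) a, smul_zero]
    exact (smul_eq_zero.mp this).resolve_left hk.ne'
  · obtain ⟨C, hC, hCx⟩ := exists_scalar D.P
    haveI : Module.Finite ℤ (D.M ⧸ satRoots D.P) :=
      Module.Finite.of_surjective (QuotientAddGroup.mk' (satRoots D.P)).toIntLinearMap (QuotientAddGroup.mk'_surjective _)
    haveI : Module.Finite ℤ (D.M ⧸ N) :=
      Module.Finite.of_surjective (QuotientAddGroup.mk' N).toIntLinearMap (QuotientAddGroup.mk'_surjective _)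
    let Q := ((D.M ⧸ satRoots D.P) × (D.M ⧸ N)) ⧸ (phi D N).range
    have htors : ∀ z : Q, C • z = 0 := by
      intro z
      induction z using QuotientAddGroup.induction_on with
      | H z =>
        obtain ⟨u, v⟩ := z
        induction u using QuotientAddGroup.induction_on with
        | H x =>
          induction v using QuotientAddGroup.induction_on with
          | H y =>
            obtain ⟨q, hq, hqx⟩ := hCx x
            obtain ⟨q', hq', hqy⟩ := hCx y
            have e : ∀ {w : D.M}, w ∈ Submodule.span ℤ (Set.range D.P.root) → w ∈ satRoots D.P :=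
              fun hw => ⟨1, one_pos, by rwa [one_smul]⟩
            rw [← QuotientAddGroup.mk_zsmul, QuotientAddGroup.eq_zero_iff]
            refine ⟨C • x - q + q', Prod.ext ?_ ?_⟩
            · refine QuotientAddGroup.eq.mpr ?_
              rw [show -(C • x - q + q') + C • x = q - q' by abel]
              exact sub_mem (e hq) (e hq')
            · refine QuotientAddGroup.eq.mpr ?_
              rw [show -(C • x - q + q') + C • y = -(C • x - q) + (C • y - q') by abel]
              exact add_mem (neg_mem ((hN' _).mpr hqx)) ((hN' _).mpr hqy)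
    haveI : AddGroup.FG ((D.M ⧸ satRoots D.P) × (D.M ⧸ N)) := Module.Finite.iff_addGroup_fg.mp inferInstance
    haveI : AddGroup.FG Q := AddGroup.fg_of_surjective (f := QuotientAddGroup.mk' (phi D N).range)
      (QuotientAddGroup.mk'_surjective _)
    refine AddCommGroup.finite_of_fg_torsion Q fun z => ?_
    exact isOfFinAddOrder_iff_zsmul_eq_zero.mpr ⟨C, hC, htors z⟩

/-- **The radical and the coroot torus generate the torus up to isogeny.** -/
theorem isogeny {Z R : Over S} [GrpObj Z] [GrpObj R] (j : Z ⟶ G) (hZ : Red.IsCentre j) (r : R ⟶ Z)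
    (hR : Red.IsMaximalTorus r) (r' : R ⟶ D.T) (hr' : r' ≫ D.i = r ≫ j)
    (N : AddSubgroup D.M) (hN : ∀ m : D.M, m ∈ N ↔ ∀ a : D.idx, D.P.coroot a m = 0) :
    Surjective ((r' ⊗ₘ (Red.DSmap S (QuotientAddGroup.mk' N) ≫ D.split.inv.hom.hom)) ≫ μ[D.T]).left ∧
      Flat ((r' ⊗ₘ (Red.DSmap S (QuotientAddGroup.mk' N) ≫ D.split.inv.hom.hom)) ≫ μ[D.T]).left ∧
      IsFinite ((r' ⊗ₘ (Red.DSmap S (QuotientAddGroup.mk' N) ≫ D.split.inv.hom.hom)) ≫ μ[D.T]).left := by
  classical
  haveI := D.maximalTorus.1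
  haveI := D.maximalTorus.2.1
  haveI := hR.1
  haveI := hR.2.1
  haveI := hZ.1
  haveI := hZ.2.1
  haveI := D.finiteM
  haveI := D.freeM
  haveI : IsMonHom (r' ≫ D.i) := by rw [hr']; infer_instance
  haveI : IsMonHom r' := H21Diag.isMonHom_of_comp_mono r' D.i
  let L := D.M ⧸ satRoots D.P
  haveI : Module.Finite ℤ L :=
    Module.Finite.of_surjective (QuotientAddGroup.mk' (satRoots D.P)).toIntLinearMap (QuotientAddGroup.mk'_surjective _)
  haveI : IsAddTorsionFree L := isAddTorsionFree_quot D.P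
  haveI : Module.IsTorsionFree ℤ L := inferInstance
  haveI : Module.Free ℤ L := Module.free_of_finite_type_torsion_free'
  let ι₁ := radIncl D
  haveI : IsMonHom ι₁ := isMonHom_radIncl D
  haveI : Mono ι₁ := mono_radIncl D
  -- the inclusion into the centre
  obtain ⟨r₁, hr₁⟩ : ∃ r₁ : Red.DS S L ⟶ Z, r₁ ≫ j = ι₁ ≫ D.i := by
    refine (hZ.2.2 _ _).mpr fun X' x h => ?_
    rw [← Category.assoc, Category.comp_id]
    exact commute_of_roots_trivial D (x ≫ ι₁) (fun a => radIncl_roots D x a) h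
  haveI : IsMonHom (r₁ ≫ j) := by rw [hr₁]; infer_instance
  haveI : IsMonHom r₁ := H21Diag.isMonHom_of_comp_mono r₁ j
  haveI : Mono r₁ := by
    haveI : Mono (r₁ ≫ j) := by rw [hr₁]; infer_instance
    exact mono_of_mono r₁ j
  -- the roots are trivial on the maximal torus of the centre
  obtain ⟨t₀, ht₀, hroots⟩ := exists_torus_of_central D (r ≫ j) fun X' x h => by
    have := ((hZ.2.2 X' (x ≫ r ≫ j)).mp ⟨x ≫ r, Category.assoc _ _ _⟩) X' (𝟙 _) h
    simpa using this
  obtain rfl : t₀ = r' := (cancel_mono D.i).mp (ht₀.trans hr'.symm)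
  haveI : IsMonHom (t₀ ≫ D.split.hom.hom.hom) := inferInstance
  have hsat : t₀ ≫ coradT D (satRoots D.P) = 1 := by
    refine H18Torsor.DiagExact.chr_ext (MonoidHom.ext fun m => ?_)
    rw [coradT, ← Category.assoc, H18Torsor.DiagExact.chr_comp_DSmap, H18Torsor.DiagExact.chr_one]
    exact chr_eq_one D hR.2.2.1 (t₀ ≫ D.split.hom.hom.hom) (fun a => (Category.assoc _ _ _).trans (hroots a))
      (Multiplicative.toAdd m).2
  obtain ⟨f, hf⟩ := exists_lift_coradT D t₀ hsat
  replace hf : f ≫ ι₁ = t₀ := hf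
  haveI : IsMonHom (f ≫ ι₁) := by rw [hf]; infer_instance
  haveI : IsMonHom f := H21Diag.isMonHom_of_comp_mono f ι₁
  have hfr : f ≫ r₁ = r := by
    rw [← cancel_mono j, Category.assoc, hr₁, ← Category.assoc, hf, hr']
  haveI : Mono f := by
    haveI : Mono (f ≫ r₁) := by rw [hfr]; infer_instance
    exact mono_of_mono f r₁
  let bL := Module.finBasis ℤ L
  have hL : Red.IsTorus (Red.DS S L) := H21Red0.isTorus_split (Iso.refl _)
  haveI : IsIso f := by
    refine Groth.Agent.S16611.result hR.2.2.1 hL f fun s => ?_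
    let g := Red.geomPt s
    haveI : IsMonHom ((Over.pullback g).map f) := H21Diag.isMonHom_bcMap g f
    haveI : IsMonHom ((Over.pullback g).map r₁) := H21Diag.isMonHom_bcMap g r₁
    haveI : Mono ((Over.pullback g).map r₁) := inferInstance
    let e : Grp.mk (Red.geomFibre s (Red.DS S L)) ≅ Grp.mk (Red.DS _ (Fin (Module.finrank ℤ L) → ℤ)) :=
      H21Diag.bcDSIso g L ≪≫ H21Red0.dsMapIso bL.equivFun.toAddEquiv.symm
    haveI hi := hR.2.2.2 s (Red.geomFibre s (Red.DS S L)) ((Over.pullback g).map r₁) ((Over.pullback g).map f)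
      (H21Red0.isTorus_split (H21Diag.bcDSIso g L)) (by rw [← Functor.map_comp, hfr])
    refine ⟨Module.finrank ℤ L, ⟨?_ ≪≫ e⟩, ⟨e⟩⟩
    exact H21Red0.grpIso (asIso ((Over.pullback g).map f)) ‹_›
  obtain ⟨hinj, hfin⟩ := phi_facts D N hN
  haveI : IsIso D.split.inv.hom.hom :=
    ⟨D.split.hom.hom.hom, congrArg (fun z => z.hom.hom) D.split.inv_hom_id,
      congrArg (fun z => z.hom.hom) D.split.hom_inv_id⟩
  have := props (QuotientAddGroup.mk' (satRoots D.P)) (QuotientAddGroup.mk' N) f D.split.inv.hom.hom hinj hfin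
  rwa [show f ≫ Red.DSmap S (QuotientAddGroup.mk' (satRoots D.P)) ≫ D.split.inv.hom.hom = t₀ from hf] at this

end Groth.Agent.H21Split.RadIsog
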