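import Groth.Prelude.Def_RedSub
import Mathlib.LinearAlgebra.RootSystem.Finite.Lemmas

/-!
Combinations of two roots.
-/

namespace Groth.Agent.H21Split

open RootPairing

set_option linter.style.haveILetI false
set_option linter.unusedSectionVars false

variable {ι M N : Type} [Finite ι] [AddCommGroup M] [AddCommGroup N] (P : RootPairing ι ℤ M N)

theorem coroot'_comb (a b c : ι) (p q : ℤ) :
    P.coroot' c (p • P.root a + q • P.root b) = p * P.pairing a c + q * P.pairing b c := by
  simp [map_add, map_smul]

theorem pairingIn_int (a b : ι) : P.pairingIn ℤ a b = P.pairing a b := by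
  simpa using P.algebraMap_pairingIn ℤ a b

/-- if two roots add up to neither zero nor a root, no positive combination of them does -/
theorem comb_ne_zero_and_notMem (a b : ι) (h0 : P.root a + P.root b ≠ 0)
    (hab : P.root a + P.root b ∉ Set.range P.root) :
    ∀ p q : ℕ, 1 ≤ p → 1 ≤ q →
      (p : ℤ) • P.root a + (q : ℤ) • P.root b ≠ 0 ∧
        (p : ℤ) • P.root a + (q : ℤ) • P.root b ∉ Set.range P.root := by
  have h1 : 0 ≤ P.pairing a b := by
    by_contra h
    exact hab (P.root_add_root_mem_of_pairingIn_neg (by rw [pairingIn_int]; omega)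
      fun e => h0 (by rw [e, neg_add_cancel]))
  have h2 : 0 ≤ P.pairing b a := by
    by_contra h
    refine hab ?_
    rw [add_comm]
    exact P.root_add_root_mem_of_pairingIn_neg (by rw [pairingIn_int]; omega)
      fun e => h0 (by rw [e, add_neg_cancel])
  have hz : ∀ p q : ℕ, 1 ≤ p → (p : ℤ) • P.root a + (q : ℤ) • P.root b ≠ 0 := fun p q hp h => by
    have := congrArg (P.coroot' a) h
    rw [coroot'_comb, map_zero, P.pairing_same] at this
    nlinarith
  suffices ∀ m p q : ℕ, p + q = m → 1 ≤ p → 1 ≤ q →
      (p : ℤ) • P.root a + (q : ℤ) • P.root b ∉ Set.range P.root from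
    fun p q hp hq => ⟨hz p q hp, this _ p q rfl hp hq⟩
  intro m
  induction m using Nat.strong_induction_on with
  | _ m ih =>
    rintro p q hm hp hq ⟨r, hr⟩
    rcases Nat.eq_or_lt_of_le hp with hp1 | hp2
    · rcases Nat.eq_or_lt_of_le hq with hq1 | hq2
      · exact hab ⟨r, by rw [hr, ← hp1, ← hq1]; simp⟩
      · have hpos : 0 < P.pairingIn ℤ r b := by
          rw [pairingIn_int, ← P.root_coroot'_eq_pairing, hr, coroot'_comb, P.pairing_same]
          nlinarith
        obtain ⟨r', hr'⟩ := P.root_sub_root_mem_of_pairingIn_pos hpos fun e => by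
          subst e
          refine hz p (q - 1) hp ?_
          rw [Nat.cast_sub (by omega), sub_smul, Nat.cast_one, one_smul, add_sub, ← hr, sub_self]
        refine ih _ (by omega) p (q - 1) rfl hp (by omega) ⟨r', ?_⟩
        rw [hr', hr, Nat.cast_sub (by omega), sub_smul, Nat.cast_one, one_smul, add_sub]
    · have hpos : 0 < P.pairingIn ℤ r a := by
        rw [pairingIn_int, ← P.root_coroot'_eq_pairing, hr, coroot'_comb, P.pairing_same]
        nlinarith
      obtain ⟨r', hr'⟩ := P.root_sub_root_mem_of_pairingIn_pos hpos fun e => by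
        subst e
        refine hz (p - 1) q (by omega) ?_
        rw [Nat.cast_sub (by omega), sub_smul, Nat.cast_one, one_smul, sub_add_eq_add_sub, ← hr, sub_self]
      refine ih _ (by omega) (p - 1) q rfl (by omega) hq ⟨r', ?_⟩
      rw [hr', hr, Nat.cast_sub (by omega), sub_smul, Nat.cast_one, one_smul, sub_add_eq_add_sub]

/-- a simple root is neither twice nor half another root, up to sign -/
theorem simple_not_double (b : P.Base) (i j : ι) (hi : i ∈ b.support) (t : ℤ) (ht : t = 2 ∨ t = -2) :
    P.root j ≠ t • P.root i := by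
  haveI : Module.IsReflexive ℤ M := .of_isPerfPair P.toLinearMap
  haveI : Module.IsReflexive ℤ N := .of_isPerfPair P.flip.toLinearMap
  haveI : IsAddTorsionFree M := .of_isTorsionFree ℤ M
  haveI : IsAddTorsionFree N := .of_isTorsionFree ℤ N
  intro h
  rcases b.eq_one_or_neg_one_of_mem_support_of_smul_mem i hi t ⟨j, h⟩ with h1 | h1 <;> omega

/-- a simple reflection keeps the positive roots other than its own root positive -/
theorem isPos_reflectionPerm (b : P.Base) {i j : ι} (hi : b.IsPos i) (hj : j ∈ b.support) (hij : i ≠ j) :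
    b.IsPos (P.reflectionPerm j i) := by
  classical
  haveI : Module.IsReflexive ℤ M := .of_isPerfPair P.toLinearMap
  haveI : Module.IsReflexive ℤ N := .of_isPerfPair P.flip.toLinearMap
  haveI : IsAddTorsionFree M := .of_isTorsionFree ℤ M
  haveI : IsAddTorsionFree N := .of_isTorsionFree ℤ N
  obtain ⟨f, hf₀, hf₁, hf₂⟩ := b.exists_root_eq_sum_int i
  have hpos : 0 < f := by
    refine hf₁.resolve_right fun h => ?_
    rw [RootPairing.Base.isPos_iff, RootPairing.Base.height_eq_sum hf₂] at hi
    exact not_lt.mpr (Finset.sum_nonpos fun k _ => h.le k) hi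
  let g : ι → ℤ := f - Pi.single j (P.pairing i j)
  have hg : P.root (P.reflectionPerm j i) = ∑ k ∈ b.support, g k • P.root k := by
    rw [P.root_reflectionPerm, P.reflection_apply_root]
    simp only [g, Pi.sub_apply, sub_smul, Finset.sum_sub_distrib, ← hf₂]
    congr 1
    rw [Finset.sum_eq_single_of_mem j hj fun k _ hk => by rw [Pi.single_eq_of_ne hk, zero_smul]]
    rw [Pi.single_eq_same]
  have hg₀ : g.support ⊆ b.support := by
    intro k hk
    by_contra h
    have hkj : k ≠ j := fun e => h (e ▸ hj)
    have hfk : f k = 0 := Function.notMem_support.mp fun h' => h (hf₀ h')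
    exact hk (by simp [g, Pi.single_eq_of_ne hkj, hfk])
  rcases b.pos_or_neg_of_sum_smul_root_mem g ⟨_, hg⟩ hg₀ with h | h
  · rw [RootPairing.Base.isPos_iff', RootPairing.Base.height_eq_sum hg]
    exact Finset.sum_nonneg fun k _ => h.le k
  · exfalso
    have h0 : ∀ k, k ≠ j → f k = 0 := fun k hk => by
      have h1 := h.le k
      have h2 := hpos.le k
      simp only [g, Pi.sub_apply, Pi.single_eq_of_ne hk, sub_zero, Pi.zero_apply] at h1 h2
      omega
    have hij' : f j • P.root j = P.root i := by
      rw [hf₂, Finset.sum_eq_single_of_mem j hj fun k _ hk => by rw [h0 k hk, zero_smul]]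
    have h2 := hpos.le j
    rcases b.eq_one_or_neg_one_of_mem_support_of_smul_mem j hj (f j) ⟨i, hij'.symm⟩ with e | e
    · rw [e, one_smul] at hij'
      exact hij (P.root.injective hij'.symm)
    · simp only [Pi.zero_apply] at h2
      omega

/-- every property stable by simple reflections that holds for simple roots holds for all roots -/
theorem induction_reflect (b : P.Base) {p : ι → Prop} (h₀ : ∀ i, p i → p (P.reflectionPerm i i))
    (h₁ : ∀ i ∈ b.support, p i) (h₂ : ∀ i j, p i → j ∈ b.support → p (P.reflectionPerm j i)) (i : ι) :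
    p i := by
  have key : ∀ (n : ℕ) (i : ι), b.IsPos i → (b.height i).natAbs = n → p i := by
    intro n
    induction n using Nat.strong_induction_on with
    | _ n ih =>
      intro i hi hn
      obtain ⟨j, hj, hj'⟩ := hi.exists_mem_support_pos_pairingIn
      rcases eq_or_ne i j with rfl | hij
      · exact h₁ i hj
      have hk := isPos_reflectionPerm P b hi hj hij
      have hji : 0 < P.pairing i j := by
        have := (P.zero_lt_pairingIn_iff' ℤ).mp hj'
        rwa [pairingIn_int] at this
      have hh : b.height (P.reflectionPerm j i) = b.height i - P.pairing i j := by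
        have e : P.root (P.reflectionPerm j i) = P.root i + (-P.pairing i j) • P.root j := by
          rw [P.root_reflectionPerm, P.reflection_apply_root, neg_smul, sub_eq_add_neg]
        rw [b.height_add_zsmul e, RootPairing.Base.height_one_of_mem_support hj, smul_eq_mul, mul_one,
          sub_eq_add_neg]
      rw [RootPairing.Base.isPos_iff] at hi hk
      have := h₂ _ j (ih _ (by omega) (P.reflectionPerm j i) hk rfl) hj
      simpa using this
  let := P.indexNeg
  rcases RootPairing.Base.IsPos.or_neg b i with hi | hi
  · exact key _ i hi rfl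
  · rw [← neg_neg i]
    exact h₀ (-i) (key _ (-i) hi rfl)

theorem isReduced_of_base (b : P.Base) : P.IsReduced := by
  haveI : Module.IsReflexive ℤ M := .of_isPerfPair P.toLinearMap
  haveI : Module.IsReflexive ℤ N := .of_isPerfPair P.flip.toLinearMap
  haveI : IsAddTorsionFree M := .of_isTorsionFree ℤ M
  haveI : IsAddTorsionFree N := .of_isTorsionFree ℤ N
  suffices h : ∀ i j : ι, P.coxeterWeightIn ℤ i j = 4 → P.root i = P.root j ∨ P.root i = -P.root j from
    (isReduced_iff P).mpr fun i j hl => h i j ((P.coxeterWeightIn_eq_four_iff_not_linearIndependent ℤ).mpr hl)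
  intro i
  induction i using induction_reflect P b with
  | h₀ i ih =>
    intro j hj
    have := ih j (by simpa [RootPairing.coxeterWeightIn] using hj)
    simp only [P.root_reflectionPerm, P.reflection_apply_self]
    rcases this with h | h
    · exact Or.inr (by rw [h])
    · exact Or.inl (by rw [h, neg_neg])
  | h₁ i hi =>
    intro j hj
    have hset := P.pairingIn_pairingIn_mem_set_of_isCrystallographic i j
    simp only [Set.mem_insert_iff, Set.mem_singleton_iff, Prod.mk.injEq] at hset
    rw [RootPairing.coxeterWeightIn] at hj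
    rcases hset with h | h | h | h | h | h | h | h | h | h | h | h | h | h | h | h | h <;>
      (obtain ⟨h1, h2⟩ := h; rw [h1, h2] at hj; try omega)
    · exfalso
      have := (P.flip.pairingIn_one_four_iff ℤ i j).mp ⟨by simpa [pairingIn_int] using h2, by simpa [pairingIn_int] using h1⟩
      exact simple_not_double P.flip b.flip i j hi 2 (Or.inl rfl) this
    · exact absurd ((P.pairingIn_one_four_iff ℤ i j).mp ⟨h1, h2⟩) (simple_not_double P b i j hi 2 (Or.inl rfl))
    · exfalso
      have := (P.flip.pairingIn_neg_one_neg_four_iff ℤ i j).mp ⟨by simpa [pairingIn_int] using h2, by simpa [pairingIn_int] using h1⟩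
      exact simple_not_double P.flip b.flip i j hi (-2) (Or.inr rfl) this
    · exact absurd ((P.pairingIn_neg_one_neg_four_iff ℤ i j).mp ⟨h1, h2⟩)
        (simple_not_double P b i j hi (-2) (Or.inr rfl))
    · exact Or.inl (congrArg P.root ((P.pairingIn_two_two_iff ℤ i j).mp ⟨h1, h2⟩))
    · exact Or.inr ((P.pairingIn_neg_two_neg_two_iff ℤ i j).mp ⟨h1, h2⟩)
  | h₂ i s ih hs =>
    intro j hj
    have hk : P.coxeterWeightIn ℤ i (P.reflectionPerm s j) = 4 := by
      rw [← hj]
      have e1 : P.pairing i (P.reflectionPerm s j) = P.pairing (P.reflectionPerm s i) j := by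
        simp [P.pairing_reflectionPerm]
      have e2 : P.pairing (P.reflectionPerm s j) i = P.pairing j (P.reflectionPerm s i) := by
        simp [P.pairing_reflectionPerm]
      simp only [RootPairing.coxeterWeightIn, pairingIn_int, e1, e2]
    rcases ih _ hk with h | h
    · left
      have := congrArg (P.reflection s) h
      rwa [← P.root_reflectionPerm, ← P.root_reflectionPerm, P.reflectionPerm_self] at this
    · right
      have := congrArg (P.reflection s) h
      rwa [map_neg, ← P.root_reflectionPerm, ← P.root_reflectionPerm, P.reflectionPerm_self] at this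

/-- roots which are positive for a base -/
theorem two_pos_comb (b : P.Base) {a c : ι} (ha : a ∈ RedSub.posRoots P b) (hc : c ∈ RedSub.posRoots P b)
    (p q : ℕ) (hp : 1 ≤ p) : (p : ℤ) • P.root a + (q : ℤ) • P.root c ≠ 0 := by
  intro h
  have hmem : ∀ x : ι, x ∈ RedSub.posRoots P b →
      ∃ f : ι → ℕ, P.root x = ∑ k ∈ b.support, f k • P.root k := fun x hx => by
    change P.root x ∈ AddSubmonoid.closure _ at hx
    rw [← Submodule.span_nat_eq_addSubmonoidClosure, Submodule.mem_toAddSubmonoid] at hx
    classical
    obtain ⟨l, hl, hl'⟩ := (Finsupp.mem_span_image_iff_linearCombination ℕ).mp hx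
    refine ⟨l, hl'.symm.trans ?_⟩
    rw [Finsupp.linearCombination_apply]
    exact Finset.sum_subset (fun k hk => hl hk) fun k _ hk => by
      show l k • P.root k = 0
      rw [Finsupp.notMem_support_iff.mp hk, zero_smul]
  obtain ⟨f, hf⟩ := hmem a ha
  obtain ⟨f', hf'⟩ := hmem c hc
  have hsum : ∑ k ∈ b.support, ((p * f k + q * f' k : ℕ) : ℤ) • P.root k = 0 := by
    rw [← h, hf, hf', Finset.smul_sum, Finset.smul_sum, ← Finset.sum_add_distrib]
    refine Finset.sum_congr rfl fun k _ => ?_
    rw [Nat.cast_add, Nat.cast_mul, Nat.cast_mul, add_smul, mul_smul, mul_smul, natCast_zsmul (P.root k) (f k),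
      natCast_zsmul (P.root k) (f' k)]
  have h0 := linearIndepOn_finset_iff.mp b.linearIndepOn_root _ hsum
  refine P.ne_zero a ?_
  rw [hf]
  refine Finset.sum_eq_zero fun k hk => ?_
  have h1 := h0 k hk
  have h2 : p * f k = 0 := by omega
  rw [(Nat.mul_eq_zero.mp h2).resolve_left (by omega), zero_smul]

/-- the exponents of a combination of two positive roots are determined -/
theorem comb_unique (b : P.Base) {a c x : ι} (ha : a ∈ RedSub.posRoots P b) (hc : c ∈ RedSub.posRoots P b)
    {p q p' q' : ℕ} (hp : 1 ≤ p) (hq : 1 ≤ q) (_hp' : 1 ≤ p') (_hq' : 1 ≤ q')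
    (h : P.root x = (p : ℤ) • P.root a + (q : ℤ) • P.root c)
    (h' : P.root x = (p' : ℤ) • P.root a + (q' : ℤ) • P.root c) : p = p' ∧ q = q' := by
  haveI := isReduced_of_base P b
  haveI : Module.IsReflexive ℤ M := .of_isPerfPair P.toLinearMap
  haveI : IsAddTorsionFree M := .of_isTorsionFree ℤ M
  by_cases hli : LinearIndependent ℤ ![P.root a, P.root c]
  · have h1 := LinearIndependent.pair_iff.mp hli ((p : ℤ) - p') ((q : ℤ) - q') (by
      rw [sub_smul, sub_smul, ← add_sub_add_comm, ← h, ← h', sub_self])
    omega
  · exfalso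
    rcases IsReduced.eq_or_eq_neg (P := P) a c hli with e | e
    · rw [← e, ← add_smul, ← Nat.cast_add, natCast_zsmul] at h
      haveI : (p + q).AtLeastTwo := ⟨by omega⟩
      exact P.nsmul_notMem_range_root ⟨x, h⟩
    · exact two_pos_comb P b ha hc 1 1 le_rfl (by rw [e]; simp)

end Groth.Agent.H21Split
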