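import Groth.Agent.H21Split.DualAt
import Groth.Agent.H21Split.RootLemmas
import Mathlib.LinearAlgebra.RootSystem.Finite.Nondegenerate
import Mathlib.LinearAlgebra.Matrix.ToLinearEquiv

/-!
After a finite free extension a point of the torus is a product of coroot points and of a point killed by the roots.
-/

open CategoryTheory MonoidalCategory CartesianMonoidalCategory MonObj GrpObj AlgebraicGeometry

universe u

set_option backward.isDefEq.respectTransparency false
set_option linter.style.haveILetI false
set_option linter.unusedSectionVars false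
set_option synthInstance.maxHeartbeats 400000

noncomputable section

namespace Groth.Agent.H21Split

/-- a root of a unit after an injective extension -/
theorem exists_root {B : Type u} [CommRing B] (z : Bˣ) {n : ℕ} (hn : 0 < n) :
    ∃ (B' : Type u) (_ : CommRing B') (f : B →+* B') (w : B'ˣ), Function.Injective f ∧ w ^ n = Units.map f.toMonoidHom z := by
  rcases subsingleton_or_nontrivial B with hB | hB
  · exact ⟨B, inferInstance, RingHom.id B, 1, Function.injective_id, Subsingleton.elim _ _⟩
  let P : Polynomial B := Polynomial.X ^ n - Polynomial.C (z : B)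
  have hP : P.Monic := Polynomial.monic_X_pow_sub_C _ hn.ne'
  have hroot : AdjoinRoot.root P ^ n = AdjoinRoot.of P (z : B) := by
    have h := AdjoinRoot.eval₂_root P
    simp only [P, Polynomial.eval₂_sub, Polynomial.eval₂_X_pow, Polynomial.eval₂_C, sub_eq_zero] at h
    exact h
  have hu : IsUnit (AdjoinRoot.root P) :=
    (isUnit_pow_iff hn.ne').mp (hroot ▸ z.isUnit.map (AdjoinRoot.of P))
  refine ⟨AdjoinRoot P, inferInstance, AdjoinRoot.of P, hu.unit, ?_, Units.ext hroot⟩
  refine (injective_iff_map_eq_zero _).mpr fun x hx => ?_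
  by_contra h
  rw [← AdjoinRoot.mk_C, AdjoinRoot.mk_eq_zero] at hx
  refine hP.not_dvd_of_degree_lt (Polynomial.C_ne_zero.mpr h) ?_ hx
  rw [Polynomial.degree_X_pow_sub_C hn, Polynomial.degree_C h]
  exact_mod_cast hn

/-- roots of finitely many units after an injective extension -/
theorem exists_roots {n : ℕ} (hn : 0 < n) : ∀ (k : ℕ) {B : Type u} [CommRing B] (z : Fin k → Bˣ),
    ∃ (B' : Type u) (_ : CommRing B') (f : B →+* B') (w : Fin k → B'ˣ),
      Function.Injective f ∧ ∀ i, w i ^ n = Units.map f.toMonoidHom (z i)
  | 0, B, _, _ => ⟨B, inferInstance, RingHom.id B, Fin.elim0, Function.injective_id, fun i => i.elim0⟩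
  | k + 1, B, _, z => by
    obtain ⟨B₁, _, f₁, w, hf₁, hw⟩ := exists_root (z 0) hn
    obtain ⟨B₂, _, f₂, v, hf₂, hv⟩ := exists_roots hn k fun i => Units.map f₁.toMonoidHom (z i.succ)
    refine ⟨B₂, inferInstance, f₂.comp f₁, Fin.cons (Units.map f₂.toMonoidHom w) v, hf₂.comp hf₁, fun i => ?_⟩
    induction i using Fin.cases with
    | zero => rw [Fin.cons_zero, ← map_pow, hw]; rfl
    | succ i => rw [Fin.cons_succ, hv]; rfl

variable {S : Scheme.{u}} {G : Over S} [GrpObj G] (D : Red.SplitRed G)

theorem pairing_apply (c : D.idx) (x : D.idx) :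
    D.P.coroot c (D.P.root x) = D.P.pairing x c := by
  rw [coroot_apply, D.P.root_coroot'_eq_pairing]

open scoped Classical in
/-- the simple coroots are separated by the simple roots -/
theorem cartan_det_ne_zero (b : D.P.Base) :
    (Matrix.of fun i j : b.support => D.P.pairing i.1 j.1).det ≠ 0 := by
  classical
  haveI := D.fintypeIdx
  haveI : Finite D.idx := Finite.of_fintype _
  intro h0
  obtain ⟨n, hn, hCn⟩ := Matrix.exists_mulVec_eq_zero_iff.mpr h0
  refine hn ?_
  let y : Module.Dual ℤ D.M := ∑ j : b.support, n j • D.P.coroot j.1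
  have hy0 : ∀ i : b.support, y (D.P.root i.1) = 0 := fun i => by
    have := congrFun hCn i
    simp only [Matrix.mulVec, dotProduct, Matrix.of_apply, Pi.zero_apply] at this
    rw [← this]
    simp only [y, LinearMap.sum_apply, LinearMap.smul_apply, smul_eq_mul, pairing_apply]
    exact Finset.sum_congr rfl fun j _ => mul_comm _ _
  have hyall : ∀ x : D.idx, y (D.P.root x) = 0 := by
    have hcl : ∀ m ∈ AddSubmonoid.closure (D.P.root '' (b.support : Set D.idx)), y m = 0 := fun m hm => by
      induction hm using AddSubmonoid.closure_induction with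
      | mem m hm => obtain ⟨i, hi, rfl⟩ := hm; exact hy0 ⟨i, hi⟩
      | zero => exact map_zero y
      | add m m' _ _ h h' => rw [map_add, h, h', add_zero]
    intro x
    rcases b.root_mem_or_neg_mem x with h | h
    · exact hcl _ h
    · simpa using hcl _ h
  have hy : y = 0 := by
    refine D.P.flip.eq_zero_of_mem_rootSpan_of_rootForm_self_eq_zero ?_ ?_
    · exact Submodule.sum_mem _ fun j _ => Submodule.smul_mem _ _ (Submodule.subset_span ⟨j.1, rfl⟩)
    · rw [D.P.flip.rootForm_apply_apply]
      refine Finset.sum_eq_zero fun i _ => ?_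
      have e : D.P.flip.coroot' i y = y (D.P.root i) := by
        change D.P.toLinearMap (D.P.root i) y = _
        rw [D.pairing_eq]
        rfl
      rw [e, hyall, mul_zero]
  funext j
  have hli := linearIndepOn_finset_iff.mp b.linearIndepOn_coroot (fun x => if h : x ∈ b.support then n ⟨x, h⟩ else 0) ?_
    j.1 j.2
  · simpa using hli
  · rw [← Finset.sum_coe_sort]
    simpa [y] using hy

variable {B : Type u} [CommRing B]

/-- the coroot at a unit, as a character with unit values -/
def corU (z : Bˣ) (a : D.idx) : Multiplicative D.M →* Bˣ where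
  toFun m := z ^ D.P.coroot a m.toAdd
  map_one' := by simp
  map_mul' m m' := by rw [toAdd_mul, map_add, zpow_add]

theorem coe_corU (z : Bˣ) (a : D.idx) : (Units.coeHom B).comp (corU D z a) = cor D z a := rfl

/-- the decomposition of a character -/
theorem exists_decomp (b : D.P.Base) (χ : Multiplicative D.M →* B) :
    ∃ (B' : Type u) (_ : CommRing B') (f : B →+* B') (χ₀ : Multiplicative D.M →* B') (r : b.support → B'ˣ),
      Function.Injective f ∧ (∀ x : D.idx, χ₀ (Multiplicative.ofAdd (D.P.root x)) = 1) ∧
      f.toMonoidHom.comp χ = χ₀ * ∏ j : b.support, cor D (r j) j.1 := by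
  classical
  let C : Matrix b.support b.support ℤ := Matrix.of fun i j => D.P.pairing i.1 j.1
  let d : ℕ := C.det.natAbs
  have hd : 0 < d := Int.natAbs_pos.mpr (cartan_det_ne_zero D b)
  let A : Matrix b.support b.support ℤ := C.det.sign • C.adjugate
  have hCA : C * A = (d : ℤ) • 1 := by
    rw [Matrix.mul_smul, Matrix.mul_adjugate, smul_smul, Int.sign_mul_self_eq_natAbs]
  let e := b.support.equivFin
  obtain ⟨B', _, f, w, hf, hw⟩ := exists_roots hd _ fun i => χ.toHomUnits (Multiplicative.ofAdd (D.P.root (e.symm i).1))
  let χ' : Multiplicative D.M →* B'ˣ := (Units.map f.toMonoidHom).comp χ.toHomUnits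
  let r : b.support → B'ˣ := fun j => ∏ i : b.support, w (e i) ^ A j i
  let χ₁ : Multiplicative D.M →* B'ˣ := χ' * (∏ j : b.support, corU D (r j) j.1)⁻¹
  have hr : ∀ x : b.support, (∏ j : b.support, corU D (r j) j.1) (Multiplicative.ofAdd (D.P.root x.1)) =
      χ' (Multiplicative.ofAdd (D.P.root x.1)) := by
    intro x
    rw [MonoidHom.finsetProd_apply]
    change ∏ j : b.support, r j ^ D.P.coroot j.1 (D.P.root x.1) = _
    simp only [r, pairing_apply, ← Finset.prod_zpow, ← zpow_mul]
    rw [Finset.prod_comm, Finset.prod_eq_single x]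
    · have h : ∀ (u : B'ˣ) (s : b.support → ℤ) (t : Finset b.support), ∏ j ∈ t, u ^ s j = u ^ ∑ j ∈ t, s j := by
        intro u s t
        induction t using Finset.induction_on with
        | empty => simp
        | insert j t hj ih => rw [Finset.prod_insert hj, Finset.sum_insert hj, ih, zpow_add]
      rw [h, show ∑ j, A j x * D.P.pairing x.1 j.1 = (d : ℤ) from ?_, zpow_natCast, hw, Equiv.symm_apply_apply]
      · rfl
      · have := congrFun (congrFun hCA x) x
        simp only [Matrix.mul_apply, C, Matrix.of_apply, Matrix.smul_apply, Matrix.one_apply_eq, smul_eq_mul,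
          _root_.mul_one] at this
        rw [← this]
        exact Finset.sum_congr rfl fun j _ => mul_comm _ _
    · intro i _ hi
      have h : ∀ (u : B'ˣ) (s : b.support → ℤ) (t : Finset b.support), ∏ j ∈ t, u ^ s j = u ^ ∑ j ∈ t, s j := by
        intro u s t
        induction t using Finset.induction_on with
        | empty => simp
        | insert j t hj ih => rw [Finset.prod_insert hj, Finset.sum_insert hj, ih, zpow_add]
      rw [h, show ∑ j, A j i * D.P.pairing x.1 j.1 = 0 from ?_, zpow_zero]
      have := congrFun (congrFun hCA x) i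
      simp only [Matrix.mul_apply, C, Matrix.of_apply, Matrix.smul_apply, Matrix.one_apply_ne (Ne.symm hi),
        smul_eq_mul, mul_zero] at this
      rw [← this]
      exact Finset.sum_congr rfl fun j _ => mul_comm _ _
    · simp
  have h0 : ∀ x : D.idx, χ₁ (Multiplicative.ofAdd (D.P.root x)) = 1 := by
    have hcl : ∀ m ∈ AddSubmonoid.closure (D.P.root '' (b.support : Set D.idx)), χ₁ (Multiplicative.ofAdd m) = 1 :=
      fun m hm => by
      induction hm using AddSubmonoid.closure_induction with
      | mem m hm =>
        obtain ⟨i, hi, rfl⟩ := hm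
        rw [MonoidHom.mul_apply, MonoidHom.inv_apply, hr ⟨i, hi⟩, mul_inv_cancel]
      | zero => rw [ofAdd_zero, map_one]
      | add m m' _ _ h h' => rw [ofAdd_add, map_mul, h, h', _root_.one_mul]
    intro x
    rcases b.root_mem_or_neg_mem x with h | h
    · exact hcl _ h
    · have := hcl _ h
      rwa [ofAdd_neg, map_inv, inv_eq_one] at this
  refine ⟨B', inferInstance, f, (Units.coeHom B').comp χ₁, r, hf, fun x => by
    rw [MonoidHom.comp_apply, h0, map_one], ?_⟩
  refine MonoidHom.ext fun m => ?_
  rw [MonoidHom.mul_apply, MonoidHom.finsetProd_apply, MonoidHom.comp_apply, MonoidHom.comp_apply]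
  simp only [← coe_corU, MonoidHom.comp_apply, ← map_prod]
  rw [← map_mul, MonoidHom.mul_apply, MonoidHom.inv_apply, MonoidHom.finsetProd_apply, inv_mul_cancel_right]
  rfl

end Groth.Agent.H21Split
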