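import Groth.Agent.H21Split.Family

/-!
The derivations of a split group at the unit: basis by the roots and the torus, and weight vectors.
-/

open CategoryTheory MonoidalCategory CartesianMonoidalCategory MonObj GrpObj AlgebraicGeometry
open CategoryTheory.Limits
open TrivSqZeroExt (inl inr fst snd)

universe u

set_option backward.isDefEq.respectTransparency false
set_option linter.style.haveILetI false
set_option synthInstance.maxHeartbeats 400000

noncomputable section

namespace Groth.Agent.H21Split

variable {S : Scheme.{u}} {R : Type u} [CommRing R] (g : Spec (CommRingCat.of R) ⟶ S)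
variable {B : Type u} [CommRing B] [Algebra R B]
variable {G : Over S} [GrpObj G] (D : Red.SplitRed G)

theorem root_ne_zero (a : D.idx) : D.P.root a ≠ 0 := D.P.ne_zero a

/-- the point with given coefficients -/
def lieComb (c : D.idx → B) (h : Fin (rk D) → B) : pt g (DualNumber B) ⟶ G :=
  ((Finset.univ.toList : List D.idx).map fun a => uPt g D a (inr (c a) : DualNumber B)).prod *
    tPt g D (expChar D (hOf D h))

variable (R B) in
/-- the universal character -/
def univChar : Multiplicative D.M →* DualNumber (MonoidAlgebra B (Multiplicative D.M)) :=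
  (TrivSqZeroExt.inlHom (MonoidAlgebra B (Multiplicative D.M))
    (MonoidAlgebra B (Multiplicative D.M))).toMonoidHom.comp (MonoidAlgebra.of B (Multiplicative D.M))

variable (R B) in
/-- constants of the group algebra -/
def constMap : B →ₐ[R] MonoidAlgebra B (Multiplicative D.M) :=
  IsScalarTower.toAlgHom R B (MonoidAlgebra B (Multiplicative D.M))

theorem constMap_apply (b : B) : constMap R B D b = MonoidAlgebra.single 1 b := by
  simp [constMap]

variable [IsAffineHom G.hom]

theorem isLie_lieComb (c : D.idx → B) (h : Fin (rk D) → B) :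
    IsLie g (lieComb g D c h) :=
  ((isLie_prod (g := g) _ _ fun a => isLie_uPt_inr g D a (c a)).1).mul (isLie_tPt g D _)

theorem lieDev_lieComb (c : D.idx → B) (h : Fin (rk D) → B) (x : Crd g G) :
    lieDev g (lieComb g D c h) x = ∑ a, c a * algebraMap R B (vec g D (Sum.inl a) x) +
      ∑ j, h j * algebraMap R B (vec g D (Sum.inr j) x) := by
  rw [lieComb, lieDev_mul (isLie_prod (g := g) _ _ fun a => isLie_uPt_inr g D a (c a)).1 (isLie_tPt g D _),
    LinearMap.add_apply, lieDev_tPt_hOf, (isLie_prod (g := g) _ _ fun a => isLie_uPt_inr g D a (c a)).2]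
  congr 1
  rw [Finset.sum_map_toList, LinearMap.sum_apply]
  exact Finset.sum_congr rfl fun a _ => lieDev_uPt g D a (c a) x

/-- conjugating a combination by the universal point of the torus -/
theorem conj_lieComb (c : D.idx → B) (h : Fin (rk D) → B) :
    tPt g D (univChar B D) * (pmap g (dnMap (constMap R B D)) ≫ lieComb g D c h) *
        (tPt g D (univChar B D))⁻¹ =
      lieComb g D (fun a => MonoidAlgebra.single (Multiplicative.ofAdd (D.P.root a)) (c a))
        (fun j => MonoidAlgebra.single 1 (h j)) := by
  have h1 : pmap g (dnMap (constMap R B D)) ≫ tPt g D (expChar D (hOf D h)) =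
      tPt g D (expChar D (hOf D fun j => MonoidAlgebra.single 1 (h j))) := by
    rw [pmap_tPt]
    congr 1
    refine MonoidHom.ext fun m => TrivSqZeroExt.ext ?_ ?_
    · refine (fst_dnMap _ _).trans ?_
      rw [fst_expChar, fst_expChar, map_one]
    · refine (snd_dnMap _ _).trans ?_
      rw [snd_expChar, snd_expChar]
      simp only [← constMap_apply (R := R) D]
      simp [hOf, coordHom, AddMonoidHom.finsetSum_apply, map_sum]
  rw [lieComb, MonObj.comp_mul, h1, ← MulAut.conj_apply, map_mul]
  unfold lieComb
  congr 1
  · have h3 : pmap g (dnMap (constMap R B D)) ≫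
        ((Finset.univ.toList : List D.idx).map fun a => uPt g D a (inr (c a) : DualNumber B)).prod =
        ((Finset.univ.toList : List D.idx).map fun a =>
          uPt g D a (inr (MonoidAlgebra.single 1 (c a)) :
            DualNumber (MonoidAlgebra B (Multiplicative D.M)))).prod := by
      induction (Finset.univ.toList : List D.idx) with
      | nil => exact MonObj.comp_one _
      | cons k l ih =>
        simp only [List.map_cons, List.prod_cons, MonObj.comp_mul, ih, pmap_uPt]
        congr 2
        refine TrivSqZeroExt.ext ?_ ?_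
        · rw [fst_dnMap]; simp
        · rw [snd_dnMap]; simp [constMap_apply]
    rw [h3, map_list_prod, List.map_map]
    congr 1
    refine List.map_congr_left fun a _ => ?_
    change MulAut.conj _ _ = _
    rw [MulAut.conj_apply, tPt_conj]
    congr 1
    refine TrivSqZeroExt.ext ?_ ?_
    · simp [univChar]
    · simp [univChar, MonoidAlgebra.single_mul_single]
  · rw [MulAut.conj_apply, mul_inv_eq_iff_eq_mul]
    exact tPt_commute g D _ _

omit [IsAffineHom G.hom] in
theorem lieDev_eq_zero_apply {φ : pt g (DualNumber B) ⟶ G} (h : φ = 1) (x : Crd g G) : lieDev g φ x = 0 := by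
  rw [h, lieDev_one, LinearMap.zero_apply]

/-- the vectors are independent over every non-trivial algebra which is a field -/
theorem vec_independent (K : Type u) [Field K] [Algebra R K] (c : D.idx → K) (h : Fin (rk D) → K)
    (h0 : ∀ x, ∑ a, c a * algebraMap R K (vec g D (Sum.inl a) x) +
      ∑ j, h j * algebraMap R K (vec g D (Sum.inr j) x) = 0) : c = 0 ∧ h = 0 := by
  have hΦ : lieComb g D c h = 1 :=
    eq_of_lieDev (isLie_lieComb g D c h) isLie_one (LinearMap.ext fun x => by
      rw [lieDev_lieComb, h0, lieDev_one, LinearMap.zero_apply])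
  have hconj := conj_lieComb g D c h
  rw [hΦ, MonObj.comp_one, _root_.mul_one, mul_inv_cancel] at hconj
  have hx : ∀ x, ∑ a, MonoidAlgebra.single (Multiplicative.ofAdd (D.P.root a))
        (c a * algebraMap R K (vec g D (Sum.inl a) x)) +
      MonoidAlgebra.single (1 : Multiplicative D.M) (∑ j, h j * algebraMap R K (vec g D (Sum.inr j) x)) = 0 := by
    intro x
    have := lieDev_lieComb g D (fun a => MonoidAlgebra.single (Multiplicative.ofAdd (D.P.root a)) (c a))
      (fun j => MonoidAlgebra.single (1 : Multiplicative D.M) (h j)) x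
    rw [lieDev_eq_zero_apply g hconj.symm] at this
    have hs : MonoidAlgebra.single (1 : Multiplicative D.M) (∑ j, h j * algebraMap R K (vec g D (Sum.inr j) x)) =
        ∑ j, MonoidAlgebra.single (1 : Multiplicative D.M) (h j * algebraMap R K (vec g D (Sum.inr j) x)) :=
      map_sum (MonoidAlgebra.singleAddHom (1 : Multiplicative D.M)) _ _
    rw [this, hs]
    simp [IsScalarTower.algebraMap_apply R K (MonoidAlgebra K (Multiplicative D.M)),
      MonoidAlgebra.single_mul_single, Finset.sum_add_distrib]
  have hc : ∀ a, uPt g D a (inr (c a) : DualNumber K) = 1 := fun a => by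
    refine eq_of_lieDev (isLie_uPt_inr g D a (c a)) isLie_one (LinearMap.ext fun x => ?_)
    rw [lieDev_uPt, lieDev_one, LinearMap.zero_apply]
    classical
    have := congrArg (fun p : MonoidAlgebra K (Multiplicative D.M) => p.coeff (Multiplicative.ofAdd (D.P.root a))) (hx x)
    simp only [MonoidAlgebra.coeff_add, MonoidAlgebra.coeff_sum, MonoidAlgebra.coeff_single, Finsupp.add_apply,
      Finsupp.finsetSum_apply, MonoidAlgebra.coeff_zero, Finsupp.coe_zero, Pi.zero_apply] at this
    rw [Finset.sum_eq_single a (fun b _ hb => Finsupp.single_eq_of_ne fun h => hb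
      (D.P.root.injective (Multiplicative.ofAdd.injective h)).symm) (by simp), Finsupp.single_eq_same,
      Finsupp.single_eq_of_ne (show Multiplicative.ofAdd (D.P.root a) ≠ 1 from fun h => root_ne_zero D a (Multiplicative.ofAdd.injective h)), add_zero] at this
    exact this
  have hc0 : c = 0 := funext fun a => by
    have := uPt_injective g D a ((hc a).trans (uPt_zero g D a).symm)
    simpa using congrArg TrivSqZeroExt.snd this
  refine ⟨hc0, ?_⟩
  have ht : tPt g D (expChar D (hOf D h)) = 1 := by
    refine eq_of_lieDev (isLie_tPt g D _) isLie_one (LinearMap.ext fun x => ?_)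
    rw [lieDev_tPt_hOf, lieDev_one, LinearMap.zero_apply]
    simpa [hc0] using h0 x
  have := tPt_injective g D (ht.trans (tPt_one g D).symm)
  funext j
  have hj := congrArg TrivSqZeroExt.snd (DFunLike.congr_fun this (Multiplicative.ofAdd (bM D j)))
  rw [snd_expChar] at hj
  simpa [hOf_basis] using hj

omit [IsAffineHom G.hom] in
theorem towerIso_aux (K : Type u) [CommRing K] [Algebra R K] (B : Type u) [CommRing B] [Algebra R B]
    [Algebra K B] [IsScalarTower R K B] :
    (Iso.refl (Spec (CommRingCat.of B))).hom ≫ (pt g B).hom =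
      (pt (Spec.map (CommRingCat.ofHom (algebraMap R K)) ≫ g) B).hom := by
  have h : Spec.map (CommRingCat.ofHom (algebraMap K B)) ≫ Spec.map (CommRingCat.ofHom (algebraMap R K)) =
      Spec.map (CommRingCat.ofHom (algebraMap R B)) := by
    rw [← Spec.map_comp, ← CommRingCat.ofHom_comp, ← IsScalarTower.algebraMap_eq]
  exact (Category.id_comp _).trans ((congrArg (· ≫ g) h).symm.trans (Category.assoc _ _ _))

omit [IsAffineHom G.hom] in
/-- the identity of test objects for an algebra over an intermediate field -/
def towerIso (K : Type u) [CommRing K] [Algebra R K] (B : Type u) [CommRing B] [Algebra R B] [Algebra K B]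
    [IsScalarTower R K B] : pt (Spec.map (CommRingCat.ofHom (algebraMap R K)) ≫ g) B ≅ pt g B :=
  Over.isoMk (Iso.refl (Spec (CommRingCat.of B))) (towerIso_aux g K B)

omit [IsAffineHom G.hom] in
theorem towerIso_comm {K : Type u} [CommRing K] [Algebra R K] {A₁ A₂ : Type u} [CommRing A₁] [Algebra R A₁]
    [Algebra K A₁] [IsScalarTower R K A₁] [CommRing A₂] [Algebra R A₂] [Algebra K A₂] [IsScalarTower R K A₂]
    (f : A₁ →ₐ[K] A₂) (f' : A₁ →ₐ[R] A₂) (h : f.toRingHom = f'.toRingHom) :
    pmap (Spec.map (CommRingCat.ofHom (algebraMap R K)) ≫ g) f ≫ (towerIso g K A₁).hom =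
      (towerIso g K A₂).hom ≫ pmap g f' := by
  ext : 1
  simp only [Over.comp_left, pmap_left, towerIso, Over.isoMk_hom_left, Iso.refl_hom, h]
  exact (Category.comp_id _).trans (Category.id_comp _).symm

/-- the number of independent derivations at a geometric point is bounded -/
theorem card_le_dim (K : Type u) [Field K] [IsAlgClosed K] [Algebra R K] (m : ℕ)
    (δ : Fin m → (Crd g G →ₗ[R] K)) (hδ : ∀ i, IsDer (eps g G) (δ i))
    (hind : ∀ c : Fin m → K, (∀ x, ∑ i, c i * δ i x = 0) → c = 0) :
    m ≤ Fintype.card (D.idx ⊕ Fin (rk D)) := by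
  haveI := smooth_hom D
  set g' := Spec.map (CommRingCat.ofHom (algebraMap R K)) ≫ g
  haveI : IsScalarTower R K (DualNumber K) := IsScalarTower.of_algebraMap_eq fun r => by
    ext <;> simp [TrivSqZeroExt.algebraMap_eq_inl']
  haveI : Algebra.Smooth K (Crd g' G) := smooth_crd
  let e := towerIso g K (DualNumber K)
  let e₀ := towerIso g K K
  choose φ hφ hφd using fun i => exists_lie_of_isDer (hδ i)
  have he : pmap g' (fstA (R := K) (B := K)) ≫ e.hom = e₀.hom ≫ pmap g (fstA (R := R) (B := K)) :=
    towerIso_comm g _ _ (RingHom.ext fun x => rfl)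
  have hs : ∀ c : K, pmap g' (scl (R := K) c) ≫ e.hom = e.hom ≫ pmap g (scl (R := R) c) := fun c =>
    towerIso_comm g _ _ (RingHom.ext fun x => rfl)
  have hφ' : ∀ i, IsLie g' (e.hom ≫ φ i) := fun i => by
    unfold IsLie
    rw [← Category.assoc, he, Category.assoc, hφ i, MonObj.comp_one]
  refine card_le_of_independent (eps g' G) _ ?_ (fun i => lieDev g' (e.hom ≫ φ i))
    (fun i => (hφ' i).isDer) fun c hc => hind c fun x => ?_
  · haveI := isAffine_pb g' (G := G)
    haveI : LocallyOfFiniteType G.hom := locallyOfFiniteType_of_smooth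
    refine le_of_eq ?_
    rw [← PrimeSpectrum.topologicalKrullDim_eq_ringKrullDim]
    change topologicalKrullDim ↥(Spec Γ(pullback G.hom g', ⊤)) = _
    rw [← (Scheme.homeoOfIso (pullback G.hom g').isoSpec).isHomeomorph.topologicalKrullDim_eq,
      dim_geometric, D.dim_fibre]
    simp [rk, add_comm]
  · let Ψ := ((List.finRange m).map fun i => pmap g (scl (c i)) ≫ φ i).prod
    have hL := isLie_prod (g := g) (List.finRange m) (fun i => pmap g (scl (c i)) ≫ φ i)
      fun i => (hφ i).pmap_scl (c i)
    have hΨ' : e.hom ≫ Ψ =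
        ((List.finRange m).map fun i => pmap g' (scl (c i)) ≫ e.hom ≫ φ i).prod := by
      simp only [Ψ]
      induction List.finRange m with
      | nil => exact MonObj.comp_one _
      | cons k l ih => rw [List.map_cons, List.prod_cons, MonObj.comp_mul, ih, List.map_cons, List.prod_cons,
          ← Category.assoc, ← hs, Category.assoc]
    have hL' := isLie_prod (g := g') (List.finRange m) (fun i => pmap g' (scl (c i)) ≫ e.hom ≫ φ i)
      fun i => (hφ' i).pmap_scl (c i)
    have h1 : e.hom ≫ Ψ = 1 := by
      rw [hΨ']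
      refine eq_of_lieDev hL'.1 isLie_one (LinearMap.ext fun y => ?_)
      rw [hL'.2, lieDev_one, LinearMap.zero_apply, ← Fin.sum_univ_def, LinearMap.sum_apply]
      simpa only [lieDev_pmap_scl] using hc y
    have h2 : Ψ = 1 := by
      rw [← cancel_epi e.hom, h1, MonObj.comp_one]
    have h3 := LinearMap.congr_fun (hL.2.symm.trans (congrArg (lieDev g) h2)) x
    rw [lieDev_one, LinearMap.zero_apply, ← Fin.sum_univ_def, LinearMap.sum_apply] at h3
    simpa only [lieDev_pmap_scl, hφd] using h3

open Classical in
/-- every derivation at the unit is a combination of the root vectors and the torus vectors -/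
theorem exists_dual_split :
    ∃ e : D.idx ⊕ Fin (rk D) → Crd g G,
      (∀ i j, vec g D i (e j) = if i = j then 1 else 0) ∧
      ∀ (B : Type u) [CommRing B] [Algebra R B] (δ : Crd g G →ₗ[R] B), IsDer (eps g G) δ →
        ∀ x, δ x = ∑ i, algebraMap R B (vec g D i x) * δ (e i) := by
  haveI := smooth_hom D
  haveI := smooth_crd (g := g) (G := G)
  let ι' := Fintype.equivFin (D.idx ⊕ Fin (rk D))
  haveI : Algebra.FinitePresentation R (Crd g G) := Algebra.Smooth.finitePresentation
  have hv : ∀ i, IsDer (eps g G) (vec g D i) := fun i => by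
    rcases i with a | j
    · exact (isLie_uPt_inr g D a (1 : R)).isDer
    · exact (isLie_tPt g D _).isDer
  obtain ⟨e, -, he, hspan⟩ := exists_dual_family (eps g G) (fun k => vec g D (ι'.symm k)) (fun k => hv _)
    (fun K _ _ _ c hc => by
      have h0 : ∀ x, ∑ a, c (ι' (Sum.inl a)) * algebraMap R K (vec g D (Sum.inl a) x) +
          ∑ j, c (ι' (Sum.inr j)) * algebraMap R K (vec g D (Sum.inr j) x) = 0 := fun x => by
        rw [← Fintype.sum_sum_type fun i => c (ι' i) * algebraMap R K (vec g D i x)]
        rw [← hc x, ← ι'.sum_comp fun k => c k * algebraMap R K (vec g D (ι'.symm k) x)]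
        simp
      obtain ⟨h1, h2⟩ := vec_independent g D K _ _ h0
      funext k
      obtain ⟨i, rfl⟩ := ι'.surjective k
      rcases i with a | j
      · exact congrFun h1 a
      · exact congrFun h2 j)
    (fun K _ _ _ m δ hδ hind => card_le_dim g D K m δ hδ hind)
  refine ⟨fun i => e (ι' i), fun i j => ?_, fun B _ _ δ hδ x => ?_⟩
  · simpa using he (ι' i) (ι' j)
  · rw [hspan B δ hδ x, ← ι'.sum_comp]
    simp

/-- every point infinitely close to the unit is a combination, uniquely -/
theorem existsUnique_lieComb {φ : pt g (DualNumber B) ⟶ G} (hφ : IsLie g φ) :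
    ∃! p : (D.idx → B) × (Fin (rk D) → B), lieComb g D p.1 p.2 = φ := by
  classical
  obtain ⟨e, he, hspan⟩ := exists_dual_split g D
  have hval : ∀ (c : D.idx → B) (h : Fin (rk D) → B) i,
      lieDev g (lieComb g D c h) (e i) = Sum.elim c h i := fun c h i => by
    rw [lieDev_lieComb]
    rcases i with a | j <;> simp [he, apply_ite (algebraMap R B)]
  refine ⟨(fun a => lieDev g φ (e (Sum.inl a)), fun j => lieDev g φ (e (Sum.inr j))), ?_, fun p hp => ?_⟩
  · refine eq_of_lieDev (isLie_lieComb g D _ _) hφ (LinearMap.ext fun x => ?_)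
    rw [lieDev_lieComb, hspan B _ hφ.isDer x, Fintype.sum_sum_type]
    simp only [mul_comm]
  · subst hp
    refine Prod.ext ?_ ?_
    · funext a; exact (hval p.1 p.2 (Sum.inl a)).symm
    · funext j; exact (hval p.1 p.2 (Sum.inr j)).symm

theorem lieComb_injective {c c' : D.idx → B} {h h' : Fin (rk D) → B}
    (hEq : lieComb g D c h = lieComb g D c' h') : c = c' ∧ h = h' := by
  obtain ⟨p, -, hu⟩ := existsUnique_lieComb g D (isLie_lieComb g D c h)
  exact Prod.mk.injEq .. ▸ (hu (c, h) rfl).trans (hu (c', h') hEq.symm).symm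

set_option maxHeartbeats 2000000 in
/-- a vector of weight `m` other than zero: it is trivial or in a root group -/
theorem eq_of_weight {φ : pt g (DualNumber B) ⟶ G} (hφ : IsLie g φ) (m : D.M) (hm : m ≠ 0)
    (hw : tPt g D (univChar B D) * (pmap g (dnMap (constMap R B D)) ≫ φ) * (tPt g D (univChar B D))⁻¹ =
      pmap g ((scl (MonoidAlgebra.single (Multiplicative.ofAdd m) 1)).comp (dnMap (constMap R B D))) ≫ φ) :
    (m ∉ Set.range D.P.root → φ = 1) ∧
      ∀ a, D.P.root a = m → ∃ c : B, φ = uPt g D a (inr c : DualNumber B) := by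
  classical
  obtain ⟨⟨c, h⟩, hp, -⟩ := existsUnique_lieComb g D hφ
  simp only at hp
  subst hp
  set C := MonoidAlgebra B (Multiplicative D.M)
  rw [conj_lieComb] at hw
  have hr : pmap g ((scl (MonoidAlgebra.single (Multiplicative.ofAdd m) (1 : B))).comp
      (dnMap (constMap R B D))) ≫ lieComb g D c h =
      lieComb g D (fun a => MonoidAlgebra.single (Multiplicative.ofAdd m) (c a))
        (fun j => MonoidAlgebra.single (Multiplicative.ofAdd m) (h j)) := by
    rw [← pmap_comp, Category.assoc]
    refine eq_of_lieDev (IsLie.pmap_scl _ (IsLie.pmap_dnMap _ (isLie_lieComb g D c h)))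
      (isLie_lieComb g D _ _) (LinearMap.ext fun x => ?_)
    rw [lieDev_pmap_scl, lieDev_pmap_dnMap, lieDev_lieComb, lieDev_lieComb, map_add, map_sum, map_sum,
      mul_add, Finset.mul_sum, Finset.mul_sum]
    congr 1 <;> refine Finset.sum_congr rfl fun i _ => ?_ <;>
      simp [constMap_apply, IsScalarTower.algebraMap_apply R B C, MonoidAlgebra.single_mul_single]
  rw [hr] at hw
  obtain ⟨huc, huh⟩ := lieComb_injective g D hw
  have h0 : ∀ j, h j = 0 := fun j => by
    have h1 := congrArg (fun p : C => p.coeff (1 : Multiplicative D.M)) (congrFun huh j)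
    simpa [Finsupp.single_apply, hm] using h1
  have hca : ∀ a, D.P.root a ≠ m → c a = 0 := fun a ha => by
    have h1 := congrArg (fun p : C => p.coeff (Multiplicative.ofAdd (D.P.root a)))
      (congrFun huc a)
    simpa [Finsupp.single_apply, Ne.symm ha] using h1
  constructor
  · intro hnot
    refine eq_of_lieDev hφ isLie_one (LinearMap.ext fun x => ?_)
    rw [lieDev_lieComb, lieDev_one, LinearMap.zero_apply]
    have : ∀ a, c a = 0 := fun a => hca a fun h => hnot ⟨a, h⟩
    simp [h0, this]
  · intro a ha
    refine ⟨c a, eq_of_lieDev hφ (isLie_uPt_inr g D a (c a)) (LinearMap.ext fun x => ?_)⟩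
    rw [lieDev_lieComb, lieDev_uPt, Finset.sum_eq_single a (fun b _ hb => by
      rw [hca b fun h => hb (D.P.root.injective (h.trans ha.symm)), zero_mul]) (by simp)]
    simp [h0]

end Groth.Agent.H21Split
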