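import Groth.Agent.H21Split.Parab.Torus
import Groth.Agent.H21Split.TypeR.Solv

/-!
A Borel subgroup containing the torus is locally standard.
-/

open CategoryTheory MonoidalCategory CartesianMonoidalCategory MonObj GrpObj AlgebraicGeometry
open CategoryTheory.Limits
open TrivSqZeroExt (inl inr)
open Polynomial (X C)
open scoped commutatorElement

universe u

set_option autoImplicit false
set_option backward.isDefEq.respectTransparency false
set_option linter.style.haveILetI false
set_option linter.unusedSectionVars false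
set_option synthInstance.maxHeartbeats 400000
set_option maxHeartbeats 1000000

noncomputable section

namespace Groth.Agent.H21Split.BorelStd

open Groth.Agent.H21Split.TypeR

variable {S : Scheme.{u}}

/-- an affine chart along the unit section inside an open set of the base -/
theorem exists_chart_in {H : Over S} [GrpObj H] [Smooth H.hom] (O : S.Opens) (s : S) (hs : s ∈ O) :
    ∃ (R : Type u) (_ : CommRing R) (g : Spec (CommRingCat.of R) ⟶ S) (_ : IsOpenImmersion g)
      (_ : s ∈ Set.range g.base) (_ : Set.range g.base ⊆ O) (A : Type u) (_ : CommRing A) (_ : Algebra R A) (_ : Algebra.Smooth R A)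
      (ε : A →ₐ[R] R) (j : pt g A ⟶ H), IsOpenImmersion j.left ∧ pmap g ε ≫ j = (1 : pt g R ⟶ H) := by
  let e : S ⟶ H.left := ((1 : 𝟙_ (Over S) ⟶ H)).left
  have he : e ≫ H.hom = 𝟙 S := Over.w (1 : 𝟙_ (Over S) ⟶ H)
  have hes : H.hom.base (e.base s) = s := by
    rw [← Scheme.Hom.comp_apply, he]; rfl
  obtain ⟨U, hU, hsU, hUO⟩ := exists_isAffineOpen_mem_and_subset (U := O) (x := s) hs
  obtain ⟨V, hV, heV, hVU⟩ := exists_isAffineOpen_mem_and_subset (U := H.hom ⁻¹ᵁ U) (x := e.base s)
    (show H.hom.base (e.base s) ∈ U by rw [hes]; exact hsU)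
  obtain ⟨f, hfle, hsf⟩ := hU.exists_basicOpen_le (V := e ⁻¹ᵁ V) ⟨s, heV⟩ hsU
  let W : S.Opens := S.basicOpen f
  have hW : IsAffineOpen W := hU.basicOpen f
  let V' : H.left.Opens := V ⊓ H.hom ⁻¹ᵁ W
  have hV' : IsAffineOpen V' := by
    have hle : V ≤ H.hom ⁻¹ᵁ U := fun x hx => hVU hx
    have : V' = H.left.basicOpen ((H.hom.appLE U V hle).hom f) := by
      rw [Scheme.Hom.appLE, CommRingCat.comp_apply, Scheme.basicOpen_res, ← Scheme.preimage_basicOpen]
    rw [this]
    exact hV.basicOpen _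
  have hleV : V' ≤ H.hom ⁻¹ᵁ W := inf_le_right
  let φ : Γ(S, W) ⟶ Γ(H.left, V') := H.hom.appLE W V' hleV
  letI : Algebra Γ(S, W) Γ(H.left, V') := φ.hom.toAlgebra
  have hcomm : Spec.map φ ≫ hW.fromSpec = hV'.fromSpec ≫ H.hom :=
    hW.SpecMap_appLE_fromSpec H.hom hV' hleV
  let g := hW.fromSpec
  let j : pt g Γ(H.left, V') ⟶ H := Over.homMk hV'.fromSpec (by
    change _ = Spec.map (CommRingCat.ofHom (algebraMap Γ(S, W) Γ(H.left, V'))) ≫ g
    rw [← hcomm]; rfl)
  have hsmooth : Algebra.Smooth Γ(S, W) Γ(H.left, V') := by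
    have h : Smooth (Spec.map φ) := by
      haveI : Smooth (Spec.map φ ≫ g) := by rw [hcomm]; infer_instance
      exact MorphismProperty.of_postcomp (W := @Smooth) (W' := @IsOpenImmersion) _ g inferInstance inferInstance
    exact (HasRingHomProperty.Spec_iff (P := @Smooth)).mp h
  have hrange : Set.range ((1 : pt g Γ(S, W) ⟶ H)).left.base ⊆ Set.range hV'.fromSpec.base := by
    rintro _ ⟨p, rfl⟩
    rw [hV'.range_fromSpec]
    have h1 : ((1 : pt g Γ(S, W) ⟶ H)).left = (Spec.map (CommRingCat.ofHom (algebraMap Γ(S, W) Γ(S, W))) ≫ g) ≫ e := by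
      have : (1 : pt g Γ(S, W) ⟶ H) = toUnit _ ≫ (1 : 𝟙_ (Over S) ⟶ H) := (MonObj.comp_one _).symm
      rw [this, Over.comp_left]
      rfl
    have hpW : (Spec.map (CommRingCat.ofHom (algebraMap Γ(S, W) Γ(S, W))) ≫ g).base p ∈ W := by
      rw [← SetLike.mem_coe, ← hW.range_fromSpec]
      exact ⟨_, rfl⟩
    rw [h1, Scheme.Hom.comp_apply]
    set w := (Spec.map (CommRingCat.ofHom (algebraMap Γ(S, W) Γ(S, W))) ≫ g).base p
    refine ⟨hfle hpW, ?_⟩
    change H.hom.base (e.base w) ∈ W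
    rw [← Scheme.Hom.comp_apply, he]
    exact hpW
  let l := IsOpenImmersion.lift hV'.fromSpec ((1 : pt g Γ(S, W) ⟶ H)).left hrange
  have hl : l ≫ hV'.fromSpec = ((1 : pt g Γ(S, W) ⟶ H)).left := IsOpenImmersion.lift_fac _ _ _
  obtain ⟨ψ, hψ⟩ := Spec.map_surjective l
  have hψR : φ ≫ ψ = 𝟙 _ := by
    apply Spec.map_injective
    rw [← cancel_mono g, Spec.map_comp, hψ, Category.assoc, hcomm, ← Category.assoc, hl]
    refine (Over.w (1 : pt g Γ(S, W) ⟶ H)).trans ?_
    change Spec.map (CommRingCat.ofHom (algebraMap Γ(S, W) Γ(S, W))) ≫ g = Spec.map (𝟙 _) ≫ g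
    rfl
  let ε : Γ(H.left, V') →ₐ[Γ(S, W)] Γ(S, W) :=
    { ψ.hom with commutes' := fun r => ConcreteCategory.congr_hom hψR r }
  refine ⟨Γ(S, W), inferInstance, g, inferInstance, ?_, ?_, Γ(H.left, V'), inferInstance, inferInstance, hsmooth,
    ε, j, inferInstanceAs (IsOpenImmersion hV'.fromSpec), ?_⟩
  · change s ∈ Set.range hW.fromSpec.base; rw [hW.range_fromSpec]; exact hsf
  · change Set.range hW.fromSpec.base ⊆ _
    rw [hW.range_fromSpec]
    exact fun x hx => hUO (S.basicOpen_le f hx)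
  · ext : 1
    change Spec.map (CommRingCat.ofHom ε.toRingHom) ≫ hV'.fromSpec = _
    rw [show CommRingCat.ofHom ε.toRingHom = ψ from rfl, hψ, hl]

variable {G H : Over S} [GrpObj G] [GrpObj H] {h : H ⟶ G} [IsAffineHom G.hom] {D : Red.SplitRed G}
  [Smooth H.hom] [IsMonHom h] [IsImmersion h.left] (t : D.T ⟶ H) (ht : t ≫ h = D.i)

/-- the points where the vectors of a root lie in the subgroup -/
def IsIn (h : H ⟶ G) (D : Red.SplitRed G) (a : D.idx) (s : S) : Prop :=
  ∀ (R : Type u) [CommRing R] (g : Spec (CommRingCat.of R) ⟶ S) [IsOpenImmersion g] (e : R),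
    IsIdem D g h a e → e * e = e → ∀ p : PrimeSpectrum R, g.base p = s → e ∉ p.asIdeal

include ht in
theorem isOpen_isIn (a : D.idx) : IsOpen {s : S | IsIn h D a s} := by
  haveI : Mono h := (Over.forget S).mono_of_mono_map (inferInstanceAs (Mono h.left))
  rw [isOpen_iff_forall_mem_open]
  intro s hs
  obtain ⟨R, iR, g, hg, ⟨p, hp⟩, A, iA, iAR, iAs, ε, j, hj, hε⟩ := exists_chart (H := H) s
  letI := iR
  letI := iA
  letI := iAR
  haveI := iAs
  haveI := hj
  haveI := hg
  obtain ⟨e, he, hi⟩ := exists_idem D g ε j hε t ht a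
  refine ⟨g.base '' (PrimeSpectrum.basicOpen e : Set (PrimeSpectrum R)), ?_,
    g.isOpenEmbedding.isOpenMap _ (PrimeSpectrum.basicOpen e).isOpen, ⟨p, hs R g e he hi p hp, hp⟩⟩
  rintro _ ⟨q, hq, rfl⟩ R' _ g' _ e' he' hi' p' hp' hmem
  exact hq ((idem_mem_iff he' hi' he hi hp').mp hmem)

include ht in
/-- a root homomorphism factors over an open set on which its vectors lie in the subgroup -/
theorem exists_factor_on [Nonempty S] (O : S.Opens) {a : D.idx} (hO : ∀ s ∈ O, IsIn h D a s) {Z : Over S}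
    (π : Z ⟶ Red.Ga S) (hZ : Set.range Z.hom.base ⊆ O) : ∃ v : Z ⟶ H, v ≫ h = π ≫ D.u a := by
  haveI : Mono h := (Over.forget S).mono_of_mono_map (inferInstanceAs (Mono h.left))
  have hroot : ∀ (b : D.idx) (m : ℕ), 2 ≤ m → D.P.root b ≠ m • D.P.root a := fun b _ hm => root_ne_nsmul D a b hm
  refine exists_lift_of_locally h (π ≫ D.u a) fun x => ?_
  obtain ⟨R, iR, g, hg, ⟨p, hp⟩, hgO, A, iA, iAR, iAs, ε, j, hj, hε⟩ :=
    exists_chart_in (H := H) O (Z.hom.base x) (hZ ⟨x, rfl⟩)
  letI := iR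
  letI := iA
  letI := iAR
  haveI := iAs
  haveI := hj
  haveI := hg
  have hdir : Fac h (uPt g D a (inr 1 : DualNumber R)) := by
    obtain ⟨e, he, hi⟩ := exists_idem D g ε j hε t ht a
    have hu : IsUnit e := by
      by_contra hu
      obtain ⟨m, hm, hem⟩ := exists_max_ideal_of_mem_nonunits hu
      exact hO _ (hgO ⟨⟨m, hm.isPrime⟩, rfl⟩) R g e he hi _ rfl hem
    exact (he R (1 : R)).mpr (by simp [hu.mul_left_cancel (hi.trans (_root_.mul_one e).symm)])
  obtain ⟨F, hF0, hF⟩ := exists_away g D a (fac_uPt_tx g ε j hε D t ht a hroot hdir) p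
  have hX := fac_uPt_X g D a hF
  let R' := Localization.Away (F.coeff 0)
  let g' := Spec.map (CommRingCat.ofHom (algebraMap R R')) ≫ g
  have hxg : Z.hom.base x ∈ Set.range g'.base := by
    have : p ∈ Set.range (PrimeSpectrum.comap (algebraMap R R')) := by
      rw [PrimeSpectrum.localization_away_comap_range R' (F.coeff 0)]
      exact hF0
    obtain ⟨p', rfl⟩ := this
    exact ⟨p', hp⟩
  obtain ⟨V, hV, hxV, hVle⟩ := exists_isAffineOpen_mem_and_subset
    (U := Z.hom ⁻¹ᵁ g'.opensRange) (x := x) hxg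
  have hr : Set.range (hV.fromSpec ≫ Z.hom).base ⊆ Set.range g'.base := by
    rintro _ ⟨y, rfl⟩
    exact hVle (show hV.fromSpec.base y ∈ V by rw [← SetLike.mem_coe, ← hV.range_fromSpec]; exact ⟨y, rfl⟩)
  obtain ⟨ψ, hψ⟩ := Spec.map_surjective (IsOpenImmersion.lift g' _ hr)
  let B : Type u := Γ(Z.left, V)
  letI : Algebra R' B := ψ.hom.toAlgebra
  letI : Algebra R B := ((algebraMap R' B).comp (algebraMap R R')).toAlgebra
  haveI : IsScalarTower R R' B := IsScalarTower.of_algebraMap_eq fun r => rfl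
  have hι : hV.fromSpec ≫ Z.hom = (pt g B).hom := by
    change _ = Spec.map (CommRingCat.ofHom ((algebraMap R' B).comp (algebraMap R R'))) ≫ g
    rw [CommRingCat.ofHom_comp, Spec.map_comp, Category.assoc]
    exact (IsOpenImmersion.lift_fac g' _ hr).symm.trans (congrArg (· ≫ g') hψ.symm)
  let z : pt g B ⟶ Red.Ga S := (Over.homMk hV.fromSpec hι : pt g B ⟶ Z) ≫ π
  obtain ⟨w, hw⟩ := hX.precomp (pmap g ((Polynomial.aeval (R := R') (gv g z)).restrictScalars R))
  rw [pmap_uPt] at hw
  have hw' : w ≫ h = z ≫ D.u a := by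
    rw [hw]
    simp [uPt, ga_gv]
  refine ⟨V, hxV, hV.isoSpec.hom ≫ w.left, ?_⟩
  have e := congrArg (fun m => Over.Hom.left m) hw'
  simp only [Over.comp_left] at e
  rw [Category.assoc, e]
  change hV.isoSpec.hom ≫ (hV.fromSpec ≫ π.left) ≫ (D.u a).left = _
  rw [Category.assoc, ← Category.assoc, hV.isoSpec_hom_fromSpec]
  rfl

section Point

variable {Ω : Type u} [Field Ω] (g : Spec (CommRingCat.of Ω) ⟶ S) (s : S) (hg : ∀ x, g.base x = s)

include ht hg in
/-- a non-trivial point of a root group in a fibre puts the vectors of the root in the subgroup near the fibre -/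
theorem isIn_of_point {a : D.idx} {y : Ω} (hy : y ≠ 0) (hfac : Fac h (uPt g D a y)) : IsIn h D a s := by
  haveI : Mono h := (Over.forget S).mono_of_mono_map (inferInstanceAs (Mono h.left))
  intro R _ g₀ _ e he hi p hp
  have hr : Set.range g.base ⊆ Set.range g₀.base := by
    rintro _ ⟨x, rfl⟩
    exact ⟨p, hp.trans (hg x).symm⟩
  obtain ⟨ψ, hψ⟩ := Spec.map_surjective (IsOpenImmersion.lift g₀ g hr)
  letI : Algebra R Ω := ψ.hom.toAlgebra
  have hgΩ : Spec.map (CommRingCat.ofHom (algebraMap R Ω)) ≫ g₀ = g := by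
    change Spec.map ψ ≫ g₀ = g
    rw [hψ, IsOpenImmersion.lift_fac]
  rw [← hgΩ, fac_tower] at hfac
  have h1 : Fac h (uPt g₀ D a (inl y : DualNumber Ω)) := by
    have := hfac.precomp (pmap g₀ (IsScalarTower.toAlgHom R Ω (DualNumber Ω)))
    rw [pmap_uPt] at this
    exact this
  let z : (DualNumber Ω)ˣ := ⟨1 + inr 1, 1 - inr 1, by ext <;> simp, by ext <;> simp⟩
  have h2 : Fac h (uPt g₀ D a (inr y : DualNumber Ω)) := by
    have := (fac_mul_unit t ht g₀ a h1 z).mul h1.inv
    rw [← uPt_neg, ← uPt_add] at this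
    convert this using 2
    change _ = (1 + inr 1) * inl y + -inl y
    ext <;> simp
  have h3 := (he Ω y).mp h2
  intro hep
  obtain ⟨x⟩ := (inferInstance : Nonempty (Spec (CommRingCat.of Ω)))
  have hxp : (Spec.map (CommRingCat.ofHom (algebraMap R Ω))).base x = p :=
    g₀.isOpenEmbedding.injective (by
      rw [← Scheme.Hom.comp_apply, hgΩ]
      exact (hg x).trans hp.symm)
  have h4 : algebraMap R Ω e = 0 := by
    have h5 : algebraMap R Ω e ∈ x.asIdeal := by
      rw [← hxp] at hep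
      exact hep
    rwa [(Ideal.eq_bot_or_top x.asIdeal).resolve_right x.isPrime.ne_top, Ideal.mem_bot] at h5
  rw [h4, mul_zero] at h3
  exact hy h3.symm

end Point

/-- a solvable fibre does not contain a pair of opposite root groups -/
theorem not_solvable [Nonempty S] (s : S) {a : D.idx}
    (hfac : ∀ d ∈ ({a, D.P.reflectionPerm a a} : Set D.idx), ∀ x : AlgebraicClosure (S.residueField s),
      Fac h (uPt (Red.geomPt s) D d x)) : ¬ Red.IsSolvableGrp (Red.geomFibre s H) := by
  classical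
  rintro ⟨n, hn⟩
  haveI := D.fintypeIdx
  haveI : Finite D.idx := Finite.of_fintype _
  haveI := H21Red0.isReduced_of_nonempty D
  haveI := isAffineHom_hom D
  let K := AlgebraicClosure (S.residueField s)
  let g : Spec (CommRingCat.of K) ⟶ S := Red.geomPt s
  have hbot : derivedSeries (pt g K ⟶ H) n = ⊥ := by
    have hsurj : Function.Surjective (fibHom g K H) := (H21Diag.bcEquiv g H (affO K)).symm.surjective
    have h1 := map_derivedSeries_eq hsurj n
    rw [← h1]
    exact (congrArg (Subgroup.map _) (hn (affO K))).trans (Subgroup.map_bot _)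
  let ψ : (pt g K ⟶ H) →* (pt g K ⟶ G) := MonoidHom.mk' (fun x => x ≫ h) fun x y => MonObj.mul_comp x y h
  set c := D.P.reflectionPerm a a with hc
  have key : ∀ k, ∀ d ∈ ({a, c} : Set D.idx), ∀ x : K, uPt g D d x ∈ (derivedSeries (pt g K ⟶ H) k).map ψ := by
    intro k
    induction k with
    | zero =>
      intro d hd x
      obtain ⟨w, hw⟩ := hfac d hd x
      exact ⟨w, Subgroup.mem_top _, hw⟩
    | succ k ih =>
      obtain ⟨κ, hκ, hku⟩ := exists_dual D g a
      obtain ⟨w, rfl⟩ := hku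
      have hcor : ∀ z : Kˣ, tPt g D (cor D z a) ∈ (derivedSeries (pt g K ⟶ H) k).map ψ := fun z => by
        have hz : (z : K) = 1 + algebraMap K K w * (((z : K) - 1) * ↑w⁻¹) * 1 := by
          simp only [Algebra.algebraMap_self, RingHom.id_apply, _root_.mul_one, mul_left_comm (w : K), Units.mul_inv]
          ring
        have h1 := hκ K (((z : K) - 1) * ↑w⁻¹) 1 z hz
        have h2 := Subgroup.mul_mem _ (Subgroup.mul_mem _ (Subgroup.inv_mem _ (ih c (Or.inr rfl) (↑z⁻¹ * 1)))
          (Subgroup.mul_mem _ (ih a (Or.inl rfl) (((z : K) - 1) * ↑w⁻¹)) (ih c (Or.inr rfl) 1)))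
          (Subgroup.inv_mem _ (ih a (Or.inl rfl) (↑z⁻¹ * (((z : K) - 1) * ↑w⁻¹))))
        rw [h1] at h2
        simpa only [← hc, _root_.mul_assoc, inv_mul_cancel_left, mul_inv_cancel, _root_.mul_one] using h2
      obtain ⟨z₀, hz₀⟩ := Infinite.exists_notMem_finset ({0, 1, -1} : Finset K)
      simp only [Finset.mem_insert, Finset.mem_singleton, not_or] at hz₀
      let z : Kˣ := Units.mk0 z₀ hz₀.1
      intro d hd x
      obtain ⟨μ', hμ, hμv⟩ : ∃ μ' : Kˣ, (μ' : K) ≠ 1 ∧
          cor D z a (Multiplicative.ofAdd (D.P.root d)) = (μ' : K) := by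
        have hsq : z₀ * z₀ ≠ 1 := fun e => by
          rcases mul_self_eq_one_iff.mp e with e | e
          · exact hz₀.2.1 e
          · exact hz₀.2.2 e
        rcases hd with h' | h' <;> rw [h']
        · exact ⟨z * z, by simpa [z] using hsq, cor_self D z a⟩
        · have hroot : D.P.root c = -D.P.root a := by rw [hc, D.P.root_reflectionPerm, D.P.reflection_apply_self]
          refine ⟨(z * z)⁻¹, fun e => hsq ?_, ?_⟩
          · simpa [z] using congrArg Units.val (inv_eq_one.mp (Units.val_eq_one.mp e))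
          · rw [hroot, Units.val_inv_eq_inv_val]
            refine eq_inv_of_mul_eq_one_left ?_
            rw [← cor_self D z a, ← map_mul, ← ofAdd_add, neg_add_cancel, ofAdd_zero, map_one]
      have hcomm : uPt g D d x = ⁅tPt g D (cor D z a), uPt g D d (((μ' : K) - 1)⁻¹ * x)⁆ := by
        rw [commutatorElement_def, tPt_conj, hμv, ← uPt_neg, ← uPt_add]
        congr 1
        rw [← sub_eq_add_neg, ← sub_one_mul, mul_inv_cancel_left₀ (sub_ne_zero.mpr hμ)]
      rw [hcomm, derivedSeries_succ, Subgroup.map_commutator]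
      exact Subgroup.commutator_mem_commutator (hcor z) (ih d hd _)
  have h0 := key n a (Or.inl rfl) 1
  rw [hbot, Subgroup.map_bot, Subgroup.mem_bot] at h0
  exact one_ne_zero (α := K) (uPt_injective g D a (h0.trans (uPt_zero g D a).symm))

end Groth.Agent.H21Split.BorelStd

namespace Groth.Agent.H21Split.BorelStd

open Groth.Agent.H21Split.TypeR

variable {S : Scheme.{u}} {G B : Over S} [GrpObj G] [GrpObj B] (D : Red.SplitRed G) (i : B ⟶ G)

theorem isParabolic_of_isBorel (hB : Red.IsBorel i) : Red.IsParabolic i :=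
  ⟨hB.1, hB.2.1, hB.2.2.1, fun s =>
    ⟨(hB.2.2.2 s).1, (hB.2.2.2 s).2.1, (hB.2.2.2 s).2.2.1, _, inferInstance, 𝟙 _, by
      rw [Category.id_comp]; exact hB.2.2.2 s⟩⟩

/-- **A Borel subgroup containing the torus of a splitting is locally standard.** -/
theorem exists_standard (hB : Red.IsBorel i) (tB : D.T ⟶ B) (htB : tB ≫ i = D.i) (s : S) :
    ∃ (V : S.Opens), s ∈ V ∧ ∃ b : D.P.Base, ∀ a : D.idx,
      (∃ v : Red.bc V.ι (Red.Ga S) ⟶ Red.bc V.ι B,
        v ≫ (Over.pullback V.ι).map i = (Over.pullback V.ι).map (D.u a)) ↔ a ∈ RedSub.posRoots D.P b := by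
  classical
  haveI := hB.1
  haveI := hB.2.1
  haveI := hB.2.2.1
  haveI := isAffineHom_hom D
  haveI : Nonempty S := ⟨s⟩
  haveI := D.fintypeIdx
  obtain ⟨b, hb⟩ := Parab.exists_base_fac D i tB htB (isParabolic_of_isBorel i hB) s
  let V : S.Opens := ⟨⋂ a ∈ (RedSub.posRoots D.P b).toFinset, {x : S | IsIn i D a x},
    isOpen_biInter_finset fun a _ => isOpen_isIn tB htB a⟩
  have hgs : ∀ x, (Red.geomPt s).base x = s := fun x => by
    rw [Red.geomPt, Scheme.Hom.comp_apply]
    exact Scheme.fromSpecResidueField_apply s _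
  have hsV : s ∈ V := by
    refine Set.mem_iInter₂.mpr fun a ha => ?_
    obtain ⟨y, hy, hf⟩ := hb a (Set.mem_toFinset.mp ha)
    exact isIn_of_point tB htB (Red.geomPt s) s hgs hy hf
  refine ⟨V, hsV, b, fun a => ?_⟩
  let W := Red.bc V.ι (Red.Ga S)
  let E := fun X : Over S => H21Diag.bcEquiv V.ι X W
  let π : (Over.map V.ι).obj W ⟶ Red.Ga S := (E (Red.Ga S)).symm (𝟙 W)
  have hpos : ∀ c ∈ RedSub.posRoots D.P b, ∃ w, w ≫ i = π ≫ D.u c := fun c hc => by
    refine exists_factor_on tB htB V (fun x hx => Set.mem_iInter₂.mp hx c (Set.mem_toFinset.mpr hc)) π ?_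
    rintro _ ⟨x, rfl⟩
    exact (W.hom.base x).2
  constructor
  · rintro ⟨v, hv⟩
    refine (pos_iff_not_neg D b a).mpr fun hneg => ?_
    have hopp : D.P.reflectionPerm a a ∈ RedSub.posRoots D.P b := (neg_iff_opp_pos D b a).mp hneg
    have ha : ∃ w, w ≫ i = π ≫ D.u a := by
      refine ⟨(E B).symm v, ?_⟩
      rw [← H21Red0.bcEquiv_symm_comp, hv, ← Category.id_comp ((Over.pullback V.ι).map (D.u a)),
        H21Red0.bcEquiv_symm_comp]
    refine not_solvable (h := i) (D := D) s (a := a) ?_ (hB.2.2.2 s).2.2.2.2.1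
    intro d hd x
    obtain ⟨w, hw⟩ : ∃ w, w ≫ i = π ≫ D.u d := by
      rcases hd with rfl | rfl
      · exact ha
      · exact hpos _ hopp
    have hr : Set.range (pt (Red.geomPt s) (AlgebraicClosure (S.residueField s))).hom.base ⊆ Set.range V.ι.base := by
      rintro _ ⟨y, rfl⟩
      rw [Scheme.Opens.range_ι]
      change (Red.geomPt s).base _ ∈ V
      rw [hgs]
      exact hsV
    let l := IsOpenImmersion.lift V.ι _ hr
    let k : pt (Red.geomPt s) (AlgebraicClosure (S.residueField s)) ⟶ (Over.map V.ι).obj W :=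
      Over.homMk (pullback.lift (ga (Red.geomPt s) x).left l
        ((Over.w (ga (Red.geomPt s) x)).trans (IsOpenImmersion.lift_fac V.ι _ hr).symm)) (by
          change pullback.lift _ _ _ ≫ pullback.snd _ _ ≫ V.ι = _
          rw [pullback.lift_snd_assoc, IsOpenImmersion.lift_fac])
    refine ⟨k ≫ w, ?_⟩
    rw [Category.assoc, hw, uPt, ← Category.assoc]
    congr 1
    ext : 1
    have h1 : π.left = pullback.fst _ _ := by
      simp [π, E, H21Diag.bcEquiv, Over.mapPullbackAdj]
    rw [Over.comp_left, h1]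
    exact pullback.lift_fst _ _ _
  · intro ha
    obtain ⟨w, hw⟩ := hpos a ha
    refine ⟨E B w, (E G).symm.injective ?_⟩
    rw [H21Red0.bcEquiv_symm_comp, Equiv.symm_apply_apply, hw, ← H21Red0.bcEquiv_symm_comp, Category.id_comp]

end Groth.Agent.H21Split.BorelStd
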