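import Mathlib.AlgebraicGeometry.AffineScheme
import Mathlib.Topology.Sheaves.SheafCondition.UniqueGluing

/-!
Families of functions on affine schemes over a base, natural in the affine scheme, come from global functions.
-/

open CategoryTheory AlgebraicGeometry TopologicalSpace Opposite

universe u

set_option backward.isDefEq.respectTransparency false

noncomputable section

namespace Groth.Agent.H21Split

variable {S : Scheme.{u}}

theorem eq_of_span {R : Type u} [CommRing R] {s : Set R} (hs : Ideal.span s = ⊤) {a b : R}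
    (h : ∀ f ∈ s, algebraMap R (Localization.Away f) a = algebraMap R (Localization.Away f) b) : a = b := by
  have hle : Ideal.span s ≤ ((Submodule.span R {a - b}).annihilator).radical := by
    refine Ideal.span_le.mpr fun f hf => ?_
    obtain ⟨⟨c, n, rfl⟩, hc⟩ := (IsLocalization.eq_iff_exists (Submonoid.powers f) (Localization.Away f)).mp (h f hf)
    exact ⟨n, (Submodule.mem_annihilator_span_singleton _ _).mpr (by rw [smul_eq_mul, mul_sub, hc, sub_self])⟩
  rw [hs, top_le_iff, Ideal.radical_eq_top, Ideal.eq_top_iff_one, Submodule.mem_annihilator_span_singleton,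
    one_smul, sub_eq_zero] at hle
  exact hle

/-- restriction of a global function along an affine test morphism -/
def res {R : Type u} [CommRing R] (g : Spec (CommRingCat.of R) ⟶ S) : Γ(S, ⊤) →+* R :=
  (g.appTop ≫ (Scheme.ΓSpecIso (CommRingCat.of R)).hom).hom

theorem res_comp {R R' : Type u} [CommRing R] [CommRing R'] (f : R →+* R')
    (g : Spec (CommRingCat.of R) ⟶ S) (C : Γ(S, ⊤)) :
    res (Spec.map (CommRingCat.ofHom f) ≫ g) C = f (res g C) := by
  refine ConcreteCategory.congr_hom (?_ : (Spec.map (CommRingCat.ofHom f) ≫ g).appTop ≫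
    (Scheme.ΓSpecIso (CommRingCat.of R')).hom = (g.appTop ≫ (Scheme.ΓSpecIso (CommRingCat.of R)).hom) ≫
      CommRingCat.ofHom f) C
  rw [Scheme.Hom.comp_appTop, Category.assoc, Scheme.ΓSpecIso_naturality]
  exact (Category.assoc _ _ _).symm

theorem res_fromSpec (V : S.Opens) (hV : IsAffineOpen V) (C : Γ(S, ⊤)) :
    res (R := Γ(S, V)) hV.fromSpec C = S.presheaf.map (homOfLE le_top).op C := by
  refine ConcreteCategory.congr_hom (?_ : hV.fromSpec.appTop ≫ (Scheme.ΓSpecIso Γ(S, V)).hom =
    S.presheaf.map (homOfLE (le_top : V ≤ ⊤)).op) C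
  rw [Scheme.Hom.appTop, IsAffineOpen.fromSpec_app_of_le hV ⊤ le_top,
    Category.assoc, Category.assoc]
  refine (congrArg (S.presheaf.map _ ≫ ·) ?_).trans (Category.comp_id _)
  erw [CategoryTheory.Functor.map_id, Category.id_comp, Iso.inv_hom_id]

/-- two global functions with the same restrictions to all affine schemes are equal -/
theorem ext_res {C C' : Γ(S, ⊤)}
    (h : ∀ (R : Type u) [CommRing R] (g : Spec (CommRingCat.of R) ⟶ S), res g C = res g C') : C = C' := by
  refine TopCat.Sheaf.eq_of_locally_eq' S.sheaf (fun V : S.affineOpens => (V : S.Opens)) ⊤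
    (fun V => homOfLE le_top) (le_of_eq (iSup_affineOpens_eq_top S).symm) C C' fun V => ?_
  have := h Γ(S, (V : S.Opens)) V.2.fromSpec
  exact (res_fromSpec (V : S.Opens) V.2 C).symm.trans (this.trans (res_fromSpec (V : S.Opens) V.2 C'))

/-- a natural family of functions comes from a unique global function -/
theorem existsUnique_res (c : ∀ (R : Type u) [CommRing R], (Spec (CommRingCat.of R) ⟶ S) → R)
    (hc : ∀ (R R' : Type u) [CommRing R] [CommRing R'] (f : R →+* R') (g : Spec (CommRingCat.of R) ⟶ S),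
      c R' (Spec.map (CommRingCat.ofHom f) ≫ g) = f (c R g)) :
    ∃! C : Γ(S, ⊤), ∀ (R : Type u) [CommRing R] (g : Spec (CommRingCat.of R) ⟶ S), res g C = c R g := by
  have hrestrict : ∀ (U W : S.Opens) (hU : IsAffineOpen U) (hW : IsAffineOpen W) (i : W ⟶ U),
      S.presheaf.map i.op (c Γ(S, U) hU.fromSpec) = c Γ(S, W) hW.fromSpec := fun U W hU hW i => by
    have h1 := hc Γ(S, U) Γ(S, W) (S.presheaf.map i.op).hom hU.fromSpec
    rw [show Spec.map (CommRingCat.ofHom (S.presheaf.map i.op).hom) ≫ hU.fromSpec = hW.fromSpec from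
      IsAffineOpen.map_fromSpec hU hW i.op] at h1
    exact h1.symm
  have hcompat : TopCat.Presheaf.IsCompatible S.sheaf.1 (fun V : S.affineOpens => (V : S.Opens))
      (fun V => c Γ(S, (V : S.Opens)) V.2.fromSpec) := by
    intro V W
    refine TopCat.Sheaf.eq_of_locally_eq' S.sheaf
      (fun U : {U : S.affineOpens // (U : S.Opens) ≤ (V : S.Opens) ⊓ W} => ((U.1 : S.affineOpens) : S.Opens)) _
      (fun U => homOfLE U.2) ?_ _ _ fun U => ?_
    · intro x hx
      obtain ⟨U, hU, hxU, hUle⟩ := exists_isAffineOpen_mem_and_subset (X := S) (x := x)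
        (U := (V : S.Opens) ⊓ W) hx
      exact Opens.mem_iSup.mpr ⟨⟨⟨U, hU⟩, hUle⟩, hxU⟩
    · erw [← ConcreteCategory.comp_apply, ← ConcreteCategory.comp_apply, ← S.presheaf.map_comp,
        ← S.presheaf.map_comp, ← op_comp, ← op_comp, hrestrict _ _ V.2 U.1.2, hrestrict _ _ W.2 U.1.2]
  obtain ⟨C, hC, -⟩ := TopCat.Sheaf.existsUnique_gluing' S.sheaf (fun V : S.affineOpens => (V : S.Opens)) ⊤
    (fun V => homOfLE le_top) (le_of_eq (iSup_affineOpens_eq_top S).symm) _ hcompat
  have hmain : ∀ (R : Type u) [CommRing R] (g : Spec (CommRingCat.of R) ⟶ S), res g C = c R g := by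
    intro R _ g
    let s : Set R := {f | ∃ V : S.affineOpens, PrimeSpectrum.basicOpen f ≤ g ⁻¹ᵁ (V : S.Opens)}
    have hs : Ideal.span s = ⊤ := by
      refine PrimeSpectrum.iSup_basicOpen_eq_top_iff'.mp (eq_top_iff.mpr fun x _ => ?_)
      obtain ⟨V, hV, hxV, -⟩ := exists_isAffineOpen_mem_and_subset (X := S) (x := g.base x) (U := ⊤) trivial
      let W : TopologicalSpace.Opens (PrimeSpectrum R) := g ⁻¹ᵁ V
      obtain ⟨U, ⟨f, rfl⟩, hxf, hf⟩ := PrimeSpectrum.isTopologicalBasis_basic_opens.exists_subset_of_mem_open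
        (show x ∈ (W : Set (PrimeSpectrum R)) from hxV) W.2
      exact Opens.mem_iSup.mpr ⟨f, Opens.mem_iSup.mpr ⟨⟨⟨V, hV⟩, hf⟩, hxf⟩⟩
    refine eq_of_span hs fun f hf => ?_
    obtain ⟨V, hfV⟩ := hf
    let l : R →+* Localization.Away f := algebraMap R (Localization.Away f)
    obtain ⟨φ, hφ⟩ : ∃ φ : Γ(S, (V : S.Opens)) →+* Localization.Away f,
        Spec.map (CommRingCat.ofHom φ) ≫ V.2.fromSpec = Spec.map (CommRingCat.ofHom l) ≫ g := by
      have hrange : Set.range (Spec.map (CommRingCat.ofHom l) ≫ g).base ⊆ Set.range V.2.fromSpec.base := by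
        rintro _ ⟨z, rfl⟩
        rw [IsAffineOpen.range_fromSpec]
        refine hfV ?_
        change (PrimeSpectrum.comap l z) ∈ (PrimeSpectrum.basicOpen f : Set (PrimeSpectrum R))
        rw [← PrimeSpectrum.localization_away_comap_range (Localization.Away f) f]
        exact ⟨z, rfl⟩
      refine ⟨(Spec.preimage (IsOpenImmersion.lift V.2.fromSpec _ hrange)).hom, ?_⟩
      rw [CommRingCat.ofHom_hom, Spec.map_preimage, IsOpenImmersion.lift_fac]
    have h1 := res_comp φ V.2.fromSpec C
    have h3 : res (R := Γ(S, (V : S.Opens))) V.2.fromSpec C = c Γ(S, (V : S.Opens)) V.2.fromSpec :=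
      (res_fromSpec (V : S.Opens) V.2 C).trans (hC V)
    rw [hφ, res_comp, h3, ← hc Γ(S, (V : S.Opens)) _ φ, hφ, hc] at h1
    exact h1
  exact ⟨C, hmain, fun C' hC' => ext_res fun R _ g => by rw [hC' R g, hmain R g]⟩

end Groth.Agent.H21Split
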