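import Groth.Agent.H21Split.Equivariant
import Groth.Agent.H21Split.Glue

/-!
From points over test algebras to points with values in schemes over the base.
-/

open CategoryTheory MonoidalCategory CartesianMonoidalCategory MonObj GrpObj AlgebraicGeometry
open CategoryTheory.Limits

universe u

set_option backward.isDefEq.respectTransparency false
set_option linter.style.haveILetI false
set_option synthInstance.maxHeartbeats 400000

noncomputable section

namespace Groth.Agent.H21Split

variable {S : Scheme.{u}} {G : Over S} [GrpObj G] (D : Red.SplitRed G)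
variable {R : Type u} [CommRing R] (g : Spec (CommRingCat.of R) ⟶ S)

/-- a chart of a scheme over an affine test scheme is a test algebra -/
theorem exists_chart_iso {B : Type u} [CommRing B] {t : Spec (CommRingCat.of B) ⟶ S}
    (h : (Over.mk t : Over S) ⟶ Over.mk g) :
    ∃ (_ : Algebra R B) (ι' : pt g B ⟶ Over.mk t), IsIso ι' ∧ ι'.left = 𝟙 _ ∧
      h.left = Spec.map (CommRingCat.ofHom (algebraMap R B)) := by
  letI : Algebra R B := (Spec.preimage h.left).hom.toAlgebra
  have hh : h.left = Spec.map (CommRingCat.ofHom (algebraMap R B)) := (Spec.map_preimage h.left).symm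
  have hw : h.left ≫ g = t := Over.w h
  rw [hh] at hw
  exact ⟨inferInstance, (Over.isoMk (Iso.refl (Spec (CommRingCat.of B)))
    ((Category.id_comp _).trans hw.symm) : pt g B ≅ Over.mk t).hom, inferInstance, rfl, hh⟩

theorem ga_of_gv {B : Type u} [CommRing B] [Algebra R B] {x : pt g B ⟶ Red.Ga S} {b : B}
    (h : gv g x = b) : x = ga g b := by rw [← h, ga_gv]

/-- the coordinate of a point transported to a chart -/
theorem gv_chart {B : Type u} [CommRing B] [Algebra R B] {t : Spec (CommRingCat.of B) ⟶ S}
    (ι' : pt g B ⟶ Over.mk t) (hι : ι'.left = 𝟙 _) (x : Over.mk t ⟶ Red.Ga S) :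
    gv g (ι' ≫ x) = (Scheme.ΓSpecIso (CommRingCat.of B)).hom (Red.gaFn x) := by
  rw [gv_def, H27Witt.GaCoord.gaFn_comp, hι]
  rfl

/-- a function pulled back from the base, on a chart -/
theorem res_chart {B : Type u} [CommRing B] [Algebra R B] {t : Spec (CommRingCat.of B) ⟶ S}
    (ι' : pt g B ⟶ Over.mk t) (hι : ι'.left = 𝟙 _) (C : Γ(S, ⊤)) :
    (Scheme.ΓSpecIso (CommRingCat.of B)).hom (t.appTop C) = algebraMap R B (res g C) := by
  have hw : ι'.left ≫ t = Spec.map (CommRingCat.ofHom (algebraMap R B)) ≫ g := Over.w ι'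
  rw [hι, Category.id_comp] at hw
  have := res_comp (algebraMap R B) g C
  rw [← hw] at this
  exact this

/-- equality of points may be checked on charts -/
theorem hom_ext_pts {X Z : Over S} {x y : X ⟶ Z}
    (h : ∀ (B : Type u) [CommRing B] (t : Spec (CommRingCat.of B) ⟶ S) (j : Over.mk t ⟶ X),
      j ≫ x = j ≫ y) : x = y :=
  H21Rank1.hom_ext_chart h

theorem prod_comp {X Y : Over S} (f : Y ⟶ X) {n : ℕ} (z : Fin n → (X ⟶ G)) :
    f ≫ (List.ofFn z).prod = (List.ofFn fun k => f ≫ z k).prod :=
  map_prod_ofFn (preHom f) z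

end Groth.Agent.H21Split
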