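import Groth.Agent.H21Split.Levi
import Groth.Agent.H21Split.RootConj

/-!
A reflection point meeting the big cell is a word in the root groups of its root.
-/

open CategoryTheory MonoidalCategory CartesianMonoidalCategory MonObj GrpObj AlgebraicGeometry
open Groth.Agent.H27Witt.GaCoord (gaFn_comp gaFn_surjective gaFn_injective gaFn_one)

universe u

set_option backward.isDefEq.respectTransparency false
set_option linter.style.haveILetI false
set_option linter.unusedSectionVars false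
set_option synthInstance.maxHeartbeats 400000

noncomputable section

namespace Groth.Agent.H21Split

variable {S : Scheme.{u}} {G : Over S} [GrpObj G] (D : Red.SplitRed G)

theorem two_smul_notMem [D.P.IsReduced] (a : D.idx) : (2 : ℤ) • D.P.root a ∉ Set.range D.P.root := by
  rintro ⟨b, hb⟩
  have hne := D.P.ne_zero a
  have h2 : ∀ k : ℤ, k • D.P.root a = 0 → k = 0 := fun k hk => by
    by_contra h
    exact hne ((smul_eq_zero.mp hk).resolve_left h)
  have hdep : ¬ LinearIndependent ℤ ![D.P.root b, D.P.root a] := fun hli => by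
    have := LinearIndependent.pair_iff.mp hli 1 (-2) (by rw [one_smul, hb, ← add_smul]; simp)
    exact one_ne_zero this.1
  rcases RootPairing.IsReduced.eq_or_eq_neg b a hdep with h | h
  · have := h2 1 (by rw [one_smul]; linear_combination (norm := module) hb.symm.trans h)
    omega
  · have := h2 3 (by linear_combination (norm := module) hb.symm.trans h)
    omega

/-- a point normalising the products over a list of roots -/
def Stab {n : ℕ} (e : Fin n → D.idx) {X : Over S} (p : X ⟶ G) : Prop :=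
  ∀ v : Fin n → (X ⟶ Red.Ga S), ∃ w : Fin n → (X ⟶ Red.Ga S), xProd D e w = p * xProd D e v * p⁻¹

theorem Stab.mul {n : ℕ} {e : Fin n → D.idx} {X : Over S} {p q : X ⟶ G} (hp : Stab D e p) (hq : Stab D e q) :
    Stab D e (p * q) := fun v => by
  obtain ⟨w, hw⟩ := hq v
  obtain ⟨w', hw'⟩ := hp w
  refine ⟨w', hw'.trans ?_⟩
  rw [hw]; group

/-- an ordered enumeration of a side -/
def IsSide (h : D.M →+ ℤ) {n : ℕ} (e : Fin n → D.idx) : Prop :=
  Function.Injective e ∧ Set.range e = {b | 0 < h (D.P.root b)}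

variable {d c : D.idx} {h : D.M →+ ℤ} (hl : IsLevi D d c h) {n : ℕ} {e : Fin n → D.idx}

include hl

theorem stab_root (he : IsSide D h e) {X : Over S} (x : X ⟶ Red.Ga S) :
    Stab D e (x ≫ D.u c) ∧ Stab D e (x ≫ D.u d) :=
  ⟨fun v => exists_conj_side D e hl he.1 he.2 x v, fun v => exists_conj_side D e hl.symm he.1 he.2 x v⟩

omit hl in
theorem stab_torus {X : Over S} (t : X ⟶ D.T) : Stab D e (t ≫ D.i) :=
  fun v => exists_torus_conj D e t v

/-- the functional is invariant under the reflection -/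
theorem h_reflection {a : D.idx} (ha : a = c ∨ a = d) (b : D.idx) :
    h (D.P.root (D.P.reflectionPerm a b)) = h (D.P.root b) := by
  have ha0 : h (D.P.root a) = 0 := by
    rcases ha with rfl | rfl
    exacts [hl.2.1, hl.symm.2.1]
  rw [D.P.root_reflectionPerm, D.P.reflection_apply_root, map_sub, map_zsmul, ha0, smul_zero, sub_zero]

theorem stab_refl [D.P.IsReduced] (he : IsSide D h e) (nn : 𝟙_ (Over S) ⟶ G)
    (hn : ∀ (X : Over S) (t : X ⟶ D.T), (toUnit X ≫ nn) * (t ≫ D.i) * (toUnit X ≫ nn)⁻¹ =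
      t ≫ D.split.hom.hom.hom ≫ Red.DSmap S (D.P.reflection c).toLinearMap.toAddMonoidHom ≫
        D.split.inv.hom.hom ≫ D.i) (X : Over S) : Stab D e (toUnit X ≫ nn) := by
  classical
  intro v
  choose C hC _ using fun k => existsUnique_conj D c (e k) (two_smul_notMem D _) nn hn
  choose y hy using fun k => gaFn_surjective (X := X) (X.hom.appTop (C k) * Red.gaFn (v k))
  obtain ⟨w, hw⟩ := exists_reorder_global D (isPosSet_gt D h) e he.1 he.2 (fun k => D.P.reflectionPerm c (e k))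
    (fun k => by
      rw [Set.mem_ofPred_eq, h_reflection D hl (Or.inl rfl)]
      exact (he.2 ▸ ⟨k, rfl⟩ : e k ∈ {b | 0 < h (D.P.root b)})) y
  refine ⟨w, hw.trans ?_⟩
  rw [xProd, xProd, ← MulAut.conj_apply, ← MulEquiv.coe_toMonoidHom, map_prod_ofFn]
  congr
  funext k
  rw [MulEquiv.coe_toMonoidHom, MulAut.conj_apply, hC k X (v k) (y k) (hy k)]

/-- the middle part of the cell -/
def mid {X : Over S} (y : X ⟶ Red.Ga S) (t : X ⟶ D.T) (x : X ⟶ Red.Ga S) (_ : IsLevi D d c h) : X ⟶ G :=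
  (y ≫ D.u d) * (t ≫ D.i) * (x ≫ D.u c)

theorem stab_mid (he : IsSide D h e) {X : Over S} (y : X ⟶ Red.Ga S) (t : X ⟶ D.T) (x : X ⟶ Red.Ga S) :
    Stab D e (mid D y t x hl) :=
  ((stab_root D hl he y).2.mul D (stab_torus D t)).mul D (stab_root D hl he x).1

theorem mid_mul_inv {X : Over S} (y y' : X ⟶ Red.Ga S) (t t' : X ⟶ D.T) (x x' : X ⟶ Red.Ga S) :
    ∃ x₁ : X ⟶ Red.Ga S, mid D y' t' x' hl * (mid D y t x hl)⁻¹ =
      (y' ≫ D.u d) * ((t' * t⁻¹) ≫ D.i) * (x₁ ≫ D.u c) * (y⁻¹ ≫ D.u d) := by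
  haveI := (D.rootHom c).1
  haveI := (D.rootHom d).1
  haveI := D.maximalTorus.1
  obtain ⟨x₁, hx₁, -⟩ := (D.rootHom c).2.2 X t (x' * x⁻¹)
  refine ⟨x₁, ?_⟩
  rw [mid, mid, hx₁, MonObj.mul_comp, MonObj.mul_comp, GrpObj.inv_comp, GrpObj.inv_comp, GrpObj.inv_comp]
  group

omit hl in
theorem sandwich_aux {H : Type*} [Group H] {N v C w v' C' w' v2 w4 : H} (e₁ : N * (v * C * w) = v' * C' * w')
    (e₂ : v2 = N * v * N⁻¹) (e₃ : w4 = C * (w' * w⁻¹) * C⁻¹) : N = v2⁻¹ * v' * (C' * C⁻¹) * w4 := by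
  subst e₂ e₃
  rw [← mul_left_inj (C * w)]
  calc N * (C * w) = (N * v * N⁻¹)⁻¹ * (N * (v * C * w)) := by group
    _ = (N * v * N⁻¹)⁻¹ * (v' * C' * w') := by rw [e₁]
    _ = _ := by group

/-- a reflection point carrying a cell point into the cell is a sandwich -/
theorem exists_sandwich [D.P.IsReduced] {m : ℕ} {e' : Fin m → D.idx} (he : IsSide D h e) (he' : IsSide D (-h) e')
    (nn : 𝟙_ (Over S) ⟶ G)
    (hn : ∀ (X : Over S) (t : X ⟶ D.T), (toUnit X ≫ nn) * (t ≫ D.i) * (toUnit X ≫ nn)⁻¹ =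
      t ≫ D.split.hom.hom.hom ≫ Red.DSmap S (D.P.reflection c).toLinearMap.toAddMonoidHom ≫
        D.split.inv.hom.hom ≫ D.i)
    {X : Over S} {v v' : Fin m → (X ⟶ Red.Ga S)} {y y' x x' : X ⟶ Red.Ga S} {t t' : X ⟶ D.T}
    {w w' : Fin n → (X ⟶ Red.Ga S)}
    (heq : (toUnit X ≫ nn) * (xProd D e' v * mid D y t x hl * xProd D e w) =
      xProd D e' v' * mid D y' t' x' hl * xProd D e w') :
    ∃ (v₁ : Fin m → (X ⟶ Red.Ga S)) (w₁ : Fin n → (X ⟶ Red.Ga S)) (p q r : X ⟶ Red.Ga S) (t₁ : X ⟶ D.T),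
      toUnit X ≫ nn = xProd D e' v₁ * ((p ≫ D.u d) * (t₁ ≫ D.i) * (q ≫ D.u c) * (r ≫ D.u d)) * xProd D e w₁ := by
  obtain ⟨v2, hv2⟩ := stab_refl D hl.neg he' nn hn X v
  obtain ⟨wi, hwi⟩ := exists_inverse D (isPosSet_gt D h) e he.1 he.2 w
  obtain ⟨w3, hw3⟩ := exists_mul D (isPosSet_gt D h) e he.1 he.2 w' wi
  obtain ⟨w4, hw4⟩ := stab_mid D hl he y t x w3
  obtain ⟨vi, hvi⟩ := exists_inverse D (isPosSet_gt D (-h)) e' he'.1 he'.2 v2
  obtain ⟨v₁, hv₁⟩ := exists_mul D (isPosSet_gt D (-h)) e' he'.1 he'.2 vi v'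
  obtain ⟨x₁, hx₁⟩ := mid_mul_inv D hl y y' t t' x x'
  refine ⟨v₁, w4, y', x₁, y⁻¹, t' * t⁻¹, ?_⟩
  rw [hv₁, hvi, ← hx₁]
  exact sandwich_aux heq hv2 (by rw [hw4, hw3, hwi])

omit hl in
theorem fixed_aux {H : Type*} [Group H] {N T v h w v' w' h' : H} (hN : N = v * h * w) (hc : T * N * T⁻¹ = N)
    (hv : v' = T * v * T⁻¹) (hh : h' = T * h * T⁻¹) (hh' : h' = h) (hw : w' = T * w * T⁻¹) :
    v'⁻¹ * v = h * (w' * w⁻¹) * h⁻¹ := by
  have e0 : v * h * w = v' * h * w' := by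
    rw [← hN]
    refine hc.symm.trans ?_
    conv_rhs => rw [hv, ← hh', hh, hw]
    rw [hN]; group
  calc v'⁻¹ * v = v'⁻¹ * (v * h * w) * w⁻¹ * h⁻¹ := by group
    _ = v'⁻¹ * (v' * h * w') * w⁻¹ * h⁻¹ := by rw [e0]
    _ = _ := by group

variable {R : Type u} [CommRing R] (g : Spec (CommRingCat.of R) ⟶ S) [IsAffineHom G.hom]

omit hl in
theorem actsBy_cz (nn : 𝟙_ (Over S) ⟶ G) (a : D.idx) (ha : h (D.P.root a) = 0)
    (hn : ∀ (X : Over S) (t : X ⟶ D.T), (toUnit X ≫ nn) * (t ≫ D.i) * (toUnit X ≫ nn)⁻¹ =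
      t ≫ D.split.hom.hom.hom ≫ Red.DSmap S (D.P.reflection a).toLinearMap.toAddMonoidHom ≫
        D.split.inv.hom.hom ≫ D.i) :
    tPt g D (cz R D h) * (toUnit (pt g (LaurentPolynomial R)) ≫ nn) * (tPt g D (cz R D h))⁻¹ =
      toUnit (pt g (LaurentPolynomial R)) ≫ nn := by
  have hnr := actsBy_of_global g D a nn hn (LaurentPolynomial R) (cz R D h)
  rw [show (cz R D h).comp (sMap D a).toMultiplicative = cz R D h from MonoidHom.ext fun m => by
    obtain ⟨m, rfl⟩ := Multiplicative.ofAdd.surjective m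
    change LaurentPolynomial.T (h (D.P.reflection a m)) = LaurentPolynomial.T (h m)
    rw [reflection_apply', map_sub, map_zsmul, ha, smul_zero, sub_zero]] at hnr
  rw [show pmap g (toBase R (LaurentPolynomial R)) ≫ toUnit (pt g R) ≫ nn = toUnit (pt g (LaurentPolynomial R)) ≫ nn from
    by rw [← Category.assoc, toUnit_unique (pmap g (toBase R (LaurentPolynomial R)) ≫ toUnit _) (toUnit _)]] at hnr
  exact (mul_inv_eq_iff_eq_mul).mpr ((mul_inv_eq_iff_eq_mul.mp hnr).symm)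

/-- a sandwich fixed by the functional is in the middle part -/
theorem sandwich_eq_mid [D.P.IsReduced] {m : ℕ} {e' : Fin m → D.idx} (he : IsSide D h e) (he' : IsSide D (-h) e')
    (nn : 𝟙_ (Over S) ⟶ G)
    (hn : ∀ (X : Over S) (t : X ⟶ D.T), (toUnit X ≫ nn) * (t ≫ D.i) * (toUnit X ≫ nn)⁻¹ =
      t ≫ D.split.hom.hom.hom ≫ Red.DSmap S (D.P.reflection c).toLinearMap.toAddMonoidHom ≫
        D.split.inv.hom.hom ≫ D.i)
    {v₁ : Fin m → R} {w₁ : Fin n → R} {p q r : R} {χ : Multiplicative D.M →* R}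
    (heq : toUnit (pt g R) ≫ nn =
      uProd g D e' v₁ * (uPt g D d p * tPt g D χ * uPt g D c q * uPt g D d r) * uProd g D e w₁) :
    toUnit (pt g R) ≫ nn = uPt g D d p * tPt g D χ * uPt g D c q * uPt g D d r := by
  let L := LaurentPolynomial R
  let H : pt g R ⟶ G := uPt g D d p * tPt g D χ * uPt g D c q * uPt g D d r
  let HL : pt g L ⟶ G := pmap g (lconst R R) ≫ H
  let v' : Fin m → L := fun k => LaurentPolynomial.T (h (D.P.root (e' k))) * LaurentPolynomial.C (v₁ k)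
  let w' : Fin n → L := fun k => LaurentPolynomial.T (h (D.P.root (e k))) * LaurentPolynomial.C (w₁ k)
  let v0 : Fin m → L := fun k => LaurentPolynomial.C (v₁ k)
  let w0 : Fin n → L := fun k => LaurentPolynomial.C (w₁ k)
  have hN := congrArg (fun z => pmap g (lconst R R) ≫ z) heq
  simp only [MonObj.comp_mul, pmap_uProd] at hN
  rw [← Category.assoc, toUnit_unique (pmap g (lconst R R) ≫ toUnit _) (toUnit _)] at hN
  simp only [← MonObj.comp_mul, lconst_apply] at hN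
  have hu : ∀ (a : D.idx) (b : L), h (D.P.root a) = 0 →
      tPt g D (cz R D h) * uPt g D a b * (tPt g D (cz R D h))⁻¹ = uPt g D a b := fun a b ha => by
    rw [tPt_conj, cz_apply, ha, LaurentPolynomial.T_zero, _root_.one_mul]
  have hH : HL = tPt g D (cz R D h) * HL * (tPt g D (cz R D h))⁻¹ := by
    simp only [HL, H, MonObj.comp_mul, pmap_uPt, pmap_tPt, ← conj_mul3, hu c _ hl.2.1, hu d _ hl.symm.2.1]
    rw [(tPt_commute g D (cz R D h) _).eq, mul_inv_cancel_right]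
  have key := fixed_aux (v' := uProd g D e' v') (w' := uProd g D e w') (v := uProd g D e' v0)
    (w := uProd g D e w0) (h := HL) hN (actsBy_cz D g nn c hl.2.1 hn)
    (by rw [tPt_conj_uProd]; simp only [v', v0, cz_apply]) hH rfl
    (by rw [tPt_conj_uProd]; simp only [w', w0, cz_apply])
  obtain ⟨Uv, hUv⟩ := exists_subgroup g L D (isPosSet_gt D (-h)) e' he'.1 he'.2
  obtain ⟨Uw, hUw⟩ := exists_subgroup g L D (isPosSet_gt D h) e he.1 he.2
  obtain ⟨a₁, ha₁⟩ := (hUv _).mp (Uv.mul_mem (Uv.inv_mem ((hUv _).mpr ⟨v', rfl⟩)) ((hUv _).mpr ⟨v0, rfl⟩))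
  obtain ⟨b₁, hb₁⟩ := (hUw _).mp (Uw.mul_mem ((hUw _).mpr ⟨w', rfl⟩) (Uw.inv_mem ((hUw _).mpr ⟨w0, rfl⟩)))
  obtain ⟨b₂, hb₂⟩ : ∃ b₂ : Fin n → L, uProd g D e b₂ = HL * uProd g D e b₁ * HL⁻¹ := by
    have hs : Stab D e HL := by
      simp only [HL, H, MonObj.comp_mul, pmap_uPt, pmap_tPt]
      refine ((Stab.mul D (stab_root D hl he _).2 ?_).mul D (stab_root D hl he _).1).mul D (stab_root D hl he _).2
      obtain ⟨t, ht⟩ : ∃ t : pt g L ⟶ D.T, t ≫ D.i = tPt g D ((lconst R R).toRingHom.toMonoidHom.comp χ) :=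
        ⟨ds g _ ≫ D.split.inv.hom.hom, by rw [tPt, Category.assoc]⟩
      rw [← ht]
      exact stab_torus D t
    obtain ⟨w, hw⟩ := hs fun k => ga g (b₁ k)
    refine ⟨fun k => gv g (w k), ?_⟩
    rw [← xProd_pt, hw, xProd_pt]
    simp only [gv_ga]
  rw [ha₁, hb₁, ← hb₂] at key
  have hh : ∀ k, h (D.P.root (e' k)) < 0 := fun k => by
    have : e' k ∈ {b | 0 < (-h) (D.P.root b)} := he'.2 ▸ ⟨k, rfl⟩
    simpa using this
  have hhp : ∀ k, 0 < h (D.P.root (e k)) := fun k =>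
    (he.2 ▸ ⟨k, rfl⟩ : e k ∈ {b | 0 < h (D.P.root b)})
  obtain ⟨ha0, -, hb0⟩ := cross g D e' e he'.1 he.1 h hh hhp (key.trans (by rw [tPt_one, _root_.one_mul]))
  have hv : v' = v0 := uProd_injective g D (isPosSet_gt D (-h)) e' he'.1 he'.2 (by
    rw [ha0, uProd_zero, inv_mul_eq_one] at ha₁; exact ha₁)
  have hb10 : uProd g D e b₁ = 1 := by
    rw [hb0, uProd_zero, eq_comm, mul_inv_eq_one] at hb₂
    exact mul_eq_left.mp hb₂
  have hw : w' = w0 := uProd_injective g D (isPosSet_gt D h) e he.1 he.2 (by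
    rw [hb10, mul_inv_eq_one] at hb₁; exact hb₁)
  have hzero : ∀ (k : ℤ) (b : R), k ≠ 0 → LaurentPolynomial.T k * LaurentPolynomial.C b = LaurentPolynomial.C b → b = 0 := by
    intro k b hk hb
    have h0 : (LaurentPolynomial.C b * LaurentPolynomial.T k : L).coeff 0 = 0 := by
      rw [← LaurentPolynomial.single_eq_C_mul_T, AddMonoidAlgebra.coeff_single, Finsupp.single_eq_of_ne (Ne.symm hk)]
    rw [mul_comm] at hb
    rw [hb, LaurentPolynomial.C_apply, if_pos rfl] at h0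
    exact h0
  rw [heq, show v₁ = 0 from funext fun k => hzero _ _ (hh k).ne (congrFun hv k),
    show w₁ = 0 from funext fun k => hzero _ _ (hhp k).ne' (congrFun hw k), uProd_zero, uProd_zero, _root_.one_mul,
    _root_.mul_one]

end Groth.Agent.H21Split
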