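import Groth.Agent.H21Split.Law

/-!
The big cell on test algebras: uniqueness of coordinates and infinitesimal lifting.
-/

open CategoryTheory MonoidalCategory CartesianMonoidalCategory MonObj GrpObj AlgebraicGeometry
open CategoryTheory.Limits

universe u

set_option backward.isDefEq.respectTransparency false
set_option linter.style.haveILetI false
set_option linter.unusedSectionVars false
set_option synthInstance.maxHeartbeats 400000

noncomputable section

namespace Groth.Agent.H21Split

section Ring

variable {B : Type u} [CommRing B]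

theorem coeff_toLaurent_nat (p : Polynomial B) (n : ℕ) : (Polynomial.toLaurent p).coeff (n : ℤ) = p.coeff n := by
  rw [LaurentPolynomial.coeff_toLaurent]
  exact Finsupp.mapDomain_apply Nat.castEmbedding.injective _ n

theorem coeff_toLaurent_neg (p : Polynomial B) {n : ℤ} (h : n < 0) : (Polynomial.toLaurent p).coeff n = 0 := by
  rw [LaurentPolynomial.coeff_toLaurent]
  refine Finsupp.mapDomain_of_notMem_range _ _ fun ⟨m, hm⟩ => ?_
  have h2 : (0 : ℤ) ≤ (m : ℤ) := Int.natCast_nonneg m
  simp only [Nat.castEmbedding_apply] at hm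
  omega

/-- a polynomial in the inverse variable equal to a polynomial in the variable is constant -/
theorem eq_C_of_invert {p q : Polynomial B}
    (h : LaurentPolynomial.invert (Polynomial.toLaurent p) = Polynomial.toLaurent q) :
    p = Polynomial.C (p.coeff 0) ∧ q = Polynomial.C (p.coeff 0) := by
  have key : ∀ n : ℤ, (Polynomial.toLaurent p).coeff (-n) = (Polynomial.toLaurent q).coeff n := fun n => by
    rw [← LaurentPolynomial.invert_apply, h]
  refine ⟨Polynomial.ext fun n => ?_, Polynomial.ext fun n => ?_⟩ <;> rcases n with - | n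
  · simp
  · rw [Polynomial.coeff_C_succ, ← coeff_toLaurent_nat, ← neg_neg ((n + 1 : ℕ) : ℤ), key,
      coeff_toLaurent_neg _ (by omega)]
  · rw [Polynomial.coeff_C_zero, ← coeff_toLaurent_nat, ← coeff_toLaurent_nat, ← key]
    simp
  · rw [Polynomial.coeff_C_succ, ← coeff_toLaurent_nat, ← key, coeff_toLaurent_neg _ (by omega)]

end Ring

variable {S : Scheme.{u}} {R : Type u} [CommRing R] (g : Spec (CommRingCat.of R) ⟶ S)
variable {B : Type u} [CommRing B] [Algebra R B]
variable {G : Over S} [GrpObj G] (D : Red.SplitRed G)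

/-- a point of the cell -/
def cellPt {n m : ℕ} (en : Fin n → D.idx) (ep : Fin m → D.idx) (x : Fin n → B) (χ : Multiplicative D.M →* B)
    (y : Fin m → B) : pt g B ⟶ G :=
  uProd g D en x * (tPt g D χ * uProd g D ep y)

variable (R B) in
/-- polynomials in the inverse variable -/
def polyLi : Polynomial B →ₐ[R] LaurentPolynomial B :=
  ((LaurentPolynomial.invert (R := B)).toAlgHom.restrictScalars R).comp (polyL R B)

theorem polyLi_apply (p : Polynomial B) : polyLi R B p = LaurentPolynomial.invert (Polynomial.toLaurent p) := rfl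

variable (R B) in
/-- constants in polynomials -/
def pconst : B →ₐ[R] Polynomial B := IsScalarTower.toAlgHom R B (Polynomial B)

theorem pconst_apply (b : B) : pconst R B b = Polynomial.C b := by
  simp [pconst]

variable (R B) in
/-- evaluation at a constant -/
def pev (b : B) : Polynomial B →ₐ[R] B := (Polynomial.aeval b).restrictScalars R

theorem pev_apply (b : B) (p : Polynomial B) : pev R B b p = p.eval b := by
  simp [pev]

theorem conjT {H : Type*} [Group H] (a t u : H) : a * (t * u) * a⁻¹ = (a * t * a⁻¹) * (a * u * a⁻¹) := by group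

variable [IsAffineHom G.hom] {Ψn Ψp : Set D.idx}

/-- a point of the negative part in the Borel subgroup is trivial -/
theorem cross {n m : ℕ} (en : Fin n → D.idx) (ep : Fin m → D.idx) (hn : Function.Injective en)
    (hp : Function.Injective ep) (h : D.M →+ ℤ) (hneg : ∀ k, h (D.P.root (en k)) < 0)
    (hpos : ∀ k, 0 < h (D.P.root (ep k))) {a : Fin n → B} {τ : Multiplicative D.M →* B} {b : Fin m → B}
    (hab : uProd g D en a = tPt g D τ * uProd g D ep b) : a = 0 ∧ τ = 1 ∧ b = 0 := by
  let φn : pt g (Polynomial B) ⟶ G :=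
    uProd g D en fun k => Polynomial.C (a k) * Polynomial.X ^ (-h (D.P.root (en k))).toNat
  let φp : pt g (Polynomial B) ⟶ G := tPt g D ((pconst R B).toRingHom.toMonoidHom.comp τ) *
    uProd g D ep fun k => Polynomial.C (b k) * Polynomial.X ^ (h (D.P.root (ep k))).toNat
  have hpc : (polyL R B).toRingHom.toMonoidHom.comp ((pconst R B).toRingHom.toMonoidHom.comp τ) =
      (lconst R B).toRingHom.toMonoidHom.comp τ :=
    MonoidHom.ext fun x => by
      change polyL R B (pconst R B (τ x)) = lconst R B (τ x)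
      rw [pconst_apply, polyL_apply, lconst_apply, Polynomial.toLaurent_C]
  have hconj := congrArg (fun z => tPt g D (cz B D h) * (pmap g (lconst R B) ≫ z) * (tPt g D (cz B D h))⁻¹) hab
  simp only [MonObj.comp_mul, pmap_tPt, conjT] at hconj
  rw [(tPt_commute g D (cz B D h) _).eq, mul_inv_cancel_right, uProd, uProd, conj_cz_prod, conj_cz_prod] at hconj
  have hcmp : pmap g (polyLi R B) ≫ φn = pmap g (polyL R B) ≫ φp := by
    simp only [φn, φp, MonObj.comp_mul, pmap_tPt, hpc, pmap_uProd]
    refine Eq.trans ?_ (hconj.trans ?_)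
    · rw [uProd]
      congr
      funext k
      congr 1
      rw [polyLi_apply, Polynomial.toLaurent_C_mul_X_pow, map_mul, LaurentPolynomial.invert_C,
        LaurentPolynomial.invert_T, mul_comm, Int.toNat_of_nonneg (by have := hneg k; omega), neg_neg]
    · congr 1
      rw [uProd]
      congr
      funext k
      congr 1
      rw [polyL_apply, Polynomial.toLaurent_C_mul_X_pow, mul_comm,
        Int.toNat_of_nonneg (hpos k).le]
  have hconst : φn = pmap g (pconst R B) ≫ pmap g (pev R B 0) ≫ φn ∧
      φp = pmap g (pconst R B) ≫ pmap g (pev R B 0) ≫ φn := by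
    have hcoord : ∀ c : Crd g G, LaurentPolynomial.invert (Polynomial.toLaurent (fn g φn c)) =
        Polynomial.toLaurent (fn g φp c) := fun c => by
      have := AlgHom.congr_fun (congrArg (fn g) hcmp) c
      rw [fn_pmap, fn_pmap] at this
      exact this
    constructor <;> refine fn_injective g (AlgHom.ext fun c => ?_) <;>
      rw [fn_pmap, fn_pmap, AlgHom.comp_apply, AlgHom.comp_apply, pev_apply, ← Polynomial.coeff_zero_eq_eval_zero,
        pconst_apply]
    · exact (eq_C_of_invert (hcoord c)).1
    · exact (eq_C_of_invert (hcoord c)).2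
  have hn0 : pmap g (pev R B 0) ≫ φn = 1 := by
    rw [pmap_uProd, ← uProd_zero (B := B) g D en]
    congr
    funext k
    rw [pev_apply, Pi.zero_apply, Polynomial.eval_mul, Polynomial.eval_pow, Polynomial.eval_X,
      zero_pow (by have := hneg k; omega), mul_zero]
  rw [hn0, MonObj.comp_one] at hconst
  have hn1 : uProd g D en a = 1 := by
    have := congrArg (fun z => pmap g (pev R B 1) ≫ z) hconst.1
    simp only [φn, pmap_uProd, MonObj.comp_one, pev_apply, Polynomial.eval_mul, Polynomial.eval_C,
      Polynomial.eval_pow, Polynomial.eval_X, one_pow, _root_.mul_one] at this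
    exact this
  have ht : τ = 1 := by
    have := congrArg (fun z => pmap g (pev R B 0) ≫ z) hconst.2
    simp only [φp, MonObj.comp_mul, MonObj.comp_one, pmap_tPt, pmap_uProd] at this
    rw [show (fun k => pev R B 0 (Polynomial.C (b k) * Polynomial.X ^ (h (D.P.root (ep k))).toNat)) = 0 from
      funext fun k => by
        rw [pev_apply, Pi.zero_apply, Polynomial.eval_mul, Polynomial.eval_pow, Polynomial.eval_X,
          zero_pow (by have := hpos k; omega), mul_zero], uProd_zero, _root_.mul_one] at this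
    refine tPt_injective g D ((congrArg (tPt g D) ?_).trans (this.trans (tPt_one g D).symm))
    exact MonoidHom.ext fun x => by
      change τ x = pev R B 0 (pconst R B (τ x))
      rw [pconst_apply, pev_apply, Polynomial.eval_C]
  subst ht
  rw [hn1, tPt_one, _root_.one_mul] at hab
  exact ⟨prod_uPt_injective g D en hn (-h) (fun k => by rw [AddMonoidHom.neg_apply]; have := hneg k; omega)
    (hn1.trans (uProd_zero g D en).symm), rfl,
    prod_uPt_injective g D ep hp h hpos (hab.symm.trans (uProd_zero g D ep).symm)⟩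

/-- hypotheses on the two lists of roots of a cell -/
structure IsCellData {n m : ℕ} (en : Fin n → D.idx) (ep : Fin m → D.idx) : Prop where
  hn : Function.Injective en
  hp : Function.Injective ep
  posn : IsPosSet D.P (Set.range en)
  posp : IsPosSet D.P (Set.range ep)
  functional : ∃ h : D.M →+ ℤ, (∀ k, h (D.P.root (en k)) < 0) ∧ ∀ k, 0 < h (D.P.root (ep k))

theorem cellPt_injective {n m : ℕ} {en : Fin n → D.idx} {ep : Fin m → D.idx} (hD : IsCellData D en ep)
    {x x' : Fin n → B} {χ χ' : Multiplicative D.M →* B} {y y' : Fin m → B}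
    (hh : cellPt g D en ep x χ y = cellPt g D en ep x' χ' y') : x = x' ∧ χ = χ' ∧ y = y' := by
  obtain ⟨Un, hUn⟩ := exists_subgroup g B D hD.posn en hD.hn rfl
  obtain ⟨Up, hUp⟩ := exists_subgroup g B D hD.posp ep hD.hp rfl
  obtain ⟨h, hneg, hpos⟩ := hD.functional
  obtain ⟨a, ha⟩ := (hUn _).mp (Un.mul_mem (Un.inv_mem ((hUn _).mpr ⟨x', rfl⟩)) ((hUn _).mpr ⟨x, rfl⟩))
  obtain ⟨b', hb'⟩ := (hUp _).mp (Up.mul_mem ((hUp _).mpr ⟨y', rfl⟩) (Up.inv_mem ((hUp _).mpr ⟨y, rfl⟩)))
  obtain ⟨χi, hχi⟩ : ∃ χi, tPt g D χi = (tPt g D χ)⁻¹ := by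
    obtain ⟨χi, h'⟩ := exists_tPt g D (ds g χ ≫ D.split.inv.hom.hom)⁻¹
    exact ⟨χi, h'.trans (by rw [GrpObj.inv_comp, tPt, Category.assoc])⟩
  have key : uProd g D en a = tPt g D (χ' * χi) * uProd g D ep (fun k => χ (Multiplicative.ofAdd (D.P.root (ep k))) * b' k) := by
    rw [← ha, tPt_mul, hχi, ← tPt_conj_uProd, ← hb', inv_mul_eq_iff_eq_mul]
    calc uProd g D en x = cellPt g D en ep x χ y * ((uProd g D ep y)⁻¹ * (tPt g D χ)⁻¹) := by
          rw [cellPt]; group
      _ = _ := by rw [hh, cellPt]; group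
  obtain ⟨ha0, hτ, -⟩ := cross g D en ep hD.hn hD.hp h hneg hpos key
  have hx : x = x' := by
    refine uProd_injective g D hD.posn en hD.hn rfl ?_
    rw [ha0, uProd_zero, inv_mul_eq_one] at ha
    exact ha.symm
  have hχ : χ = χ' := by
    refine tPt_injective g D ?_
    have := congrArg (tPt g D) hτ
    rw [tPt_mul, hχi, tPt_one, mul_inv_eq_one] at this
    exact this.symm
  subst hx hχ
  exact ⟨rfl, rfl, uProd_injective g D hD.posp ep hD.hp rfl (mul_left_cancel (mul_left_cancel hh))⟩

/-- lifting of a factorisation through the cell along a square zero ideal -/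
theorem exists_cell_lift (I : Ideal B) (hI : I * I = ⊥) {n m : ℕ} {en : Fin n → D.idx} {ep : Fin m → D.idx}
    (hD : IsCellData D en ep) (hbij : Function.Bijective (Sum.elim en ep)) {φ : pt g B ⟶ G}
    {x : Fin n → B} {χ : Multiplicative D.M →* B} {y : Fin m → B}
    (h : pmap g (Ideal.Quotient.mkₐ R I) ≫ φ = pmap g (Ideal.Quotient.mkₐ R I) ≫ cellPt g D en ep x χ y) :
    ∃ (x' : Fin n → B) (χ' : Multiplicative D.M →* B) (y' : Fin m → B), φ = cellPt g D en ep x' χ' y' := by
  obtain ⟨Un, hUn⟩ := exists_subgroup g B D hD.posn en hD.hn rfl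
  obtain ⟨Up, hUp⟩ := exists_subgroup g B D hD.posp ep hD.hp rfl
  let δ : pt g B ⟶ G := (uProd g D en x * tPt g D χ)⁻¹ * φ * (uProd g D ep y)⁻¹
  have hδ : ∀ c, dev g δ c ∈ I := by
    refine dev_mem_of_pmap_eq_one g I ?_
    simp only [δ, MonObj.comp_mul, GrpObj.comp_inv, h, cellPt]
    group
  obtain ⟨bn, τ, bp, -, -, hd⟩ := exists_eq_cell_sq g D I hI en ep hbij hδ
  obtain ⟨x', hx'⟩ := (hUn _).mp (Un.mul_mem ((hUn (uProd g D en x)).mpr ⟨x, rfl⟩)
    ((hUn (uProd g D en fun k => χ (Multiplicative.ofAdd (D.P.root (en k))) * bn k)).mpr ⟨_, rfl⟩))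
  obtain ⟨y', hy'⟩ := (hUp _).mp (Up.mul_mem ((hUp (uProd g D ep bp)).mpr ⟨bp, rfl⟩)
    ((hUp (uProd g D ep y)).mpr ⟨y, rfl⟩))
  refine ⟨x', χ * τ, y', ?_⟩
  have hφ : φ = uProd g D en x * tPt g D χ * δ * uProd g D ep y := by
    simp only [δ]; group
  rw [cellPt, ← hx', ← hy', ← tPt_conj_uProd, tPt_mul, hφ, hd, uProd, uProd, uProd, uProd]
  group

end Groth.Agent.H21Split
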