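import Groth.Agent.H21Split.Pts
import Groth.Agent.H21Diag.SubgroupSplit
import Groth.Agent.H21Diag.DSMap

/-!
Points of the additive group and of split tori with values in algebras, by coordinates.
-/

open CategoryTheory MonoidalCategory CartesianMonoidalCategory MonObj GrpObj AlgebraicGeometry
open CategoryTheory.Limits
open Groth.Agent.H27Witt.GaCoord (gval_eq gaFn_surjective gaFn_comp)

universe u

set_option backward.isDefEq.respectTransparency false
set_option linter.style.haveILetI false
set_option synthInstance.maxHeartbeats 400000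

noncomputable section

namespace Groth.Agent.H21Split

variable {S : Scheme.{u}} {R : Type u} [CommRing R] (g : Spec (CommRingCat.of R) ⟶ S)
variable {B : Type u} [CommRing B] [Algebra R B] {B' : Type u} [CommRing B'] [Algebra R B']

/-- the coordinate of a point of the additive group -/
def gv (x : pt g B ⟶ Red.Ga S) : B := H21Diag.gval x

theorem gv_def (x : pt g B ⟶ Red.Ga S) : gv g x = (Scheme.ΓSpecIso (CommRingCat.of B)).hom (Red.gaFn x) :=
  gval_eq x

theorem gv_pmap (f : B →ₐ[R] B') (x : pt g B ⟶ Red.Ga S) : gv g (pmap g f ≫ x) = f (gv g x) :=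
  H21Diag.gval_comp f.toRingHom x _ rfl

theorem gv_injective : Function.Injective (gv g : (pt g B ⟶ Red.Ga S) → B) := fun _ _ h =>
  H21Diag.gval_injective h

theorem gv_mul (x y : pt g B ⟶ Red.Ga S) : gv g (x * y) = gv g x + gv g y := H21Diag.gval_mul x y

theorem gaFn_eq_of_gv {x : pt g B ⟶ Red.Ga S} {b : B} (h : gv g x = b) :
    Red.gaFn x = (Scheme.ΓSpecIso (CommRingCat.of B)).inv b := by
  rw [gv_def] at h
  rw [← h]
  exact (Iso.hom_inv_id_apply (Scheme.ΓSpecIso (CommRingCat.of B)) (Red.gaFn x)).symm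

/-- the point of the additive group with a given coordinate -/
def ga (b : B) : pt g B ⟶ Red.Ga S :=
  H21Rank1.gaPt ((Scheme.ΓSpecIso (CommRingCat.of B)).inv b)

theorem gv_ga (b : B) : gv g (ga g b) = b := by
  rw [gv_def, ga, H21Rank1.gaFn_gaPt]
  exact Iso.inv_hom_id_apply (Scheme.ΓSpecIso (CommRingCat.of B)) b

theorem ga_gv (x : pt g B ⟶ Red.Ga S) : ga g (gv g x) = x := gv_injective g (gv_ga g _)

theorem pmap_ga (f : B →ₐ[R] B') (b : B) : pmap g f ≫ ga g b = ga g (f b) :=
  gv_injective g (by rw [gv_pmap, gv_ga, gv_ga])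

theorem ga_add (a b : B) : ga g (a + b) = ga g a * ga g b :=
  gv_injective g (by rw [gv_mul, gv_ga, gv_ga, gv_ga])

theorem grp_idem {H : Type*} [Group H] {a : H} (h : a * a = a) : a = 1 := mul_eq_left.mp h

theorem grp_inv {H : Type*} [Group H] {a b : H} (h : a * b = 1) : a = b⁻¹ := eq_inv_of_mul_eq_one_left h

theorem ga_zero : ga g (0 : B) = 1 := by
  have h := (ga_add g (0 : B) 0).symm
  rw [add_zero] at h
  exact grp_idem h

theorem ga_neg (a : B) : ga g (-a) = (ga g a)⁻¹ :=
  grp_inv (by rw [← ga_add, neg_add_cancel, ga_zero])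

/-- the coordinate of a point of the multiplicative group -/
def gmv (t : pt g B ⟶ Red.Gm S) : B := (Scheme.ΓSpecIso (CommRingCat.of B)).hom (Red.gmFn t)

theorem gv_of_gaFn_eq_mul {x y : pt g B ⟶ Red.Ga S} {t : pt g B ⟶ Red.Gm S}
    (h : Red.gaFn y = Red.gmFn t * Red.gaFn x) : gv g y = gmv g t * gv g x := by
  rw [gv_def, gv_def, gmv, h, map_mul]

variable {M N : Type} [AddCommGroup M] [AddCommGroup N]

/-- the point of the split torus given by a character -/
def ds (χ : Multiplicative M →* B) : pt g B ⟶ Red.DS S M :=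
  H21Diag.dpt (Spec.map (CommRingCat.ofHom (algebraMap R B)) ≫ g) χ

theorem ds_mul (χ χ' : Multiplicative M →* B) : ds g (χ * χ') = ds g χ * ds g χ' := H21Diag.dpt_mul _ _ _

theorem ds_one : ds g (1 : Multiplicative M →* B) = 1 := H21Diag.dpt_one _

theorem ds_injective : Function.Injective (ds g : (Multiplicative M →* B) → _) := fun _ _ h =>
  H21Diag.dpt_injective _ h

theorem ds_surjective : Function.Surjective (ds g : (Multiplicative M →* B) → _) := fun x =>
  H21Diag.dpt_surjective _ x

theorem pmap_ds (f : B →ₐ[R] B') (χ : Multiplicative M →* B) :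
    pmap g f ≫ ds g χ = ds g (f.toRingHom.toMonoidHom.comp χ) := by
  refine H21Diag.bc_ext ?_
  rw [ds, ds, H21Diag.dpt_fst]
  refine (Category.assoc _ _ _).trans ((congrArg (Spec.map _ ≫ ·) (H21Diag.dpt_fst _ _)).trans ?_)
  refine (Spec.map_comp _ _).symm.trans (congrArg Spec.map ?_)
  exact CommRingCat.hom_ext (H21Diag.charRingHom_ext fun m => by simp)

theorem ds_DSmap (χ : Multiplicative N →* B) (φ : M →+ N) :
    ds g χ ≫ Red.DSmap S φ = ds g (χ.comp (AddMonoidHom.toMultiplicative φ)) :=
  H21Diag.dpt_comp_DSmap _ _ _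

theorem gmv_chi (χ : Multiplicative M →* B) (m : M) :
    gmv g (ds g χ ≫ Red.chi S m) = χ (Multiplicative.ofAdd m) := by
  rw [Red.chi, ds_DSmap, gmv]
  refine (H21Rank1.gmFn_dpt _ _).trans ?_
  simp

end Groth.Agent.H21Split
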