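import Groth.Agent.H21Split.DualLocal

/-!
Every root of a split group has a rank one relation with a unit constant on the base.
-/

open CategoryTheory MonoidalCategory CartesianMonoidalCategory MonObj GrpObj AlgebraicGeometry
open Groth.Agent.H27Witt.GaCoord (gaFn_comp gaFn_surjective gaFn_injective gaFn_one)

universe u

set_option backward.isDefEq.respectTransparency false
set_option linter.style.haveILetI false
set_option linter.unusedSectionVars false
set_option synthInstance.maxHeartbeats 400000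

noncomputable section

namespace Groth.Agent.H21Split

variable {S : Scheme.{u}} {G : Over S} [GrpObj G] (D : Red.SplitRed G)
variable {R : Type u} [CommRing R] (g : Spec (CommRingCat.of R) ⟶ S) {B : Type u} [CommRing B] [Algebra R B]

/-- the coroot on a point of the multiplicative group -/
theorem coroot_pt (a : D.idx) (t : pt g B ⟶ Red.Gm S) (Z : Bˣ) (hZ : gmv g t = Z) :
    t ≫ (Red.DSmap S (D.P.coroot a).toAddMonoidHom ≫ D.split.inv.hom.hom) ≫ D.i = tPt g D (cor D Z a) := by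
  obtain ⟨χ, rfl⟩ := ds_surjective g t
  rw [tPt, ← Category.assoc, ← Category.assoc, ds_DSmap, Category.assoc]
  congr 2
  refine MonoidHom.ext fun m => ?_
  obtain ⟨m, rfl⟩ := Multiplicative.ofAdd.surjective m
  rw [gmv, ds, H21Rank1.gmFn_dpt] at hZ
  have hU : χ.toHomUnits (Multiplicative.ofAdd 1) = Z := Units.ext hZ
  rw [cor_apply, ← hU, ← map_zpow]
  change χ (Multiplicative.ofAdd (D.P.coroot a m)) = χ (Multiplicative.ofAdd 1 ^ D.P.coroot a m)
  simp [← ofAdd_zsmul]

/-- the constant of the rank one relation -/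
theorem exists_pairing_const [D.P.IsReduced] (a : D.idx) :
    ∃ k : Γ(S, ⊤), IsUnit k ∧ ∀ (X : Over S) (x y : X ⟶ Red.Ga S),
      IsUnit (1 + X.hom.appTop k * Red.gaFn x * Red.gaFn y) →
      ∃ (x' y' : X ⟶ Red.Ga S) (z : X ⟶ Red.Gm S), Red.gmFn z = 1 + X.hom.appTop k * Red.gaFn x * Red.gaFn y ∧
        Red.gaFn x' * Red.gmFn z = Red.gaFn x ∧ Red.gaFn y' * Red.gmFn z = Red.gaFn y ∧
        (x ≫ D.u a) * (y ≫ D.u (D.P.reflectionPerm a a)) = (y' ≫ D.u (D.P.reflectionPerm a a)) *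
          (z ≫ (Red.DSmap S (D.P.coroot a).toAddMonoidHom ≫ D.split.inv.hom.hom) ≫ D.i) * (x' ≫ D.u a) := by
  haveI := isAffineHom_hom D
  set c := D.P.reflectionPerm a a with hc
  have hdc : D.P.root a = -D.P.root c := by rw [hc, D.P.root_reflectionPerm, D.P.reflection_apply_self, neg_neg]
  let κ : ∀ (R : Type u) [CommRing R], (Spec (CommRingCat.of R) ⟶ S) → R := fun R _ g => (exists_dual D g a).choose
  have hκ : ∀ (R : Type u) [CommRing R] (g : Spec (CommRingCat.of R) ⟶ S), Dual g D a c (κ R g) ∧ IsUnit (κ R g) :=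
    fun R _ g => (exists_dual D g a).choose_spec
  have hnat : ∀ (R R' : Type u) [CommRing R] [CommRing R'] (f : R →+* R') (g : Spec (CommRingCat.of R) ⟶ S),
      κ R' (Spec.map (CommRingCat.ofHom f) ≫ g) = f (κ R g) := fun R R' _ _ f g =>
    Dual.unique _ D hdc (hκ R' _).1 ((hκ R g).1.comp g D f)
  obtain ⟨k, hk, -⟩ := existsUnique_res κ hnat
  have hinv : ∀ (R R' : Type u) [CommRing R] [CommRing R'] (f : R →+* R') (g : Spec (CommRingCat.of R) ⟶ S),
      Ring.inverse (κ R' (Spec.map (CommRingCat.ofHom f) ≫ g)) = f (Ring.inverse (κ R g)) := fun R R' _ _ f g => by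
    obtain ⟨v, hv⟩ := (hκ R g).2
    rw [hnat R R' f g, ← hv, Ring.inverse_unit,
      show f (v : R) = ((Units.map f.toMonoidHom v : R'ˣ) : R') from rfl, Ring.inverse_unit]
    rfl
  obtain ⟨k', hk', -⟩ := existsUnique_res (fun R _ g => Ring.inverse (κ R g)) hinv
  refine ⟨k, IsUnit.of_mul_eq_one k' (ext_res fun R _ g => by
    rw [map_mul, hk, hk', Ring.mul_inverse_cancel _ (hκ R g).2, map_one]), fun X x y hu => ?_⟩
  obtain ⟨z, hz⟩ := H21Rank1.gmFn_surjective _ hu
  obtain ⟨x', hx'⟩ := gaFn_surjective (X := X) (↑hu.unit⁻¹ * Red.gaFn x)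
  obtain ⟨y', hy'⟩ := gaFn_surjective (X := X) (↑hu.unit⁻¹ * Red.gaFn y)
  refine ⟨x', y', z, hz, by rw [hx', hz, mul_right_comm, IsUnit.val_inv_mul, _root_.one_mul],
    by rw [hy', hz, mul_right_comm, IsUnit.val_inv_mul, _root_.one_mul], ?_⟩
  refine hom_ext_pt fun R _ g j => ?_
  let φ : Γ(X.left, ⊤) →+* R := (j.left.appTop ≫ (Scheme.ΓSpecIso (CommRingCat.of R)).hom).hom
  have hgv : ∀ w : X ⟶ Red.Ga S, gv g (j ≫ w) = φ (Red.gaFn w) := fun w => by rw [gv_def, gaFn_comp]; rfl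
  have hgm : gmv g (j ≫ z) = φ (Red.gmFn z) := by rw [gmv, H21Rank1.gmFn_comp]; rfl
  have hK : φ (X.hom.appTop k) = κ R g := by
    have h := res_pt (B := R) g k
    rw [hk, Algebra.algebraMap_self_apply, ← appTop_hom_comp j] at h
    exact h
  let Z : Rˣ := Units.map φ.toMonoidHom hu.unit
  have hZ : (Z : R) = 1 + algebraMap R R (κ R g) * gv g (j ≫ x) * gv g (j ≫ y) := by
    rw [Algebra.algebraMap_self_apply, hgv, hgv, ← hK]
    change φ hu.unit.val = _
    rw [IsUnit.unit_spec, map_add, map_one, map_mul, map_mul]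
  have hmain := (hκ R g).1 R (gv g (j ≫ x)) (gv g (j ≫ y)) Z hZ
  have hu' : ∀ (b : D.idx) (w : X ⟶ Red.Ga S), j ≫ w ≫ D.u b = uPt g D b (gv g (j ≫ w)) := fun b w => by
    rw [uPt, ga_gv, Category.assoc]
  have hzt : j ≫ z ≫ (Red.DSmap S (D.P.coroot a).toAddMonoidHom ≫ D.split.inv.hom.hom) ≫ D.i =
      tPt g D (cor D Z a) := by
    rw [← Category.assoc j]
    refine coroot_pt D g a _ Z ?_
    rw [hgm, hz]
    exact congrArg φ hu.unit_spec.symm
  rw [MonObj.comp_mul, MonObj.comp_mul, MonObj.comp_mul, hu', hu', hu', hu', hzt, hgv x', hx', hgv y', hy', map_mul,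
    map_mul, ← hgv, ← hgv]
  exact hmain

end Groth.Agent.H21Split
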