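import Groth.Agent.H21Split.Sandwich
import Mathlib.RingTheory.AdjoinRoot

/-!
The rank one relation of a pair of opposite root groups over a test ring, from a word acting as the reflection.
-/

open CategoryTheory MonoidalCategory CartesianMonoidalCategory MonObj GrpObj AlgebraicGeometry

universe u

set_option backward.isDefEq.respectTransparency false
set_option linter.style.haveILetI false
set_option linter.unusedSectionVars false
set_option synthInstance.maxHeartbeats 400000

noncomputable section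

namespace Groth.Agent.H21Split

/-- a square root after an injective extension -/
theorem exists_sqrt {B : Type u} [CommRing B] (z : Bˣ) :
    ∃ (B' : Type u) (_ : CommRing B') (f : B →+* B') (w : B'ˣ), Function.Injective f ∧ (w : B') * w = f z := by
  rcases subsingleton_or_nontrivial B with hB | hB
  · exact ⟨B, inferInstance, RingHom.id B, 1, Function.injective_id, Subsingleton.elim _ _⟩
  let P : Polynomial B := Polynomial.X ^ 2 - Polynomial.C (z : B)
  have hP : P.Monic := Polynomial.monic_X_pow_sub_C _ two_ne_zero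
  have hroot : AdjoinRoot.root P * AdjoinRoot.root P = AdjoinRoot.of P (z : B) := by
    have h := AdjoinRoot.eval₂_root P
    simp only [P, Polynomial.eval₂_sub, Polynomial.eval₂_X_pow, Polynomial.eval₂_C, sub_eq_zero] at h
    rw [← pow_two]
    exact h
  have hu : IsUnit (AdjoinRoot.root P) :=
    isUnit_of_mul_isUnit_left (y := AdjoinRoot.root P) (hroot ▸ z.isUnit.map (AdjoinRoot.of P))
  refine ⟨AdjoinRoot P, inferInstance, AdjoinRoot.of P, hu.unit, ?_, hroot⟩
  refine (injective_iff_map_eq_zero _).mpr fun x hx => ?_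
  by_contra h
  rw [← AdjoinRoot.mk_C, AdjoinRoot.mk_eq_zero] at hx
  refine hP.not_dvd_of_degree_lt (Polynomial.C_ne_zero.mpr h) ?_ hx
  rw [Polynomial.degree_X_pow_sub_C (by norm_num), Polynomial.degree_C h]
  norm_num

/-- square roots of two units after an injective extension -/
theorem exists_sqrt₂ {R B : Type u} [CommRing R] [CommRing B] [Algebra R B] (z s : Bˣ) :
    ∃ (B' : Type u) (_ : CommRing B') (_ : Algebra R B') (f : B →ₐ[R] B') (w v : B'ˣ),
      Function.Injective f ∧ w * w = Units.map f z ∧ v * v = Units.map f s := by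
  obtain ⟨B₁, _, f₁, w, hf₁, hw'⟩ := exists_sqrt z
  obtain ⟨B₂, _, f₂, v, hf₂, hv⟩ := exists_sqrt (Units.map f₁.toMonoidHom s)
  letI : Algebra R B₂ := ((f₂.comp f₁).comp (algebraMap R B)).toAlgebra
  refine ⟨B₂, inferInstance, inferInstance, { toRingHom := f₂.comp f₁, commutes' := fun r => rfl },
    Units.map f₂.toMonoidHom w, v, hf₂.comp hf₁, ?_, Units.ext hv⟩
  refine Units.ext ?_
  change f₂ w * f₂ w = f₂ (f₁ z)
  rw [← map_mul, hw']

variable {S : Scheme.{u}} {R : Type u} [CommRing R] (g : Spec (CommRingCat.of R) ⟶ S)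
variable {B B' : Type u} [CommRing B] [Algebra R B] [CommRing B'] [Algebra R B']
variable {G : Over S} [GrpObj G] (D : Red.SplitRed G)

/-- the character of a coroot at a unit -/
def cor (z : Bˣ) (a : D.idx) : Multiplicative D.M →* B where
  toFun m := ((z ^ D.P.coroot a m.toAdd : Bˣ) : B)
  map_one' := by simp
  map_mul' m m' := by rw [toAdd_mul, map_add, zpow_add, Units.val_mul]

theorem cor_apply (z : Bˣ) (a : D.idx) (m : D.M) :
    cor D z a (Multiplicative.ofAdd m) = ((z ^ D.P.coroot a m : Bˣ) : B) := rfl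

theorem cor_mul (z z' : Bˣ) (a : D.idx) : cor D (z * z') a = cor D z a * cor D z' a := MonoidHom.ext fun m => by
  change ((((z * z') ^ D.P.coroot a m.toAdd : Bˣ)) : B) = (z ^ D.P.coroot a m.toAdd : Bˣ) * (z' ^ D.P.coroot a m.toAdd : Bˣ)
  rw [mul_zpow, Units.val_mul]

theorem cor_one (a : D.idx) : cor D (1 : Bˣ) a = 1 := MonoidHom.ext fun m => by
  change (((1 : Bˣ) ^ D.P.coroot a m.toAdd : Bˣ) : B) = 1
  rw [one_zpow, Units.val_one]

theorem cor_comp (f : B →ₐ[R] B') (z : Bˣ) (a : D.idx) :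
    f.toRingHom.toMonoidHom.comp (cor D z a) = cor D (Units.map f z) a := MonoidHom.ext fun m => by
  change f ((z ^ D.P.coroot a m.toAdd : Bˣ) : B) = ((Units.map (f : B →* B') z) ^ D.P.coroot a m.toAdd : B'ˣ)
  rw [← map_zpow]
  rfl

theorem cor_self (z : Bˣ) (a : D.idx) :
    cor D z a (Multiplicative.ofAdd (D.P.root a)) = ((z * z : Bˣ) : B) := by
  rw [cor_apply, coroot_apply, D.P.root_coroot'_eq_pairing, D.P.pairing_same]
  exact congrArg Units.val (zpow_two z)

theorem coroot_opp {d c : D.idx} (hdc : D.P.root d = -D.P.root c) : D.P.coroot d = -D.P.coroot c := by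
  have hd : d = D.P.reflectionPerm c c :=
    D.P.root.injective (by rw [hdc, D.P.root_reflectionPerm, D.P.reflection_apply_self])
  rw [hd, D.P.coroot_reflectionPerm, D.P.coreflection_apply_self]

theorem cor_opp {d c : D.idx} (hdc : D.P.root d = -D.P.root c) (z : Bˣ) :
    cor D z d (Multiplicative.ofAdd (D.P.root c)) = ((z * z)⁻¹ : Bˣ) := by
  rw [cor_apply, coroot_opp D hdc, LinearMap.neg_apply, coroot_apply, D.P.root_coroot'_eq_pairing, D.P.pairing_same,
    zpow_neg]
  exact congrArg (fun u : Bˣ => ((u⁻¹ : Bˣ) : B)) (zpow_two z)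

/-- a character twisted against its reflection is a coroot -/
theorem eq_cor_mul {d c : D.idx} (hdc : D.P.root d = -D.P.root c) (χ : Multiplicative D.M →* B) (z : Bˣ)
    (hz : χ (Multiplicative.ofAdd (D.P.root d)) = z) :
    χ = cor D z d * χ.comp (AddMonoidHom.toMultiplicative (sMap D c)) := by
  let U : Multiplicative D.M →* Bˣ := χ.toHomUnits
  refine MonoidHom.ext fun m => ?_
  obtain ⟨m, rfl⟩ := Multiplicative.ofAdd.surjective m
  have hsum : m = D.P.coroot d m • D.P.root d + sMap D c m := by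
    change m = D.P.coroot d m • D.P.root d + D.P.reflection c m
    rw [reflection_apply', coroot_opp D hdc, LinearMap.neg_apply, hdc, neg_smul, smul_neg, neg_neg,
      add_sub_cancel]
  conv_lhs => rw [hsum, ofAdd_add, map_mul]
  rw [MonoidHom.mul_apply, cor_apply, MonoidHom.comp_apply]
  congr 1
  have hU : U (Multiplicative.ofAdd (D.P.root d)) = z := Units.ext hz
  rw [← hU, ← map_zpow]
  rfl

theorem aeval_pair (k : R) (ξ ζ : B) :
    MvPolynomial.aeval ![ξ, ζ] (1 + MvPolynomial.C k * MvPolynomial.X 0 * MvPolynomial.X 1 : MvPolynomial (Fin 2) R) =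
      1 + algebraMap R B k * ξ * ζ := by
  simp only [map_add, map_mul, map_one, MvPolynomial.aeval_C, MvPolynomial.aeval_X, Matrix.cons_val_zero,
    Matrix.cons_val_one]

/-- the relation of a pair of root groups with a constant -/
def Dual (d c : D.idx) (k : R) : Prop :=
  ∀ (B : Type u) [CommRing B] [Algebra R B] (ξ ζ : B) (z : Bˣ), (z : B) = 1 + algebraMap R B k * ξ * ζ →
    uPt g D d ξ * uPt g D c ζ = uPt g D c (↑z⁻¹ * ζ) * tPt g D (cor D z d) * uPt g D d (↑z⁻¹ * ξ)

theorem ident_aux {H : Type*} [Group H] {U1 A T U2 W P C R' : H} (h : U1 * A * U2 = T * (P * C * R'))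
    (_hw : U1 * W * U1⁻¹ = W) (hT : T⁻¹ * U1 * T = W) : A * U2 = T * (W⁻¹ * P * C * R') := by
  calc A * U2 = U1⁻¹ * (U1 * A * U2) := by group
    _ = U1⁻¹ * (T * (P * C * R')) := by rw [h]
    _ = T * (W⁻¹ * P * C * R') := by rw [← hT]; group

theorem ident_aux2 {H : Type*} [Group H] {A U T U' C R' C' U'' : H} (h : A * U = T * (U' * C * R'))
    (hC : T⁻¹ * A * T = C') (hU : U * R'⁻¹ = U'') : U' * C = C' * T⁻¹ * U'' := by
  calc U' * C = T⁻¹ * (T * (U' * C * R')) * R'⁻¹ := by group
    _ = T⁻¹ * (A * U) * R'⁻¹ := by rw [h]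
    _ = _ := by rw [← hC, ← hU]; group

theorem ident_aux3 {H : Type*} [Group H] {T P Q R' sT : H} (hs : P * Q * R' * T * (P * Q * R')⁻¹ = sT) :
    (T * P * T⁻¹) * (T * Q * T⁻¹) * (T * R' * T⁻¹) = T * sT⁻¹ * (P * Q * R') := by
  rw [← hs]; group

variable [IsAffineHom G.hom]

/-- the identity of a reflecting word at a unit with a chosen square root, scaled by another square -/
theorem word_identity {d c : D.idx} (hdc : D.P.root d = -D.P.root c) {p q r : R}
    (hact : ActsBy g D c (uPt g D d p * uPt g D c q * uPt g D d r)) (w v : Bˣ) :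
    uPt g D d (((v * v : Bˣ) : B) * (1 - ↑(w * w)⁻¹) * algebraMap R B p) *
        uPt g D c ((↑(v * v)⁻¹ : B) * algebraMap R B q) =
      uPt g D c ((↑(v * v)⁻¹ : B) * ↑(w * w) * algebraMap R B q) * tPt g D (cor D (w * w)⁻¹ d) *
        uPt g D d (((v * v : Bˣ) : B) * (↑(w * w) - 1) * algebraMap R B r) := by
  have hN := hact B (cor D w d)
  simp only [MonObj.comp_mul, pmap_uPt, toBase, Algebra.ofId_apply] at hN
  have h0 := ident_aux3 hN
  have hcor := eq_cor_mul D hdc (cor D w d) (w * w) (cor_self D w d)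
  rw [tPt_conj, tPt_conj, tPt_conj, cor_self, cor_opp D hdc] at h0
  rw [show tPt g D (cor D w d) * (tPt g D ((cor D w d).comp (AddMonoidHom.toMultiplicative (sMap D c))))⁻¹ =
    tPt g D (cor D (w * w) d) from by rw [mul_inv_eq_iff_eq_mul, ← tPt_mul, ← hcor]] at h0
  set z : Bˣ := w * w with hz
  set P := algebraMap R B p
  set Q := algebraMap R B q
  set R' := algebraMap R B r
  have hTi : ∀ (a : D.idx) (b : B), (tPt g D (cor D z d))⁻¹ * uPt g D a b * tPt g D (cor D z d) =
      uPt g D a (cor D z⁻¹ d (Multiplicative.ofAdd (D.P.root a)) * b) := fun a b => by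
    have hi : tPt g D (cor D z⁻¹ d) = (tPt g D (cor D z d))⁻¹ :=
      grp_inv (by rw [← tPt_mul, ← cor_mul, inv_mul_cancel, cor_one, tPt_one])
    rw [← tPt_conj, hi, _root_.inv_inv]
  have h1 := ident_aux h0 (W := uPt g D d (↑z⁻¹ * P)) ?_ ?_
  rotate_left
  · rw [← uPt_add, ← uPt_neg, ← uPt_add]; congr 1; ring
  · rw [hTi, cor_self, ← _root_.mul_assoc, ← Units.val_mul]
    congr 3
    group
  rw [← uPt_neg, ← uPt_add] at h1
  have h2 := ident_aux2 (C' := uPt g D c ((z : B) * Q)) (U'' := uPt g D d (((z : B) - 1) * R')) h1 ?_ ?_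
  rotate_left
  · rw [hTi, cor_opp D hdc, ← _root_.mul_assoc, ← Units.val_mul]
    congr 3
    group
  · rw [← uPt_neg, ← uPt_add]; congr 1; ring
  rw [← grp_inv (a := tPt g D (cor D z⁻¹ d)) (by rw [← tPt_mul, ← cor_mul, inv_mul_cancel, cor_one, tPt_one])] at h2
  let χ : Multiplicative D.M →* B := cor D v d
  have h3 := congrArg (fun x => tPt g D χ * x * (tPt g D χ)⁻¹) h2
  simp only [← conj_mul3] at h3
  rw [tPt_conj, tPt_conj, tPt_conj, tPt_conj, (tPt_commute g D χ _).eq, mul_inv_cancel_right,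
    show χ (Multiplicative.ofAdd (D.P.root d)) = ((v * v : Bˣ) : B) from cor_self D v d,
    show χ (Multiplicative.ofAdd (D.P.root c)) = ((↑(v * v)⁻¹ : B)) from cor_opp D hdc v] at h3
  convert h3 using 1
  · rw [_root_.mul_assoc ((v * v : Bˣ) : B), show (1 - (↑z⁻¹ : B)) * P = -(↑z⁻¹ * P) + P by ring]
  · simp only [_root_.mul_assoc]

/-- the relation at a unit second coordinate -/
theorem dual_of_word_unit {d c : D.idx} (hdc : D.P.root d = -D.P.root c) {p r : R} (p' q : Rˣ) (hp : (p' : R) = p)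
    (hact : ActsBy g D c (uPt g D d p * uPt g D c (q : R) * uPt g D d r)) (ξ : B) (ζ : Bˣ) (z : Bˣ)
    (hz : (z : B) = 1 + algebraMap R B (-↑(p' * q)⁻¹) * ξ * (ζ : B)) :
    uPt g D d ξ * uPt g D c (ζ : B) =
      uPt g D c (↑z⁻¹ * (ζ : B)) * tPt g D (cor D z d) * uPt g D d (algebraMap R B (r * ↑p'⁻¹) * (↑z⁻¹ * ξ)) := by
  let qB : Bˣ := Units.map (algebraMap R B).toMonoidHom q
  let pB : Bˣ := Units.map (algebraMap R B).toMonoidHom p'
  obtain ⟨B', _, _, f, w, v, hf, hw, hv⟩ := exists_sqrt₂ (R := R) z⁻¹ (qB * ζ⁻¹)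
  refine ext_of_injective g f hf ?_
  simp only [MonObj.comp_mul, pmap_uPt, pmap_tPt, cor_comp]
  have h := word_identity g D hdc hact w v
  rw [hw, hv, ← map_inv, _root_.inv_inv, ← map_inv] at h
  simp only [Units.coe_map, MonoidHom.coe_coe] at h
  have hc : ∀ x : R, algebraMap R B' x = f (algebraMap R B x) := fun x => (f.commutes x).symm
  simp only [hc, ← map_mul, ← map_one f, ← map_sub] at h
  subst hp
  have hP : algebraMap R B (p' : R) = pB := rfl
  have hQ : algebraMap R B (q : R) = qB := rfl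
  have hk : algebraMap R B (-↑(p' * q)⁻¹) = -(↑pB⁻¹ * ↑qB⁻¹) := by
    rw [map_neg, _root_.mul_inv_rev, Units.val_mul, map_mul, mul_comm]; rfl
  rw [hk] at hz
  have e1 : ((qB * ζ⁻¹ : Bˣ) : B) * (1 - z) * pB = ξ := by
    rw [hz, Units.val_mul]
    linear_combination ξ * (↑ζ⁻¹ : B) * ζ * qB * ↑qB⁻¹ * pB.mul_inv + ξ * (↑ζ⁻¹ : B) * ζ * qB.mul_inv + ξ * ζ.inv_mul
  have e2 : ((qB * ζ⁻¹)⁻¹ : Bˣ) * (qB : B) = ζ := by
    rw [← Units.val_mul]
    congr 1
    rw [_root_.mul_inv_rev, _root_.inv_inv, inv_mul_cancel_right]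
  rw [hP, hQ] at h
  rw [e1, e2, mul_right_comm ((↑(qB * ζ⁻¹)⁻¹ : B)), e2, mul_comm (ζ : B)] at h
  rw [h]
  congr 3
  rw [map_mul, show algebraMap R B (↑p'⁻¹ : R) = ↑pB⁻¹ from rfl]
  have e3 : ((qB * ζ⁻¹ : Bˣ) : B) * ((↑z⁻¹ : B) - 1) = ↑pB⁻¹ * (↑z⁻¹ * ξ) := by
    have : ((qB * ζ⁻¹ : Bˣ) : B) * ((z⁻¹ : Bˣ) * (1 - (z : B))) = ↑pB⁻¹ * (↑z⁻¹ * ξ) := by
      linear_combination (↑pB⁻¹ * ↑z⁻¹ : B) * e1 - ((qB * ζ⁻¹ : Bˣ) : B) * ↑z⁻¹ * (1 - (z : B)) * pB.inv_mul
    rwa [mul_sub (↑z⁻¹ : B), _root_.mul_one, z.inv_mul] at this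
  rw [e3]
  ring

/-- the relation from a reflecting word with unit entries -/
theorem dual_of_word {d c : D.idx} (hdc : D.P.root d = -D.P.root c) {r : R} (p q : Rˣ)
    (hact : ActsBy g D c (uPt g D d (p : R) * uPt g D c (q : R) * uPt g D d r)) :
    Dual g D d c (-↑(p * q)⁻¹) := by
  set k : R := -↑(p * q)⁻¹ with hk
  set ρ : R := r * ↑p⁻¹ with hρ
  have gen : ∀ (B : Type u) [CommRing B] [Algebra R B] (ξ ζ : B) (z : Bˣ), (z : B) = 1 + algebraMap R B k * ξ * ζ →
      uPt g D d ξ * uPt g D c ζ =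
        uPt g D c (↑z⁻¹ * ζ) * tPt g D (cor D z d) * uPt g D d (algebraMap R B ρ * (↑z⁻¹ * ξ)) := by
    intro B _ _ ξ ζ z hz
    let P := MvPolynomial (Fin 2) R
    let s : P := 1 + MvPolynomial.C k * MvPolynomial.X 0 * MvPolynomial.X 1
    let A := Localization.Away s
    let zA : Aˣ := (IsLocalization.Away.algebraMap_isUnit (S := A) s).unit
    let X₁ : A := algebraMap P A (MvPolynomial.X 0)
    let Y₁ : A := algebraMap P A (MvPolynomial.X 1)
    let A' := Localization.Away Y₁
    have hC : ∀ x : R, algebraMap R A x = algebraMap P A (MvPolynomial.C x) := fun x =>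
      IsScalarTower.algebraMap_apply R P A x
    have hinj : Function.Injective (algebraMap A A') := by
      refine IsLocalization.injective (M := Submonoid.powers Y₁) A' (Submonoid.powers_le.mpr ?_)
      refine IsLocalization.map_nonZeroDivisors_le (Submonoid.powers s) A ⟨MvPolynomial.X 1, ?_, rfl⟩
      rw [SetLike.mem_coe, mem_nonZeroDivisors_iff_right]
      intro x hx
      refine MvPolynomial.ext _ _ fun m => ?_
      have := congrArg (fun t : P => t.coeff (m + Finsupp.single 1 1)) hx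
      rw [MvPolynomial.coeff_mul_X, MvPolynomial.coeff_zero] at this
      rw [this, MvPolynomial.coeff_zero]
    have hA : uPt g D d X₁ * uPt g D c Y₁ =
        uPt g D c (↑zA⁻¹ * Y₁) * tPt g D (cor D zA d) * uPt g D d (algebraMap R A ρ * (↑zA⁻¹ * X₁)) := by
      refine ext_of_injective g (IsScalarTower.toAlgHom R A A') hinj ?_
      simp only [MonObj.comp_mul, pmap_uPt, pmap_tPt, cor_comp, map_mul, IsScalarTower.coe_toAlgHom',
        ← IsScalarTower.algebraMap_apply R A A']
      have := dual_of_word_unit g D hdc p q rfl hact (algebraMap A A' X₁)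
        (IsLocalization.Away.algebraMap_isUnit (S := A') Y₁).unit (Units.map (algebraMap A A').toMonoidHom zA) ?_
      · exact this
      · change algebraMap A A' (algebraMap P A s) = _
        simp only [s, map_add, map_one, map_mul, ← hC, ← IsScalarTower.algebraMap_apply R A A']
        rfl
    let φ₀ : P →ₐ[R] B := MvPolynomial.aeval ![ξ, ζ]
    have hs : IsUnit (φ₀ s) := by
      refine ⟨z, ?_⟩
      rw [hz]
      exact (aeval_pair k ξ ζ).symm
    let φ : A →ₐ[R] B := IsLocalization.liftAlgHom (M := Submonoid.powers s) (f := φ₀) (fun y => by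
      obtain ⟨_, n, rfl⟩ := y
      change IsUnit (φ₀ (s ^ n))
      rw [map_pow]
      exact hs.pow n)
    have h1 : φ X₁ = ξ := by
      simp only [φ, X₁, IsLocalization.liftAlgHom, AlgHom.coe_mk, IsLocalization.lift_eq]
      exact (MvPolynomial.aeval_X (R := R) ![ξ, ζ] 0).trans rfl
    have h2 : φ Y₁ = ζ := by
      simp only [φ, Y₁, IsLocalization.liftAlgHom, AlgHom.coe_mk, IsLocalization.lift_eq]
      exact (MvPolynomial.aeval_X (R := R) ![ξ, ζ] 1).trans rfl
    have h3 : Units.map (φ : A →* B) zA = z := Units.ext (by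
      change φ (algebraMap P A s) = z
      rw [hz]
      simp only [φ, IsLocalization.liftAlgHom, AlgHom.coe_mk, IsLocalization.lift_eq]
      exact aeval_pair k ξ ζ)
    have h4 : φ (↑zA⁻¹ : A) = ↑z⁻¹ := by rw [← h3]; rfl
    have := congrArg (fun x => pmap g φ ≫ x) hA
    simp only [MonObj.comp_mul, pmap_uPt, pmap_tPt, cor_comp, map_mul, h1, h2, h3, h4, AlgHom.commutes] at this
    exact this
  have hρ1 : ρ = 1 := by
    have h := gen R 1 0 1 (by simp)
    simp only [uPt_zero, cor_one, tPt_one, inv_one, Units.val_one, _root_.one_mul, mul_zero, _root_.mul_one,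
      Algebra.algebraMap_self_apply] at h
    exact (uPt_injective g D d h).symm
  intro B _ _ ξ ζ z hz
  have := gen B ξ ζ z hz
  rwa [hρ1, map_one, _root_.one_mul] at this

/-- the pair of cell data of two opposite roots -/
theorem isCellData_pair [D.P.IsReduced] {d c : D.idx} (hdc : D.P.root d = -D.P.root c) : IsCellData D ![c] ![d] := by
  refine ⟨Function.injective_of_subsingleton _, Function.injective_of_subsingleton _, ?_, ?_,
    (D.P.coroot d).toAddMonoidHom, fun i => ?_, fun i => ?_⟩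
  · rw [Matrix.range_cons, Matrix.range_empty, Set.union_empty]; exact isPosSet_singleton D c (two_smul_notMem D c)
  · rw [Matrix.range_cons, Matrix.range_empty, Set.union_empty]; exact isPosSet_singleton D d (two_smul_notMem D d)
  · obtain rfl : i = 0 := Subsingleton.elim _ _
    change D.P.coroot d (D.P.root c) < 0
    rw [coroot_opp D hdc, LinearMap.neg_apply, coroot_apply, D.P.root_coroot'_eq_pairing, D.P.pairing_same]
    norm_num
  · obtain rfl : i = 0 := Subsingleton.elim _ _
    change 0 < D.P.coroot d (D.P.root d)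
    rw [coroot_apply, D.P.root_coroot'_eq_pairing, D.P.pairing_same]
    norm_num

theorem cellPt_pair {d c : D.idx} (x : B) (χ : Multiplicative D.M →* B) (y : B) :
    cellPt g D ![c] ![d] ![x] χ ![y] = uPt g D c x * (tPt g D χ * uPt g D d y) := by
  simp [cellPt, uProd]

/-- two letters do not act as a reflection over a nonzero ring -/
theorem not_actsBy_two [D.P.IsReduced] {d c : D.idx} (hdc : D.P.root d = -D.P.root c) {K : Type u} [CommRing K]
    [Algebra R K] [Nontrivial K] {N : pt g R ⟶ G} (α β : K)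
    (hN : pmap g (toBase R K) ≫ N = uPt g D c α * uPt g D d β) : ¬ ActsBy g D c N := by
  intro h
  let L := LaurentPolynomial K
  let φ : D.M →+ ℤ := (D.P.coroot c).toAddMonoidHom
  let χ : Multiplicative D.M →* L := cz K D φ
  let χ' : Multiplicative D.M →* L := χ.comp (AddMonoidHom.toMultiplicative (sMap D c))
  have h1 := h L χ
  rw [← comp_toBase (lconst R K), ← pmap_comp, Category.assoc, hN] at h1
  simp only [MonObj.comp_mul, pmap_uPt] at h1
  set a : L := LaurentPolynomial.C α
  set b : L := LaurentPolynomial.C β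
  obtain ⟨χi, hχi⟩ : ∃ χi, tPt g D χi = (tPt g D χ)⁻¹ := by
    obtain ⟨χi, h'⟩ := exists_tPt g D (ds g χ ≫ D.split.inv.hom.hom)⁻¹
    exact ⟨χi, h'.trans (by rw [GrpObj.inv_comp, tPt, Category.assoc])⟩
  have e1 : uPt g D c a * (tPt g D χ * uPt g D d (χi (Multiplicative.ofAdd (D.P.root d)) * b)) =
      uPt g D c (χ' (Multiplicative.ofAdd (D.P.root c)) * a) * (tPt g D χ' * uPt g D d b) := by
    rw [← tPt_conj g D χi, ← tPt_conj g D χ', hχi]
    have hh := mul_inv_eq_iff_eq_mul.mp h1
    calc _ = uPt g D c a * uPt g D d b * tPt g D χ := by group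
      _ = tPt g D χ' * (uPt g D c a * uPt g D d b) := hh
      _ = _ := by group
  rw [← cellPt_pair, ← cellPt_pair] at e1
  have e2 := DFunLike.congr_fun (cellPt_injective g D (isCellData_pair D hdc) e1).2.1 (Multiplicative.ofAdd (D.P.root c))
  change LaurentPolynomial.T (φ (D.P.root c)) = LaurentPolynomial.T (φ (D.P.reflection c (D.P.root c))) at e2
  rw [D.P.reflection_apply_self, map_neg, show φ (D.P.root c) = 2 by
    change D.P.coroot c (D.P.root c) = 2
    rw [coroot_apply, D.P.root_coroot'_eq_pairing, D.P.pairing_same]] at e2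
  have := congrArg (fun z : L => z.coeff 2) e2
  simp at this

end Groth.Agent.H21Split
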