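import Groth.Agent.H21Split.DualAt

/-!
Change of the test ring for the rank one relation, and uniqueness of its constant.
-/

open CategoryTheory MonoidalCategory CartesianMonoidalCategory MonObj GrpObj AlgebraicGeometry

universe u

set_option backward.isDefEq.respectTransparency false
set_option linter.style.haveILetI false
set_option linter.unusedSectionVars false
set_option synthInstance.maxHeartbeats 400000

noncomputable section

namespace Groth.Agent.H21Split

variable {S : Scheme.{u}} {R : Type u} [CommRing R] (g : Spec (CommRingCat.of R) ⟶ S)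
variable {R' : Type u} [CommRing R'] [Algebra R R']
variable {B : Type u} [CommRing B] [Algebra R B] [Algebra R' B] [IsScalarTower R R' B]
variable {G : Over S} [GrpObj G] (D : Red.SplitRed G)

theorem towerIso_ds {M : Type} [AddCommGroup M] (χ : Multiplicative M →* B) :
    (towerIso g R' B).hom ≫ ds g χ = ds (Spec.map (CommRingCat.ofHom (algebraMap R R')) ≫ g) χ := by
  refine H21Diag.bc_ext ?_
  rw [ds, ds, Over.comp_left]
  refine Eq.trans (congrArg (· ≫ _) (Category.id_comp _)) ?_
  exact (H21Diag.dpt_fst _ _).trans (H21Diag.dpt_fst _ _).symm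

theorem towerIso_tPt (χ : Multiplicative D.M →* B) :
    (towerIso g R' B).hom ≫ tPt g D χ = tPt (Spec.map (CommRingCat.ofHom (algebraMap R R')) ≫ g) D χ := by
  rw [tPt, tPt, ← Category.assoc, towerIso_ds]

theorem towerIso_uPt (a : D.idx) (b : B) :
    (towerIso g R' B).hom ≫ uPt g D a b = uPt (Spec.map (CommRingCat.ofHom (algebraMap R R')) ≫ g) D a b := by
  rw [uPt, uPt, ← Category.assoc, towerIso_ga]

theorem dual_eq_iff (d c : D.idx) (x y x' y' : B) (χ : Multiplicative D.M →* B) :
    uPt (Spec.map (CommRingCat.ofHom (algebraMap R R')) ≫ g) D d x *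
          uPt (Spec.map (CommRingCat.ofHom (algebraMap R R')) ≫ g) D c y =
        uPt (Spec.map (CommRingCat.ofHom (algebraMap R R')) ≫ g) D c y' *
            tPt (Spec.map (CommRingCat.ofHom (algebraMap R R')) ≫ g) D χ *
          uPt (Spec.map (CommRingCat.ofHom (algebraMap R R')) ≫ g) D d x' ↔
      uPt g D d x * uPt g D c y = uPt g D c y' * tPt g D χ * uPt g D d x' := by
  simp only [← towerIso_uPt, ← towerIso_tPt, ← MonObj.comp_mul]
  exact cancel_epi _

/-- the relation passes to a larger test ring -/
theorem Dual.map {d c : D.idx} {k : R} (h : Dual g D d c k) :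
    Dual (Spec.map (CommRingCat.ofHom (algebraMap R R')) ≫ g) D d c (algebraMap R R' k) := by
  intro B _ _ ξ ζ z hz
  letI : Algebra R B := ((algebraMap R' B).comp (algebraMap R R')).toAlgebra
  haveI : IsScalarTower R R' B := IsScalarTower.of_algebraMap_eq fun _ => rfl
  exact (dual_eq_iff g D d c ξ ζ _ _ _).mpr (h B ξ ζ z hz)

/-- a natural constant: the relation on a chart over another -/
theorem Dual.comp {R' : Type u} [CommRing R'] {d c : D.idx} {k : R} (f : R →+* R') (h : Dual g D d c k) :
    Dual (Spec.map (CommRingCat.ofHom f) ≫ g) D d c (f k) := by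
  letI := f.toAlgebra
  exact Dual.map g D (R' := R') h

/-- the constant is unique -/
theorem Dual.unique [IsAffineHom G.hom] [D.P.IsReduced] {d c : D.idx} (hdc : D.P.root d = -D.P.root c) {k k' : R}
    (h : Dual g D d c k) (h' : Dual g D d c k') : k = k' := by
  let B := DualNumber R
  let ε : B := TrivSqZeroExt.inr 1
  have hu : ∀ x : R, ∃ z : Bˣ, (z : B) = 1 + algebraMap R B x * ε * 1 := fun x =>
    ⟨⟨1 + TrivSqZeroExt.inr x, 1 - TrivSqZeroExt.inr x, by
        linear_combination -(TrivSqZeroExt.inr_mul_inr R x x),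
      by linear_combination -(TrivSqZeroExt.inr_mul_inr R x x)⟩, by ext <;> simp [ε, B, TrivSqZeroExt.algebraMap_eq_inl]⟩
  obtain ⟨z, hz⟩ := hu k
  obtain ⟨z', hz'⟩ := hu k'
  have e := (h B ε 1 z hz).symm.trans (h' B ε 1 z' hz')
  rw [_root_.mul_assoc, _root_.mul_assoc, ← cellPt_pair, ← cellPt_pair] at e
  have hzz : z = z' := by
    have := congrFun (cellPt_injective g D (isCellData_pair D hdc) e).1 0
    simp only [Matrix.cons_val_zero, _root_.mul_one] at this
    exact _root_.inv_inj.mp (Units.ext this)
  subst hzz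
  have := congrArg TrivSqZeroExt.snd (hz.symm.trans hz')
  simpa [ε, B, TrivSqZeroExt.algebraMap_eq_inl] using this

open scoped TensorProduct in
/-- the relation descends along faithfully flat extensions -/
theorem exists_dual_of_ff [IsAffineHom G.hom] [D.P.IsReduced] [Module.FaithfullyFlat R R'] {d c : D.idx}
    (hdc : D.P.root d = -D.P.root c) {k' : R'}
    (h : Dual (Spec.map (CommRingCat.ofHom (algebraMap R R')) ≫ g) D d c k') : ∃ k : R, Dual g D d c k := by
  let C := R' ⊗[R] R'
  let g₁ := Spec.map (CommRingCat.ofHom (algebraMap R R')) ≫ g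
  let il : R' →+* C := Algebra.TensorProduct.includeLeftRingHom
  let ir : R' →+* C := Algebra.TensorProduct.includeRight.toRingHom
  have e : Spec.map (CommRingCat.ofHom il) ≫ g₁ = Spec.map (CommRingCat.ofHom ir) ≫ g₁ := by
    simp only [g₁, ← Category.assoc, ← Spec.map_comp, ← CommRingCat.ofHom_comp]
    congr 3
    refine RingHom.ext fun r => ?_
    exact Algebra.TensorProduct.tmul_one_eq_one_tmul r
  have h1 := Dual.comp g₁ D il h
  have h2 := Dual.comp g₁ D ir h
  rw [e] at h1
  have hk := Dual.unique _ D hdc h1 h2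
  obtain ⟨k, rfl⟩ : k' ∈ Set.range (algebraMap R R') := by
    rw [← (Algebra.IsEffective.of_faithfullyFlat (R := R) (S := R')).eqLocus_includeLeft_includeRight]
    exact hk
  refine ⟨k, fun B _ _ ξ ζ z hz => ?_⟩
  let B' := B ⊗[R] R'
  let f : B →ₐ[R] B' := Algebra.TensorProduct.includeLeft
  letI : Algebra R' B' := Algebra.TensorProduct.includeRight.toRingHom.toAlgebra
  haveI : IsScalarTower R R' B' := IsScalarTower.of_algebraMap_eq fun r =>
    (Algebra.TensorProduct.includeRight (R := R) (A := B) (B := R')).commutes r |>.symm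
  refine ext_of_injective g f (fun x y hxy => Module.FaithfullyFlat.tensorProduct_mk_injective (A := R) (B := R') B
    (congrArg (TensorProduct.comm R B R') hxy)) ?_
  simp only [MonObj.comp_mul, pmap_uPt, pmap_tPt, cor_comp, map_mul]
  refine (dual_eq_iff g D d c (R' := R') (B := B') _ _ _ _ _).mp ?_
  have := h B' (f ξ) (f ζ) (Units.map f z) (by
    rw [← IsScalarTower.algebraMap_apply R R' B', Units.coe_map, MonoidHom.coe_coe, hz, map_add, map_one, map_mul,
      map_mul, AlgHom.commutes])
  exact this

end Groth.Agent.H21Split
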