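import Groth.Agent.H21Split.Extract

/-!
Equivariant points with polynomial values are ordered products of root monomials.
-/

open CategoryTheory MonoidalCategory CartesianMonoidalCategory MonObj GrpObj AlgebraicGeometry
open CategoryTheory.Limits
open TrivSqZeroExt (inl inr fst snd)
open MvPolynomial (idealOfVars)

universe u

set_option backward.isDefEq.respectTransparency false
set_option linter.style.haveILetI false
set_option synthInstance.maxHeartbeats 400000

noncomputable section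

namespace Groth.Agent.H21Split

section Prod

variable {H : Type*} [Monoid H]

theorem prod_ofFn_eq_single {n : ℕ} (f : Fin n → H) (k₀ : Fin n) (h : ∀ k, k ≠ k₀ → f k = 1) :
    (List.ofFn f).prod = f k₀ := by
  induction n with
  | zero => exact k₀.elim0
  | succ n ih =>
    rw [List.ofFn_succ, List.prod_cons]
    refine Fin.cases (motive := fun k₀ => (∀ k, k ≠ k₀ → f k = 1) → _ = f k₀) ?_ ?_ k₀ h
    · intro h
      rw [show (List.ofFn fun i : Fin n => f i.succ).prod = 1 from
        List.prod_eq_one fun x hx => by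
          obtain ⟨i, rfl⟩ := List.mem_ofFn.mp hx
          exact h _ (Fin.succ_ne_zero i), _root_.mul_one]
    · intro j h
      rw [h 0 (Fin.succ_ne_zero j).symm, _root_.one_mul]
      exact ih _ j fun k hk => h _ fun e => hk (Fin.succ_injective _ e)

theorem prod_ofFn_mul {n : ℕ} (f f' : Fin n → H) (h : ∀ i j, Commute (f' i) (f j)) :
    (List.ofFn fun k => f k * f' k).prod = (List.ofFn f).prod * (List.ofFn f').prod := by
  induction n with
  | zero => simp
  | succ n ih =>
    simp only [List.ofFn_succ, List.prod_cons]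
    rw [ih (fun k => f k.succ) (fun k => f' k.succ) fun i j => h _ _]
    have hc : Commute (f' 0) (List.ofFn fun k : Fin n => f k.succ).prod :=
      Commute.list_prod_right _ _ fun x hx => by
        obtain ⟨i, rfl⟩ := List.mem_ofFn.mp hx
        exact h _ _
    rw [_root_.mul_assoc, ← _root_.mul_assoc (f' 0), hc.eq]
    simp only [_root_.mul_assoc]

theorem map_prod_ofFn {H' : Type*} [Monoid H'] (F : H →* H') {n : ℕ} (f : Fin n → H) :
    F (List.ofFn f).prod = (List.ofFn fun k => F (f k)).prod := by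
  rw [map_list_prod, List.map_ofFn]
  rfl

end Prod

variable {S : Scheme.{u}} {R : Type u} [CommRing R] (g : Spec (CommRingCat.of R) ⟶ S)
variable {G : Over S} [GrpObj G]

/-- precomposition on points, as a homomorphism -/
def preHom {X Y : Over S} (f : Y ⟶ X) : (X ⟶ G) →* (Y ⟶ G) where
  toFun x := f ≫ x
  map_one' := MonObj.comp_one _
  map_mul' _ _ := MonObj.comp_mul _ _ _

theorem preHom_apply {X Y : Over S} (f : Y ⟶ X) (x : X ⟶ G) : preHom f x = f ≫ x := rfl

variable (D : Red.SplitRed G) {σ : Type}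

variable (R σ) in
/-- truncation of polynomials -/
def trunc (N : ℕ) : MvPolynomial σ R →ₐ[R] MvPolynomial σ R ⧸ idealOfVars σ R ^ N := Ideal.Quotient.mkₐ R _

/-- the product of root monomials -/
def monProd {n : ℕ} (e : Fin n → D.idx) (ν : Fin n → σ →₀ ℕ) (C : Fin n → R) :
    pt g (MvPolynomial σ R) ⟶ G :=
  (List.ofFn fun k => uPt g D (e k) (MvPolynomial.monomial (ν k) (C k))).prod

theorem pmap_monProd {B : Type u} [CommRing B] [Algebra R B] (f : MvPolynomial σ R →ₐ[R] B) {n : ℕ}
    (e : Fin n → D.idx) (ν : Fin n → σ →₀ ℕ) (C : Fin n → R) :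
    pmap g f ≫ monProd g D e ν C =
      (List.ofFn fun k => uPt g D (e k) (f (MvPolynomial.monomial (ν k) (C k)))).prod := by
  rw [monProd, ← preHom_apply, map_prod_ofFn]
  simp only [preHom_apply, pmap_uPt]

theorem isEquivariant_mul {w : σ → D.M} {φ ψ : pt g (MvPolynomial σ R) ⟶ G}
    (h : IsEquivariant g D w φ) (h' : IsEquivariant g D w ψ) : IsEquivariant g D w (φ * ψ) := by
  unfold IsEquivariant at *
  rw [MonObj.comp_mul, h, h', MonObj.comp_mul]
  group

theorem isEquivariant_inv {w : σ → D.M} {φ : pt g (MvPolynomial σ R) ⟶ G}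
    (h : IsEquivariant g D w φ) : IsEquivariant g D w φ⁻¹ := by
  unfold IsEquivariant at *
  rw [GrpObj.comp_inv, h, GrpObj.comp_inv]
  group

theorem isEquivariant_one {w : σ → D.M} : IsEquivariant g D w (1 : pt g (MvPolynomial σ R) ⟶ G) := by
  unfold IsEquivariant
  rw [MonObj.comp_one, MonObj.comp_one, _root_.mul_one, mul_inv_cancel]

theorem isEquivariant_monomial (w : σ → D.M) (a : D.idx) (ν : σ →₀ ℕ) (h : D.P.root a = wt D w ν) (r : R) :
    IsEquivariant g D w (uPt g D a (MvPolynomial.monomial ν r)) := by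
  unfold IsEquivariant
  rw [pmap_uPt, pmap_uPt, tPt_conj, scaleVar_monomial, constVar_monomial, h]
  congr 1
  simp [univPoly, MvPolynomial.C_mul_monomial, constMap_apply, MonoidAlgebra.single_mul_single]

theorem isEquivariant_monProd (w : σ → D.M) {n : ℕ} (e : Fin n → D.idx) (ν : Fin n → σ →₀ ℕ)
    (h : ∀ k, D.P.root (e k) = wt D w (ν k)) (C : Fin n → R) : IsEquivariant g D w (monProd g D e ν C) := by
  unfold monProd
  induction n with
  | zero => simpa using isEquivariant_one g D
  | succ n ih =>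
    rw [List.ofFn_succ, List.prod_cons]
    exact isEquivariant_mul g D (isEquivariant_monomial g D w _ _ (h 0) _)
      (ih (fun k => e k.succ) (fun k => ν k.succ) (fun k => h k.succ) fun k => C k.succ)

theorem monProd_zero {n : ℕ} (e : Fin n → D.idx) (ν : Fin n → σ →₀ ℕ) :
    monProd g D e ν (fun _ => (0 : R)) = 1 :=
  List.prod_eq_one fun x hx => by
    obtain ⟨k, rfl⟩ := List.mem_ofFn.mp hx
    rw [map_zero, uPt_zero]

variable [IsAffineHom G.hom]

theorem dev_mem_of_pmap_eq_one {B : Type u} [CommRing B] [Algebra R B] (I : Ideal B) {φ : pt g B ⟶ G}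
    (h : pmap g (Ideal.Quotient.mkₐ R I) ≫ φ = 1) (a : Crd g G) : dev g φ a ∈ I := by
  have := dev_pmap g (Ideal.Quotient.mkₐ R I) φ a
  rw [h, dev_one] at this
  exact Ideal.Quotient.eq_zero_iff_mem.mp this.symm

theorem pmap_eq_one_of_dev_mem {B : Type u} [CommRing B] [Algebra R B] (I : Ideal B) {φ : pt g B ⟶ G}
    (h : ∀ a, dev g φ a ∈ I) : pmap g (Ideal.Quotient.mkₐ R I) ≫ φ = 1 :=
  eq_one_of_dev_eq_zero g (LinearMap.ext fun a => by
    rw [dev_pmap]
    exact Ideal.Quotient.eq_zero_iff_mem.mpr (h a))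

theorem dev_uPt_mem {B : Type u} [CommRing B] [Algebra R B] (I : Ideal B) (a : D.idx) {b : B} (hb : b ∈ I)
    (x : Crd g G) : dev g (uPt g D a b) x ∈ I := by
  refine dev_mem_of_pmap_eq_one g I ?_ x
  rw [pmap_uPt, Ideal.Quotient.mkₐ_eq_mk, Ideal.Quotient.eq_zero_iff_mem.mpr hb, uPt_zero]

theorem commute_of_mul_eq_bot {B : Type u} [CommRing B] [Algebra R B] (I J : Ideal B) (hIJ : I * J = ⊥)
    {φ ψ : pt g B ⟶ G} (hφ : ∀ a, dev g φ a ∈ I) (hψ : ∀ a, dev g ψ a ∈ J) : Commute φ ψ := by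
  refine dev_injective g ?_
  rw [dev_mul_of_mul_eq_bot g I J hIJ φ ψ hφ hψ,
    dev_mul_of_mul_eq_bot g J I (by rwa [mul_comm]) ψ φ hψ hφ, add_comm]

/-- agreement below `N` is preserved by adding coefficients of degree at least `N` -/
theorem pmap_monProd_add {n : ℕ} (e : Fin n → D.idx) (ν : Fin n → σ →₀ ℕ) (hν : ∀ k, ν k ≠ 0)
    (C d : Fin n → R) (N : ℕ) (hd : ∀ k, N ≤ (ν k).degree ∨ d k = 0) :
    pmap g (trunc R σ (N + 1)) ≫ monProd g D e ν (C + d) =
      (pmap g (trunc R σ (N + 1)) ≫ monProd g D e ν C) * (pmap g (trunc R σ (N + 1)) ≫ monProd g D e ν d) := by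
  classical
  rw [pmap_monProd, pmap_monProd, pmap_monProd, ← prod_ofFn_mul]
  · simp only [Pi.add_apply, map_add, uPt_add]
  · intro i j
    refine commute_of_mul_eq_bot g ((idealOfVars σ R ^ N).map (trunc R σ (N + 1)))
      ((idealOfVars σ R ^ 1).map (trunc R σ (N + 1))) ?_ ?_ ?_
    · rw [← Ideal.map_mul, ← pow_add]
      exact Ideal.map_quotient_self _
    · refine dev_uPt_mem g D _ _ (Ideal.mem_map_of_mem _ ?_)
      refine (MvPolynomial.mem_pow_idealOfVars_iff' N _).mpr fun x hx => ?_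
      rw [MvPolynomial.coeff_monomial]
      split_ifs with h
      · subst h
        exact (hd i).resolve_left (by omega)
      · rfl
    · refine dev_uPt_mem g D _ _ (Ideal.mem_map_of_mem _ ?_)
      refine (MvPolynomial.mem_pow_idealOfVars_iff' 1 _).mpr fun x hx => ?_
      rw [MvPolynomial.coeff_monomial]
      split_ifs with h
      · subst h
        exact absurd (Finsupp.degree_eq_zero_iff _ |>.mp (by omega)) (hν j)
      · rfl

/-- a component of a product of monomials of degree at least `N` -/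
theorem isComponent_monProd {N : ℕ} {μ' : σ →₀ ℕ} (hμ : μ'.degree = N) (hN : 0 < N) {n : ℕ}
    (e : Fin n → D.idx) (ν : Fin n → σ →₀ ℕ) (hν : ∀ k, ν k ≠ 0) (d : Fin n → R)
    (hd : ∀ k, N ≤ (ν k).degree ∨ d k = 0) :
    IsComponent g μ' hμ hN (monProd g D e ν d)
      (List.ofFn fun k => uPt g D (e k)
        (inr ((MvPolynomial.monomial (ν k) (d k)).coeff μ') : DualNumber R)).prod := by
  classical
  refine ⟨(List.ofFn fun k => uPt g D (e k)
    (⟨MvPolynomial.monomial (ν k) (d k), monomial_mem_lowGap _ _ (hd k)⟩ : lowGap R σ R N)).prod, ?_, ?_⟩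
  · rw [monProd, ← preHom_apply, map_prod_ofFn]
    simp only [preHom_apply, pmap_uPt]
    rfl
  · rw [← preHom_apply, map_prod_ofFn]
    simp only [preHom_apply, pmap_uPt]
    congr
    funext k
    congr 1
    refine TrivSqZeroExt.ext ?_ ?_
    · rw [fst_extract, TrivSqZeroExt.fst_inr]
      change (MvPolynomial.monomial (ν k) (d k)).coeff 0 = 0
      rw [MvPolynomial.coeff_monomial, if_neg (hν k)]
    · rw [snd_extract, TrivSqZeroExt.snd_inr]

theorem dev_monProd_mem {N : ℕ} {n : ℕ} (e : Fin n → D.idx) (ν : Fin n → σ →₀ ℕ) (d : Fin n → R)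
    (hd : ∀ k, N ≤ (ν k).degree ∨ d k = 0) (a : Crd g G) :
    dev g (monProd g D e ν d) a ∈ idealOfVars σ R ^ N := by
  classical
  refine dev_mem_of_pmap_eq_one g _ ?_ a
  rw [pmap_monProd]
  refine List.prod_eq_one fun x hx => ?_
  obtain ⟨k, rfl⟩ := List.mem_ofFn.mp hx
  rw [Ideal.Quotient.mkₐ_eq_mk, Ideal.Quotient.eq_zero_iff_mem.mpr, uPt_zero]
  refine (MvPolynomial.mem_pow_idealOfVars_iff' N _).mpr fun x hx => ?_
  rw [MvPolynomial.coeff_monomial]
  split_ifs with h
  · subst h
    exact (hd k).resolve_left (by omega)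
  · rfl

/-- two points trivial below `N` with the same components of degree `N` agree below `N + 1` -/
theorem trunc_eq_of_components {N : ℕ} (hN : 0 < N) {φ ψ : pt g (MvPolynomial σ R) ⟶ G}
    (hφ : ∀ a, dev g φ a ∈ idealOfVars σ R ^ N) (hψ : ∀ a, dev g ψ a ∈ idealOfVars σ R ^ N)
    (h : ∀ (ν : σ →₀ ℕ) (hν : ν.degree = N), ∃ χ, IsComponent g ν hν hN φ χ ∧ IsComponent g ν hν hN ψ χ) :
    pmap g (trunc R σ (N + 1)) ≫ φ = pmap g (trunc R σ (N + 1)) ≫ ψ := by
  refine dev_injective g (LinearMap.ext fun a => ?_)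
  rw [dev_pmap, dev_pmap]
  refine Ideal.Quotient.eq.mpr ((MvPolynomial.mem_pow_idealOfVars_iff' (N + 1) _).mpr fun x hx => ?_)
  rw [MvPolynomial.coeff_sub, sub_eq_zero]
  rcases Nat.lt_or_ge x.degree N with h1 | h1
  · rw [(MvPolynomial.mem_pow_idealOfVars_iff' N _).mp (hφ a) x h1,
      (MvPolynomial.mem_pow_idealOfVars_iff' N _).mp (hψ a) x h1]
  · obtain ⟨χ, hc, hc'⟩ := h x (by omega)
    rw [← (lieDev_component g hc hφ).2 a, ← (lieDev_component g hc' hψ).2 a]

variable (w : σ → D.M) {n : ℕ} (e : Fin n → D.idx) (ν : Fin n → σ →₀ ℕ)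

/-- one step of the successive approximation -/
theorem exists_step [DecidableEq σ] (Z : Set σ) (hν : ∀ k, ν k ≠ 0) (hek : ∀ k, D.P.root (e k) = wt D w (ν k))
    (hinj : Function.Injective fun k => (e k, ν k))
    (hzero : ∀ μ' : σ →₀ ℕ, μ' ≠ 0 → (∀ i ∈ Z, μ' i ≠ 0) → wt D w μ' ≠ 0)
    (hall : ∀ (a : D.idx) (μ' : σ →₀ ℕ), μ' ≠ 0 → (∀ i ∈ Z, μ' i ≠ 0) → D.P.root a = wt D w μ' →
      ∃ k, e k = a ∧ ν k = μ')
    {N : ℕ} (hN : 0 < N) {ρ : pt g (MvPolynomial σ R) ⟶ G} (he : IsEquivariant g D w ρ)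
    (hkill : ∀ i ∈ Z, pmap g (kill R i) ≫ ρ = 1) (hρ : ∀ a, dev g ρ a ∈ idealOfVars σ R ^ N) :
    ∃ d : Fin n → R, (∀ k, (ν k).degree ≠ N → d k = 0) ∧
      pmap g (trunc R σ (N + 1)) ≫ ρ = pmap g (trunc R σ (N + 1)) ≫ monProd g D e ν d := by
  classical
  obtain ⟨ρH, hρH⟩ := exists_lowGap_point g hρ
  let χ : ∀ (μ' : σ →₀ ℕ), μ'.degree = N → (pt g (DualNumber R) ⟶ G) := fun μ' h =>
    pmap g (extract R R μ' h hN) ≫ ρH
  have hc : ∀ μ' h, IsComponent g μ' h hN ρ (χ μ' h) := fun μ' h => ⟨ρH, hρH, rfl⟩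
  have hne : ∀ μ' : σ →₀ ℕ, μ'.degree = N → μ' ≠ 0 := fun μ' h h0 => by
    rw [h0, map_zero] at h; omega
  have hbad : ∀ μ' (h : μ'.degree = N) (i : σ), i ∈ Z → μ' i = 0 → χ μ' h = 1 := fun μ' h i hi h0 => by
    have hl := lieDev_component g (hc μ' h) hρ
    refine eq_of_lieDev hl.1 isLie_one (LinearMap.ext fun a => ?_)
    have h1 := congrArg (fun z => dev g z a) (hkill i hi)
    simp only [dev_pmap, dev_one, LinearMap.zero_apply] at h1
    have h2 := congrArg (fun p : MvPolynomial σ R => p.coeff μ') h1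
    rw [coeff_kill, if_pos h0, MvPolynomial.coeff_zero] at h2
    rw [hl.2, lieDev_one, LinearMap.zero_apply, h2]
  have hw' : ∀ μ' (h : μ'.degree = N), (∀ i ∈ Z, μ' i ≠ 0) → (wt D w μ' ∉ Set.range D.P.root → χ μ' h = 1) ∧
      ∀ a, D.P.root a = wt D w μ' → ∃ c : R, χ μ' h = uPt g D a (inr c : DualNumber R) := fun μ' h hz =>
    eq_of_weight g D (lieDev_component g (hc μ' h) hρ).1 _ (hzero μ' (hne μ' h) hz)
      (component_weight g D w (hc μ' h) he)
  have hch : ∀ k (h : (ν k).degree = N), ∃ c : R, χ (ν k) h = uPt g D (e k) (inr c : DualNumber R) :=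
    fun k h => by
      by_cases hz : ∀ i ∈ Z, ν k i ≠ 0
      · exact (hw' _ h hz).2 _ (hek k)
      · push Not at hz
        obtain ⟨i, hi, h0⟩ := hz
        exact ⟨0, by rw [hbad _ h i hi h0, TrivSqZeroExt.inr_zero, uPt_zero]⟩
  choose c hc' using hch
  let d : Fin n → R := fun k => if h : (ν k).degree = N then c k h else 0
  have hd0 : ∀ k, (ν k).degree ≠ N → d k = 0 := fun k hk => dif_neg hk
  have hd : ∀ k, N ≤ (ν k).degree ∨ d k = 0 := fun k => by
    by_cases h : (ν k).degree = N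
    · exact Or.inl h.ge
    · exact Or.inr (hd0 k h)
  refine ⟨d, hd0, trunc_eq_of_components g hN hρ (dev_monProd_mem g D e ν d hd) fun μ' hμ => ⟨_, hc μ' hμ, ?_⟩⟩
  have h2 := isComponent_monProd g D hμ hN e ν hν d hd
  suffices χ μ' hμ = _ by rw [this]; exact h2
  by_cases hr : wt D w μ' ∈ Set.range D.P.root
  · obtain ⟨a, ha⟩ := hr
    by_cases hex : ∃ k₀, e k₀ = a ∧ ν k₀ = μ'
    rotate_left
    · have h1 : χ μ' hμ = 1 := by
        by_cases hz : ∀ i ∈ Z, μ' i ≠ 0
        · exact absurd (hall a μ' (hne μ' hμ) hz ha) hex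
        · push Not at hz
          obtain ⟨i, hi, h0⟩ := hz
          exact hbad _ hμ i hi h0
      rw [h1, List.prod_eq_one]
      intro x hx
      obtain ⟨k, rfl⟩ := List.mem_ofFn.mp hx
      rw [MvPolynomial.coeff_monomial, if_neg, TrivSqZeroExt.inr_zero, uPt_zero]
      exact fun hkm => hex ⟨k, D.P.root.injective (by rw [hek, hkm, ← ha]), hkm⟩
    obtain ⟨k₀, hka, hkν⟩ := hex
    rw [prod_ofFn_eq_single _ k₀]
    · subst hkν
      rw [hc' k₀ hμ, MvPolynomial.coeff_monomial, if_pos rfl]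
      simp [d, hμ]
    · intro k hk
      rw [MvPolynomial.coeff_monomial, if_neg, TrivSqZeroExt.inr_zero, uPt_zero]
      intro hkm
      refine hk (hinj ?_)
      show (e k, ν k) = (e k₀, ν k₀)
      refine Prod.ext (D.P.root.injective ?_) (hkm.trans hkν.symm)
      show D.P.root (e k) = D.P.root (e k₀)
      rw [hek, hka, ha, hkm]
  · have h1 : χ μ' hμ = 1 := by
      by_cases hz : ∀ i ∈ Z, μ' i ≠ 0
      · exact (hw' μ' hμ hz).1 hr
      · push Not at hz
        obtain ⟨i, hi, h0⟩ := hz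
        exact hbad _ hμ i hi h0
    rw [h1, List.prod_eq_one]
    intro x hx
    obtain ⟨k, rfl⟩ := List.mem_ofFn.mp hx
    rw [MvPolynomial.coeff_monomial, if_neg, TrivSqZeroExt.inr_zero, uPt_zero]
    exact fun hkm => hr ⟨e k, by rw [hek, hkm]⟩

/-- an equivariant point with trivial constant term is a product of root monomials -/
theorem exists_eq_monProd [DecidableEq σ] (Z : Set σ) (hZ : ∀ k, ∀ i ∈ Z, ν k i ≠ 0) (hν : ∀ k, ν k ≠ 0) (hek : ∀ k, D.P.root (e k) = wt D w (ν k))
    (hinj : Function.Injective fun k => (e k, ν k))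
    (hzero : ∀ μ' : σ →₀ ℕ, μ' ≠ 0 → (∀ i ∈ Z, μ' i ≠ 0) → wt D w μ' ≠ 0)
    (hall : ∀ (a : D.idx) (μ' : σ →₀ ℕ), μ' ≠ 0 → (∀ i ∈ Z, μ' i ≠ 0) → D.P.root a = wt D w μ' →
      ∃ k, e k = a ∧ ν k = μ')
    {φ : pt g (MvPolynomial σ R) ⟶ G} (he : IsEquivariant g D w φ)
    (hkill : ∀ i ∈ Z, pmap g (kill R i) ≫ φ = 1)
    (h0 : ∀ a, dev g φ a ∈ idealOfVars σ R ^ 1) : ∃ C : Fin n → R, φ = monProd g D e ν C := by
  classical
  have hkill' : ∀ C : Fin n → R, ∀ i ∈ Z, pmap g (kill R i) ≫ ((monProd g D e ν C)⁻¹ * φ) = 1 := fun C i hi => by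
    rw [MonObj.comp_mul, GrpObj.comp_inv, hkill i hi, _root_.mul_one, inv_eq_one, pmap_monProd]
    refine List.prod_eq_one fun x hx => ?_
    obtain ⟨k, rfl⟩ := List.mem_ofFn.mp hx
    rw [show kill R i (MvPolynomial.monomial (ν k) (C k)) = 0 from MvPolynomial.ext _ _ fun x => by
      rw [coeff_kill, MvPolynomial.coeff_monomial, MvPolynomial.coeff_zero]
      split_ifs with h1 h2
      · exact absurd (h2 ▸ h1) (hZ k i hi)
      · rfl
      · rfl, uPt_zero]
  have step : ∀ N, ∃ C : Fin n → R, (∀ k, N < (ν k).degree → C k = 0) ∧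
      pmap g (trunc R σ (N + 1)) ≫ φ = pmap g (trunc R σ (N + 1)) ≫ monProd g D e ν C := by
    intro N
    induction N with
    | zero =>
      refine ⟨fun _ => 0, fun _ _ => rfl, ?_⟩
      rw [monProd_zero, MonObj.comp_one]
      exact pmap_eq_one_of_dev_mem g _ h0
    | succ N ih =>
      obtain ⟨C, hC, hCe⟩ := ih
      have hρ : ∀ a, dev g ((monProd g D e ν C)⁻¹ * φ) a ∈ idealOfVars σ R ^ (N + 1) := by
        refine dev_mem_of_pmap_eq_one g _ ?_
        rw [MonObj.comp_mul, GrpObj.comp_inv]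
        exact inv_mul_eq_one.mpr hCe.symm
      obtain ⟨d, hd, hde⟩ := exists_step g D w e ν Z hν hek hinj hzero hall (Nat.succ_pos N)
        (isEquivariant_mul g D (isEquivariant_inv g D (isEquivariant_monProd g D w e ν hek C)) he) (hkill' C) hρ
      refine ⟨C + d, fun k hk => ?_, ?_⟩
      · rw [Pi.add_apply, hC k (by omega), hd k (by omega), add_zero]
      · rw [pmap_monProd_add g D e ν hν C d (N + 1) fun k => ?_]
        · rw [← hde, ← MonObj.comp_mul, mul_inv_cancel_left]
        · by_cases h : (ν k).degree = N + 1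
          · exact Or.inl h.ge
          · exact Or.inr (hd k h)
  let N₀ := Finset.univ.sup fun k => (ν k).degree
  have hle : ∀ k, (ν k).degree ≤ N₀ := fun k => Finset.le_sup (f := fun k => (ν k).degree) (Finset.mem_univ k)
  obtain ⟨C, hC, hCe⟩ := step N₀
  refine ⟨C, ?_⟩
  have hall' : ∀ N, ∀ a, dev g ((monProd g D e ν C)⁻¹ * φ) a ∈ idealOfVars σ R ^ (N₀ + 1 + N) := by
    intro N
    induction N with
    | zero =>
      refine dev_mem_of_pmap_eq_one g _ ?_
      rw [MonObj.comp_mul, GrpObj.comp_inv]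
      exact inv_mul_eq_one.mpr hCe.symm
    | succ N ih =>
      obtain ⟨d, hd, hde⟩ := exists_step g D w e ν Z hν hek hinj hzero hall (Nat.succ_pos _)
        (isEquivariant_mul g D (isEquivariant_inv g D (isEquivariant_monProd g D w e ν hek C)) he) (hkill' C)
        (show ∀ a, _ ∈ idealOfVars σ R ^ (N₀ + N).succ from fun a => by
          have := ih a
          rwa [show N₀ + 1 + N = (N₀ + N).succ by omega] at this)
      have hd0 : d = fun _ => 0 := funext fun k => hd k (by have := hle k; omega)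
      rw [hd0, monProd_zero, MonObj.comp_one] at hde
      refine fun a => ?_
      have := dev_mem_of_pmap_eq_one g _ hde a
      rwa [show (N₀ + N).succ + 1 = N₀ + 1 + (N + 1) by omega] at this
  refine (inv_mul_eq_one.mp (eq_one_of_dev_eq_zero g (LinearMap.ext fun a => ?_))).symm
  rw [LinearMap.zero_apply]
  ext x
  rw [MvPolynomial.coeff_zero]
  exact (MvPolynomial.mem_pow_idealOfVars_iff' _ _).mp (hall' x.degree a) x (by omega)

/-- the coefficients of a product of root monomials are unique -/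
theorem monProd_injective (hν : ∀ k, ν k ≠ 0) (hek : ∀ k, D.P.root (e k) = wt D w (ν k))
    (hinj : Function.Injective fun k => (e k, ν k)) {C C' : Fin n → R}
    (h : monProd g D e ν C = monProd g D e ν C') : C = C' := by
  classical
  have key : ∀ N, ∀ k, (ν k).degree < N → C k = C' k := by
    intro N
    induction N with
    | zero => intro k hk; omega
    | succ N ih =>
      intro k₀ hk₀
      rcases Nat.lt_or_ge (ν k₀).degree N with h1 | h1
      · exact ih k₀ h1
      have hN : 0 < N := by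
        rcases Nat.eq_zero_or_pos N with rfl | h2
        · exact absurd ((Finsupp.degree_eq_zero_iff _).mp (by omega)) (hν k₀)
        · exact h2
      have hμ : (ν k₀).degree = N := by omega
      have hd : ∀ k, N ≤ (ν k).degree ∨ (C' - C) k = 0 := fun k => by
        rcases Nat.lt_or_ge (ν k).degree N with h2 | h2
        · exact Or.inr (by rw [Pi.sub_apply, ih k h2, sub_self])
        · exact Or.inl h2
      have hadd := pmap_monProd_add g D e ν hν C (C' - C) N hd
      rw [add_sub_cancel, ← h, left_eq_mul] at hadd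
      have hm := dev_mem_of_pmap_eq_one g _ hadd
      have hc := isComponent_monProd g D hμ hN e ν hν (C' - C) hd
      have hx : ((List.ofFn fun k => uPt g D (e k)
          (inr ((MvPolynomial.monomial (ν k) ((C' - C) k)).coeff (ν k₀)) : DualNumber R)).prod) = 1 := by
        have hl := lieDev_component g hc (dev_monProd_mem g D e ν _ hd)
        refine eq_of_lieDev hl.1 isLie_one (LinearMap.ext fun a => ?_)
        rw [hl.2, lieDev_one, LinearMap.zero_apply]
        exact (MvPolynomial.mem_pow_idealOfVars_iff' _ _).mp (hm a) _ (by omega)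
      rw [prod_ofFn_eq_single _ k₀ fun k hk => ?_] at hx
      · rw [MvPolynomial.coeff_monomial, if_pos rfl] at hx
        have := uPt_injective g D _ (hx.trans (uPt_zero g D _).symm)
        have h3 := congrArg TrivSqZeroExt.snd this
        rw [TrivSqZeroExt.snd_inr, TrivSqZeroExt.snd_zero, Pi.sub_apply, sub_eq_zero] at h3
        exact h3.symm
      · rw [MvPolynomial.coeff_monomial, if_neg, TrivSqZeroExt.inr_zero, uPt_zero]
        intro hkm
        refine hk (hinj ?_)
        show (e k, ν k) = (e k₀, ν k₀)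
        refine Prod.ext (D.P.root.injective ?_) hkm
        show D.P.root (e k) = D.P.root (e k₀)
        rw [hek, hek, hkm]
  exact funext fun k => key _ k (Nat.lt_succ_self _)

end Groth.Agent.H21Split
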