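import Groth.Agent.H21Split.Basis
import Mathlib.RingTheory.MvPolynomial.Ideal

/-!
Homogeneous components of points with polynomial values, and their weights.
-/

open CategoryTheory MonoidalCategory CartesianMonoidalCategory MonObj GrpObj AlgebraicGeometry
open CategoryTheory.Limits
open TrivSqZeroExt (inl inr fst snd)
open MvPolynomial (idealOfVars)

universe u

set_option backward.isDefEq.respectTransparency false
set_option linter.style.haveILetI false
set_option synthInstance.maxHeartbeats 400000

noncomputable section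

namespace Groth.Agent.H21Split

section Ring

variable (R : Type u) [CommRing R] (σ : Type) (C : Type u) [CommRing C] [Algebra R C] (N : ℕ)

/-- polynomials without terms of positive degree below `N` -/
def lowGap : Subalgebra R (MvPolynomial σ C) where
  carrier := {p | ∀ d : σ →₀ ℕ, d ≠ 0 → d.degree < N → p.coeff d = 0}
  mul_mem' {p q} hp hq d hd hN := by
    classical
    rw [MvPolynomial.coeff_mul]
    refine Finset.sum_eq_zero fun x hx => ?_
    rw [Finset.HasAntidiagonal.mem_antidiagonal] at hx
    by_cases h1 : x.1 = 0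
    · have : x.2 = d := by rw [← hx, h1, zero_add]
      rw [this, hq d hd hN, mul_zero]
    · rw [hp x.1 h1 ?_, zero_mul]
      have : x.1.degree + x.2.degree = d.degree := by rw [← hx, map_add]
      omega
  add_mem' {p q} hp hq d hd hN := by rw [MvPolynomial.coeff_add, hp d hd hN, hq d hd hN, add_zero]
  algebraMap_mem' r d hd _ := by
    classical
    rw [IsScalarTower.algebraMap_apply R C (MvPolynomial σ C), MvPolynomial.algebraMap_eq,
      MvPolynomial.coeff_C, if_neg (Ne.symm hd)]

variable {R σ C N}

theorem coeff_mul_lowGap (ν : σ →₀ ℕ) (hν : ν.degree = N) (hN : 0 < N) {p q : MvPolynomial σ C}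
    (hp : p ∈ lowGap R σ C N) (hq : q ∈ lowGap R σ C N) :
    (p * q).coeff ν = p.coeff 0 * q.coeff ν + p.coeff ν * q.coeff 0 := by
  classical
  have hν0 : ν ≠ 0 := fun h => by
    rw [h, map_zero] at hν; omega
  rw [MvPolynomial.coeff_mul, Finset.sum_eq_add ((0 : σ →₀ ℕ), ν) (ν, (0 : σ →₀ ℕ))]
  · intro h; exact hν0 (congrArg Prod.fst h).symm
  · intro x hx hne
    rw [Finset.HasAntidiagonal.mem_antidiagonal] at hx
    by_cases h1 : x.1 = 0
    · refine absurd (Prod.ext h1 ?_) hne.1
      rw [← hx, h1, zero_add]
    · by_cases h2 : x.2 = 0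
      · refine absurd (Prod.ext ?_ h2) hne.2
        rw [← hx, h2, add_zero]
      · have hd : x.1.degree + x.2.degree = N := by rw [← hν, ← hx, map_add]
        have h3 : x.2.degree ≠ 0 := by
          rw [Ne, Finsupp.degree_eq_zero_iff]; exact h2
        rw [hp x.1 h1 (by omega), zero_mul]
  · intro h
    exact absurd (by simp [Finset.HasAntidiagonal.mem_antidiagonal]) h
  · intro h
    exact absurd (by simp [Finset.HasAntidiagonal.mem_antidiagonal]) h

variable (R C)

/-- the constant term and one coefficient of degree `N` -/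
def extract (ν : σ →₀ ℕ) (hν : ν.degree = N) (hN : 0 < N) : lowGap R σ C N →ₐ[R] DualNumber C where
  toFun p := inl (p.1.coeff 0) + inr (p.1.coeff ν)
  map_one' := by
    classical
    have hν0 : (0 : σ →₀ ℕ) ≠ ν := fun h => by rw [← h, map_zero] at hν; omega
    ext
    · simp
    · simp [MvPolynomial.coeff_one, hν0]
  map_zero' := by ext <;> simp
  map_add' p q := by ext <;> simp
  map_mul' p q := by
    ext
    · simp [← MvPolynomial.constantCoeff_eq]
    · simp [coeff_mul_lowGap ν hν hN p.2 q.2]
  commutes' r := by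
    classical
    have hν0 : (0 : σ →₀ ℕ) ≠ ν := fun h => by rw [← h, map_zero] at hν; omega
    ext
    · simp [TrivSqZeroExt.algebraMap_eq_inl', IsScalarTower.algebraMap_apply R C (MvPolynomial σ C),
        MvPolynomial.coeff_C, hν0]
    · simp [TrivSqZeroExt.algebraMap_eq_inl', IsScalarTower.algebraMap_apply R C (MvPolynomial σ C),
        MvPolynomial.coeff_C, hν0]

variable {R C}

theorem fst_extract (ν : σ →₀ ℕ) (hν : ν.degree = N) (hN : 0 < N) (p : lowGap R σ C N) :
    TrivSqZeroExt.fst (extract R C ν hν hN p) = p.1.coeff 0 := by simp [extract]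

theorem snd_extract (ν : σ →₀ ℕ) (hν : ν.degree = N) (hN : 0 < N) (p : lowGap R σ C N) :
    TrivSqZeroExt.snd (extract R C ν hν hN p) = p.1.coeff ν := by simp [extract]

theorem monomial_mem_lowGap (ν : σ →₀ ℕ) (r : C) (h : N ≤ ν.degree ∨ r = 0) :
    MvPolynomial.monomial ν r ∈ lowGap R σ C N := by
  classical
  intro d _ hd
  rw [MvPolynomial.coeff_monomial]
  split_ifs with h1
  · subst h1
    rcases h with h | h
    · omega
    · exact h
  · rfl

theorem mem_lowGap_of_mem_pow {p : MvPolynomial σ C} (r : R)
    (h : p - algebraMap R (MvPolynomial σ C) r ∈ idealOfVars σ C ^ N) : p ∈ lowGap R σ C N := by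
  intro d hd0 hd
  have h1 := (MvPolynomial.mem_pow_idealOfVars_iff' N _).mp h d hd
  classical
  rwa [MvPolynomial.coeff_sub, IsScalarTower.algebraMap_apply R C (MvPolynomial σ C),
    MvPolynomial.algebraMap_eq, MvPolynomial.coeff_C, if_neg (Ne.symm hd0), sub_zero] at h1

end Ring

variable {S : Scheme.{u}} {R : Type u} [CommRing R] (g : Spec (CommRingCat.of R) ⟶ S)
variable {G : Over S} [GrpObj G] (D : Red.SplitRed G) {σ : Type}

/-- the weight of a monomial -/
def wt (w : σ → D.M) (ν : σ →₀ ℕ) : D.M := ν.sum fun i k => k • w i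

variable (R) in
/-- scaling the variables by their weights -/
def scaleVar (w : σ → D.M) :
    MvPolynomial σ R →ₐ[R] MvPolynomial σ (MonoidAlgebra R (Multiplicative D.M)) :=
  MvPolynomial.aeval fun i =>
    MvPolynomial.C (MonoidAlgebra.single (Multiplicative.ofAdd (w i)) (1 : R)) * MvPolynomial.X i

variable (R) in
/-- setting one variable to zero -/
def kill [DecidableEq σ] (i : σ) : MvPolynomial σ R →ₐ[R] MvPolynomial σ R :=
  MvPolynomial.aeval fun j => if j = i then 0 else MvPolynomial.X j

theorem coeff_kill [DecidableEq σ] (i : σ) (p : MvPolynomial σ R) (x : σ →₀ ℕ) :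
    (kill R i p).coeff x = if x i = 0 then p.coeff x else 0 := by
  classical
  induction p using MvPolynomial.induction_on' with
  | monomial ν r =>
    rw [kill, MvPolynomial.aeval_monomial]
    by_cases h : ν i = 0
    · have h1 : (ν.prod fun j k => (if j = i then (0 : MvPolynomial σ R) else MvPolynomial.X j) ^ k) =
          ν.prod fun j k => MvPolynomial.X j ^ k := by
        refine Finset.prod_congr rfl fun j hj => ?_
        rw [Finsupp.mem_support_iff] at hj
        simp only
        rw [if_neg (fun e => hj (by rw [e]; exact h))]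
      rw [h1, MvPolynomial.algebraMap_eq, ← MvPolynomial.monomial_eq, MvPolynomial.coeff_monomial]
      split_ifs with h2 h3 <;> first | rfl | (subst h2; exact absurd h ‹_›)
    · have h1 : (ν.prod fun j k => (if j = i then (0 : MvPolynomial σ R) else MvPolynomial.X j) ^ k) = 0 := by
        refine Finset.prod_eq_zero (Finsupp.mem_support_iff.mpr h) ?_
        simp only [if_pos]
        exact zero_pow h
      rw [h1, mul_zero, MvPolynomial.coeff_zero, MvPolynomial.coeff_monomial]
      split_ifs with h2 h3 <;> first | rfl | (subst h3; exact absurd h2 h)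
  | add p q hp hq =>
    rw [map_add, MvPolynomial.coeff_add, MvPolynomial.coeff_add, hp, hq]
    split_ifs <;> simp

variable (R σ) in
/-- constant extension of coefficients -/
def constVar : MvPolynomial σ R →ₐ[R] MvPolynomial σ (MonoidAlgebra R (Multiplicative D.M)) :=
  MvPolynomial.mapAlgHom (constMap R R D)

theorem scaleVar_monomial (w : σ → D.M) (ν : σ →₀ ℕ) (r : R) :
    scaleVar R D w (MvPolynomial.monomial ν r) =
      MvPolynomial.monomial ν (MonoidAlgebra.single (Multiplicative.ofAdd (wt D w ν)) r) := by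
  classical
  induction ν using Finsupp.induction generalizing r with
  | zero =>
    rw [MvPolynomial.monomial_zero', scaleVar, MvPolynomial.aeval_C,
      IsScalarTower.algebraMap_apply R (MonoidAlgebra R (Multiplicative D.M))
        (MvPolynomial σ (MonoidAlgebra R (Multiplicative D.M))), MvPolynomial.monomial_zero']
    simp [wt]
  | single_add i k ν hi hk ih =>
    rw [show MvPolynomial.monomial (Finsupp.single i k + ν) r =
      MvPolynomial.monomial ν r * MvPolynomial.X i ^ k from by
        rw [MvPolynomial.X_pow_eq_monomial, MvPolynomial.monomial_mul, _root_.mul_one, add_comm],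
      map_mul, ih, map_pow]
    unfold scaleVar
    rw [MvPolynomial.aeval_X, mul_pow, ← map_pow, MvPolynomial.X_pow_eq_monomial, MvPolynomial.C_mul_monomial,
      MvPolynomial.monomial_mul, MonoidAlgebra.single_pow, one_pow, _root_.mul_one,
      MonoidAlgebra.single_mul_single, _root_.mul_one, add_comm (Finsupp.single i k)]
    congr 2
    rw [← ofAdd_nsmul, ← ofAdd_add]
    congr 1
    simp [wt, Finsupp.sum_add_index', add_smul]

theorem constVar_monomial (ν : σ →₀ ℕ) (r : R) :
    constVar R D σ (MvPolynomial.monomial ν r) = MvPolynomial.monomial ν (constMap R R D r) :=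
  MvPolynomial.map_monomial _ _ _

theorem coeff_scaleVar (w : σ → D.M) (p : MvPolynomial σ R) (d : σ →₀ ℕ) :
    (scaleVar R D w p).coeff d =
      MonoidAlgebra.single (Multiplicative.ofAdd (wt D w d)) (1 : R) * constMap R R D (p.coeff d) := by
  classical
  induction p using MvPolynomial.induction_on' with
  | monomial ν r =>
    rw [scaleVar_monomial, MvPolynomial.coeff_monomial, MvPolynomial.coeff_monomial]
    split_ifs with h
    · subst h; simp [constMap_apply, MonoidAlgebra.single_mul_single]
    · simp
  | add p q hp hq => simp [hp, hq, mul_add]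

theorem coeff_constVar (p : MvPolynomial σ R) (d : σ →₀ ℕ) :
    (constVar R D σ p).coeff d = constMap R R D (p.coeff d) :=
  MvPolynomial.coeff_map _ _ _

/-- the universal character with polynomial values -/
def univPoly (σ : Type) (R : Type u) [CommRing R] :
    Multiplicative D.M →* MvPolynomial σ (MonoidAlgebra R (Multiplicative D.M)) :=
  (MvPolynomial.C : _ →+* _).toMonoidHom.comp (MonoidAlgebra.of R (Multiplicative D.M))

/-- equivariance of a point with polynomial values -/
def IsEquivariant (w : σ → D.M) (φ : pt g (MvPolynomial σ R) ⟶ G) : Prop :=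
  pmap g (scaleVar R D w) ≫ φ =
    tPt g D (univPoly D σ R) * (pmap g (constVar R D σ) ≫ φ) * (tPt g D (univPoly D σ R))⁻¹

/-- `χ` is the component of degree `ν` of `φ` -/
def IsComponent {N : ℕ} (ν : σ →₀ ℕ) (hν : ν.degree = N) (hN : 0 < N) (φ : pt g (MvPolynomial σ R) ⟶ G)
    (χ : pt g (DualNumber R) ⟶ G) : Prop :=
  ∃ φH : pt g (lowGap R σ R N) ⟶ G, pmap g (lowGap R σ R N).val ≫ φH = φ ∧
    pmap g (extract R R ν hν hN) ≫ φH = χ

variable [IsAffineHom G.hom]

theorem exists_lowGap_point {N : ℕ} {φ : pt g (MvPolynomial σ R) ⟶ G}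
    (h : ∀ a, dev g φ a ∈ idealOfVars σ R ^ N) :
    ∃ φH : pt g (lowGap R σ R N) ⟶ G, pmap g (lowGap R σ R N).val ≫ φH = φ := by
  obtain ⟨φH, hφH⟩ := fn_surjective g (G := G) ((fn g φ).codRestrict (lowGap R σ R N) fun a =>
    mem_lowGap_of_mem_pow (eps g G a) (by rw [fn_eq_dev, add_sub_cancel_left]; exact h a))
  refine ⟨φH, fn_injective g ?_⟩
  rw [fn_pmap, hφH]
  rfl

theorem lieDev_component {N : ℕ} {ν : σ →₀ ℕ} {hν : ν.degree = N} {hN : 0 < N}
    {φ : pt g (MvPolynomial σ R) ⟶ G} {χ : pt g (DualNumber R) ⟶ G} (hc : IsComponent g ν hν hN φ χ)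
    (h : ∀ a, dev g φ a ∈ idealOfVars σ R ^ N) :
    IsLie g χ ∧ ∀ a, lieDev g χ a = (dev g φ a).coeff ν := by
  obtain ⟨φH, hH, rfl⟩ := hc
  have hdev : ∀ a, (dev g φH a).1 = dev g φ a := fun a => by
    rw [← hH, dev_pmap]; rfl
  constructor
  · refine eq_one_of_dev_eq_zero g (LinearMap.ext fun a => ?_)
    rw [dev_pmap, dev_pmap, fstA_apply, fst_extract, hdev]
    exact (MvPolynomial.mem_pow_idealOfVars_iff' N _).mp (h a) 0 (by simpa using hN)
  · intro a
    rw [lieDev_apply, dev_pmap, snd_extract, hdev]

/-- a component of an equivariant point is a weight vector -/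
theorem component_weight {N : ℕ} {ν : σ →₀ ℕ} {hν : ν.degree = N} {hN : 0 < N} (w : σ → D.M)
    {φ : pt g (MvPolynomial σ R) ⟶ G} {χ : pt g (DualNumber R) ⟶ G} (hc : IsComponent g ν hν hN φ χ)
    (he : IsEquivariant g D w φ) :
    tPt g D (univChar R D) * (pmap g (dnMap (constMap R R D)) ≫ χ) * (tPt g D (univChar R D))⁻¹ =
      pmap g ((scl (MonoidAlgebra.single (Multiplicative.ofAdd (wt D w ν)) 1)).comp
        (dnMap (constMap R R D))) ≫ χ := by
  obtain ⟨φH, hH, rfl⟩ := hc
  let C := MonoidAlgebra R (Multiplicative D.M)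
  let sH : lowGap R σ R N →ₐ[R] lowGap R σ C N :=
    ((scaleVar R D w).comp (lowGap R σ R N).val).codRestrict _ fun p d hd hdN => by
      change (scaleVar R D w p.1).coeff d = 0
      rw [coeff_scaleVar, p.2 d hd hdN, map_zero, mul_zero]
  let cH : lowGap R σ R N →ₐ[R] lowGap R σ C N :=
    ((constVar R D σ).comp (lowGap R σ R N).val).codRestrict _ fun p d hd hdN => by
      change (constVar R D σ p.1).coeff d = 0
      rw [coeff_constVar, p.2 d hd hdN, map_zero]
  let tH : Multiplicative D.M →* lowGap R σ C N :=
    MonoidHom.codRestrict (univPoly D σ R) (lowGap R σ C N).toSubsemiring.toSubmonoid fun m d hd _ => by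
      classical
      change (MvPolynomial.C _ : MvPolynomial σ C).coeff d = 0
      rw [MvPolynomial.coeff_C, if_neg (Ne.symm hd)]
  have key : pmap g sH ≫ φH = tPt g D tH * (pmap g cH ≫ φH) * (tPt g D tH)⁻¹ := by
    refine ext_of_injective g (lowGap R σ C N).val Subtype.val_injective ?_
    rw [MonObj.comp_mul, MonObj.comp_mul, GrpObj.comp_inv, pmap_tPt, ← Category.assoc, ← Category.assoc,
      pmap_comp, pmap_comp]
    rw [show (lowGap R σ C N).val.comp sH = (scaleVar R D w).comp (lowGap R σ R N).val from rfl,
      show (lowGap R σ C N).val.comp cH = (constVar R D σ).comp (lowGap R σ R N).val from rfl,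
      ← pmap_comp, ← pmap_comp, Category.assoc, Category.assoc, hH]
    exact he
  have key' := congrArg (fun z => pmap g (extract R C ν hν hN) ≫ z) key
  simp only [MonObj.comp_mul, GrpObj.comp_inv, pmap_tPt, ← Category.assoc, pmap_comp] at key'
  have h1 : (extract R C ν hν hN).comp sH =
      ((scl (MonoidAlgebra.single (Multiplicative.ofAdd (wt D w ν)) 1)).comp (dnMap (constMap R R D))).comp
        (extract R R ν hν hN) := by
    refine AlgHom.ext fun p => TrivSqZeroExt.ext ?_ ?_
    · refine (fst_extract ν hν hN (sH p)).trans ?_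
      refine Eq.trans ?_ (fst_scl (R := R) _ _).symm
      refine Eq.trans ?_ (fst_dnMap _ _).symm
      refine (coeff_scaleVar D w p.1 0).trans ?_
      refine Eq.trans ?_ (congrArg _ (fst_extract ν hν hN p).symm)
      simp [wt, ← MonoidAlgebra.one_def]; rfl
    · refine (snd_extract ν hν hN (sH p)).trans ?_
      refine Eq.trans ?_ (snd_scl (R := R) _ _).symm
      refine Eq.trans ?_ (congrArg _ ((snd_dnMap _ _).trans (congrArg _ (snd_extract ν hν hN p))).symm)
      exact coeff_scaleVar D w p.1 ν
  have h2 : (extract R C ν hν hN).comp cH = (dnMap (constMap R R D)).comp (extract R R ν hν hN) := by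
    refine AlgHom.ext fun p => TrivSqZeroExt.ext ?_ ?_
    · refine (fst_extract ν hν hN (cH p)).trans ?_
      refine Eq.trans ?_ (fst_dnMap _ _).symm
      exact (coeff_constVar D p.1 0).trans (congrArg _ (fst_extract ν hν hN p).symm)
    · refine (snd_extract ν hν hN (cH p)).trans ?_
      refine Eq.trans ?_ (snd_dnMap _ _).symm
      exact (coeff_constVar D p.1 ν).trans (congrArg _ (snd_extract ν hν hN p).symm)
  have h3 : (extract R C ν hν hN).toRingHom.toMonoidHom.comp tH = univChar R D := by
    classical
    have hν0 : (0 : σ →₀ ℕ) ≠ ν := fun h => by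
      have := hν; rw [← h, map_zero] at this; omega
    refine MonoidHom.ext fun m => TrivSqZeroExt.ext ?_ ?_
    · refine (fst_extract ν hν hN (tH m)).trans ?_
      change (MvPolynomial.C (MonoidAlgebra.single m (1 : R)) : MvPolynomial σ C).coeff 0 =
        TrivSqZeroExt.fst (inl (MonoidAlgebra.single m (1 : R)) : DualNumber C)
      rw [MvPolynomial.coeff_C, if_pos rfl, TrivSqZeroExt.fst_inl]
    · refine (snd_extract ν hν hN (tH m)).trans ?_
      change (MvPolynomial.C (MonoidAlgebra.single m (1 : R)) : MvPolynomial σ C).coeff ν =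
        TrivSqZeroExt.snd (inl (MonoidAlgebra.single m (1 : R)) : DualNumber C)
      rw [MvPolynomial.coeff_C, if_neg hν0, TrivSqZeroExt.snd_inl]
  rw [h1, h2, h3, ← pmap_comp, Category.assoc] at key'
  rw [← Category.assoc, ← Category.assoc]
  simp only [← pmap_comp, Category.assoc] at key' ⊢
  exact key'.symm

end Groth.Agent.H21Split
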