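import Groth.Agent.H21Split.HomExt

/-!
Words in root points as ordered products with polynomial coordinates, on all schemes over the base.
-/

open CategoryTheory MonoidalCategory CartesianMonoidalCategory MonObj GrpObj AlgebraicGeometry
open CategoryTheory.Limits
open Groth.Agent.H27Witt.GaCoord (gaFn_comp gaFn_surjective gaFn_injective)

universe u

set_option backward.isDefEq.respectTransparency false
set_option linter.style.haveILetI false
set_option linter.unusedSectionVars false
set_option synthInstance.maxHeartbeats 400000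

noncomputable section

namespace Groth.Agent.H21Split

variable {S : Scheme.{u}}

/-- the ordered product of root points on a scheme -/
def xProd {G : Over S} [GrpObj G] (D : Red.SplitRed G) {X : Over S} {m : ℕ} (e : Fin m → D.idx)
    (z : Fin m → (X ⟶ Red.Ga S)) : X ⟶ G :=
  (List.ofFn fun k => z k ≫ D.u (e k)).prod

variable {R : Type u} [CommRing R] (g : Spec (CommRingCat.of R) ⟶ S)
variable {B : Type u} [CommRing B] [Algebra R B]

theorem res_pt (C : Γ(S, ⊤)) :
    (Scheme.ΓSpecIso (CommRingCat.of B)).hom ((pt g B).hom.appTop C) = algebraMap R B (res g C) :=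
  res_comp (algebraMap R B) g C

theorem ΓSpec_eval {σ : Type} {X : Over S} (j : pt g B ⟶ X) (v : σ → (X ⟶ Red.Ga S))
    (Q : MvPolynomial σ Γ(S, ⊤)) :
    (Scheme.ΓSpecIso (CommRingCat.of B)).hom
        (j.left.appTop (MvPolynomial.eval₂ X.hom.appTop.hom (fun i => Red.gaFn (v i)) Q)) =
      MvPolynomial.aeval (fun i => gv g (j ≫ v i)) (MvPolynomial.map (res g) Q) := by
  induction Q using MvPolynomial.induction_on with
  | C a =>
    rw [MvPolynomial.eval₂_C, MvPolynomial.map_C, MvPolynomial.aeval_C, ← res_pt g a, appTop_hom_comp]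
  | add p q hp hq => simp only [MvPolynomial.eval₂_add, map_add, hp, hq]
  | mul_X p i hp =>
    simp only [MvPolynomial.eval₂_mul, MvPolynomial.eval₂_X, map_mul, hp, MvPolynomial.map_X, MvPolynomial.aeval_X]
    rw [gv_def, gaFn_comp]

theorem gv_eval {σ : Type} {X : Over S} (j : pt g B ⟶ X) (v : σ → (X ⟶ Red.Ga S))
    (Q : MvPolynomial σ Γ(S, ⊤)) (z : X ⟶ Red.Ga S)
    (hz : Red.gaFn z = MvPolynomial.eval₂ X.hom.appTop.hom (fun i => Red.gaFn (v i)) Q) :
    gv g (j ≫ z) = MvPolynomial.aeval (fun i => gv g (j ≫ v i)) (MvPolynomial.map (res g) Q) := by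
  rw [gv_def, gaFn_comp, hz]
  exact ΓSpec_eval g j v Q

/-- polynomials with equal values on all test algebras are equal -/
theorem ext_poly {σ : Type} {Q Q' : MvPolynomial σ Γ(S, ⊤)}
    (h : ∀ (X : Over S) (v : σ → (X ⟶ Red.Ga S)), MvPolynomial.eval₂ X.hom.appTop.hom (fun i => Red.gaFn (v i)) Q =
      MvPolynomial.eval₂ X.hom.appTop.hom (fun i => Red.gaFn (v i)) Q') : Q = Q' := by
  refine MvPolynomial.ext _ _ fun d => ext_res fun R _ g => ?_
  have h1 := h (pt g (MvPolynomial σ R)) fun i => ga g (MvPolynomial.X i)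
  have h2 := congrArg (fun s => (Scheme.ΓSpecIso (CommRingCat.of (MvPolynomial σ R))).hom
    ((𝟙 (pt g (MvPolynomial σ R)) : pt g (MvPolynomial σ R) ⟶ _).left.appTop s)) h1
  have h4 := ((ΓSpec_eval g (𝟙 (pt g (MvPolynomial σ R))) _ Q).symm.trans h2).trans
    (ΓSpec_eval g (𝟙 (pt g (MvPolynomial σ R))) _ Q')
  simp only [Category.id_comp, gv_ga, MvPolynomial.aeval_X_left, AlgHom.id_apply] at h4
  have h3 := congrArg (fun p : MvPolynomial σ R => p.coeff d) h4
  simp only [MvPolynomial.coeff_map] at h3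
  exact h3

theorem gaFn_eq_mul_of_gv {x y : pt g B ⟶ Red.Ga S} {t : pt g B ⟶ Red.Gm S} (h : gv g y = gmv g t * gv g x) :
    Red.gaFn y = Red.gmFn t * Red.gaFn x := by
  rw [gaFn_eq_of_gv g h, map_mul, gmv, gv_def]
  exact congrArg₂ (· * ·) (Iso.hom_inv_id_apply (Scheme.ΓSpecIso (CommRingCat.of B)) (Red.gmFn t))
    (Iso.hom_inv_id_apply (Scheme.ΓSpecIso (CommRingCat.of B)) (Red.gaFn x))

theorem towerIso_ga {R' : Type u} [CommRing R'] [Algebra R R'] [Algebra R' B] [IsScalarTower R R' B] (b : B) :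
    (towerIso g R' B).hom ≫ ga g b = ga (Spec.map (CommRingCat.ofHom (algebraMap R R')) ≫ g) b :=
  gv_injective _ (by rw [gv_ga, gv_def, gaFn_comp]; exact (gv_def g _).symm.trans (gv_ga g b))

variable {G : Over S} [GrpObj G] (D : Red.SplitRed G)

omit g in
theorem comp_xProd {X Y : Over S} (f : Y ⟶ X) {m : ℕ} (e : Fin m → D.idx) (z : Fin m → (X ⟶ Red.Ga S)) :
    f ≫ xProd D e z = xProd D e (fun k => f ≫ z k) := by
  simp only [xProd, prod_comp, Category.assoc]

theorem xProd_pt {m : ℕ} (e : Fin m → D.idx) (z : Fin m → (pt g B ⟶ Red.Ga S)) :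
    xProd D e z = uProd g D e fun k => gv g (z k) := by
  rw [xProd, uProd]
  congr
  funext k
  rw [uPt, ga_gv]

omit g in
theorem xProd_injective {Ψ : Set D.idx} (hΨ : IsPosSet D.P Ψ) {m : ℕ} (e : Fin m → D.idx)
    (he : Function.Injective e) (hrange : Set.range e = Ψ) {X : Over S} :
    Function.Injective (xProd D e : (Fin m → (X ⟶ Red.Ga S)) → _) := by
  haveI := isAffineHom_hom D
  intro z z' h
  funext k
  refine hom_ext_pt fun R _ g j => gv_injective g ?_
  have h1 := congrArg (fun φ => j ≫ φ) h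
  simp only [comp_xProd, xProd_pt] at h1
  exact congrFun (uProd_injective g D hΨ e he hrange h1) k

omit g in
/-- a natural equivariant word is an ordered product with polynomial coordinates on the base -/
theorem exists_global_eval {Ψ : Set D.idx} (hΨ : IsPosSet D.P Ψ) {m : ℕ} (e : Fin m → D.idx)
    (he : Function.Injective e) (hrange : Set.range e = Ψ) {σ : Type} [Finite σ] [DecidableEq σ]
    (w : σ → D.idx) (hw : ∀ i, w i ∈ Ψ) (Z : Set σ)
    (F : ∀ X : Over S, (σ → (X ⟶ Red.Ga S)) → (X ⟶ G))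
    (hnat : ∀ (X Y : Over S) (f : Y ⟶ X) (v : σ → (X ⟶ Red.Ga S)), f ≫ F X v = F Y fun i => f ≫ v i)
    (hwt : ∀ (X : Over S) (t : X ⟶ D.T) (v v' : σ → (X ⟶ Red.Ga S)),
      (∀ i, Red.gaFn (v' i) = Red.gmFn (t ≫ D.split.hom.hom.hom ≫ Red.chi S (D.P.root (w i))) * Red.gaFn (v i)) →
        F X v' = (t ≫ D.i) * F X v * (t ≫ D.i)⁻¹)
    (hone : ∀ X : Over S, F X (fun _ => 1) = 1)
    (hZ : ∀ (X : Over S) (v : σ → (X ⟶ Red.Ga S)), (∀ i ∈ Z, v i = 1) → F X v = 1) :
    ∃ Q : Fin m → MvPolynomial σ Γ(S, ⊤),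
      (∀ k d, (Q k).coeff d ≠ 0 → d ≠ 0 ∧ wt D (fun i => D.P.root (w i)) d = D.P.root (e k)) ∧
      (Z.Nonempty → ∀ k d, (Q k).coeff d ≠ 0 → ∃ i ∈ Z, d i ≠ 0) ∧
      ∀ (X : Over S) (v : σ → (X ⟶ Red.Ga S)) (z : Fin m → (X ⟶ Red.Ga S)),
        xProd D e z = F X v ↔
          ∀ k, Red.gaFn (z k) = MvPolynomial.eval₂ X.hom.appTop.hom (fun i => Red.gaFn (v i)) (Q k) := by
  classical
  haveI := isAffineHom_hom D
  obtain ⟨hf, hpos⟩ := hΨ.exists_functional
  let s : Fin m → Finset (σ →₀ ℕ) := fun k =>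
    (finite_wt_eq D (fun i => D.P.root (w i)) hf (fun i => hpos _ (hw i)) (D.P.root (e k))).toFinset
  have hs : ∀ k d, d ∈ s k ↔ wt D (fun i => D.P.root (w i)) d = D.P.root (e k) := fun k d => by simp [s]
  -- the polynomials over test rings
  have hex : ∀ (R : Type u) [CommRing R] (g : Spec (CommRingCat.of R) ⟶ S),
      ∃ P : Fin m → MvPolynomial σ R,
        (∀ k d, (P k).coeff d ≠ 0 → d ≠ 0 ∧ wt D (fun i => D.P.root (w i)) d = D.P.root (e k)) ∧
        ∀ (B : Type u) [CommRing B] [Algebra R B] (b : σ → B),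
          F (pt g B) (fun i => ga g (b i)) = uProd g D e fun k => MvPolynomial.aeval b (P k) := by
    intro R _ g
    let φ : pt g (MvPolynomial σ R) ⟶ G := F _ fun i => ga g (MvPolynomial.X i)
    have hmap : ∀ {B : Type u} [CommRing B] [Algebra R B] (f : MvPolynomial σ R →ₐ[R] B),
        pmap g f ≫ φ = F (pt g B) fun i => ga g (f (MvPolynomial.X i)) := fun f => by
      simp only [φ, hnat, pmap_ga]
    have hE : IsEquivariant g D (fun i => D.P.root (w i)) φ := by
      unfold IsEquivariant
      rw [hmap, hmap]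
      let χ := univPoly D σ R
      rw [show tPt g D χ = (ds g χ ≫ D.split.inv.hom.hom) ≫ D.i from (Category.assoc _ _ _).symm]
      refine hwt _ _ _ _ fun i => gaFn_eq_mul_of_gv g ?_
      rw [gv_ga, gv_ga, Category.assoc, reassoc_of% (split_inv_hom D), gmv_chi,
        show (MvPolynomial.X i : MvPolynomial σ R) = MvPolynomial.monomial (Finsupp.single i 1) 1 from rfl,
        scaleVar_monomial, constVar_monomial, wt_single, one_smul]
      simp [χ, univPoly, MvPolynomial.C_mul_monomial, constMap_apply, MonoidAlgebra.single_mul_single]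
    have h0 : pmap g (MvPolynomial.aeval fun _ : σ => (0 : R)) ≫ φ = 1 := by
      rw [hmap]
      simp only [MvPolynomial.aeval_X, ga_zero]
      exact hone _
    obtain ⟨P, hP, -, hPe⟩ := exists_uProd_eval g D hΨ e he hrange w hw hE h0
    refine ⟨P, hP, fun B _ _ b => ?_⟩
    rw [← hPe, hmap]
    simp only [MvPolynomial.aeval_X]
  let P : ∀ (R : Type u) [CommRing R], (Spec (CommRingCat.of R) ⟶ S) → Fin m → MvPolynomial σ R :=
    fun R _ g => (hex R g).choose
  have hP : ∀ (R : Type u) [CommRing R] (g : Spec (CommRingCat.of R) ⟶ S) k d, (P R g k).coeff d ≠ 0 →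
      d ≠ 0 ∧ wt D (fun i => D.P.root (w i)) d = D.P.root (e k) := fun R _ g => (hex R g).choose_spec.1
  have hPe : ∀ (R : Type u) [CommRing R] (g : Spec (CommRingCat.of R) ⟶ S) (B : Type u) [CommRing B] [Algebra R B]
      (b : σ → B), F (pt g B) (fun i => ga g (b i)) = uProd g D e fun k => MvPolynomial.aeval b (P R g k) :=
    fun R _ g => (hex R g).choose_spec.2
  have hnatP : ∀ (R R' : Type u) [CommRing R] [CommRing R'] (f : R →+* R') (g : Spec (CommRingCat.of R) ⟶ S) k,
      P R' (Spec.map (CommRingCat.ofHom f) ≫ g) k = MvPolynomial.map f (P R g k) := by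
    intro R R' _ _ f g k
    letI := f.toAlgebra
    let g' := Spec.map (CommRingCat.ofHom (algebraMap R R')) ≫ g
    have hu : ∀ (a : D.idx) (b : MvPolynomial σ R'), (towerIso g R' (MvPolynomial σ R')).hom ≫ uPt g D a b =
        uPt g' D a b := fun a b => by rw [uPt, uPt, ← Category.assoc, towerIso_ga]
    have h1 := congrArg (fun z => (towerIso g R' (MvPolynomial σ R')).hom ≫ z)
      (hPe R g (MvPolynomial σ R') fun i => MvPolynomial.X i)
    simp only [hnat, towerIso_ga, uProd, prod_comp, hu] at h1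
    have h2 := hPe R' g' (MvPolynomial σ R') fun i => MvPolynomial.X i
    rw [h1] at h2
    have h3 := congrFun (uProd_injective g' D hΨ e he hrange h2) k
    rw [MvPolynomial.aeval_X_left, AlgHom.id_apply] at h3
    refine h3.symm.trans ?_
    rw [show MvPolynomial.aeval (fun i => (MvPolynomial.X i : MvPolynomial σ R')) (P R g k) =
      MvPolynomial.map (algebraMap R R') (P R g k) from by
        induction (P R g k) using MvPolynomial.induction_on with
        | C a => rw [MvPolynomial.aeval_C, MvPolynomial.map_C, IsScalarTower.algebraMap_apply R R' (MvPolynomial σ R'), MvPolynomial.algebraMap_eq]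
        | add p q hp hq => rw [map_add, map_add, hp, hq]
        | mul_X p i hp => rw [map_mul, map_mul, hp, MvPolynomial.aeval_X, MvPolynomial.map_X]]
    rfl
  choose C hC _ using fun (kd : Fin m × (σ →₀ ℕ)) =>
    existsUnique_res (fun R _ g => (P R g kd.1).coeff kd.2) fun R R' _ _ f g => by
      rw [hnatP R R' f g kd.1, MvPolynomial.coeff_map]
  let Q : Fin m → MvPolynomial σ Γ(S, ⊤) := fun k => ∑ d ∈ s k, MvPolynomial.monomial d (C (k, d))
  have hQc : ∀ k d, (Q k).coeff d = if d ∈ s k then C (k, d) else 0 := fun k d => by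
    simp [Q, MvPolynomial.coeff_sum, MvPolynomial.coeff_monomial, Finset.sum_ite_eq']
  have hQres : ∀ (R : Type u) [CommRing R] (g : Spec (CommRingCat.of R) ⟶ S) k,
      MvPolynomial.map (res g) (Q k) = P R g k := fun R _ g k => MvPolynomial.ext _ _ fun d => by
    rw [MvPolynomial.coeff_map, hQc]
    split_ifs with h
    · exact hC (k, d) R g
    · rw [map_zero]
      exact (not_not.mp fun hne => h ((hs k d).mpr (hP R g k d (Ne.symm hne)).2)).symm.symm
  have hval : ∀ (X : Over S) (v : σ → (X ⟶ Red.Ga S)) (z : Fin m → (X ⟶ Red.Ga S)),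
      (∀ k, Red.gaFn (z k) = MvPolynomial.eval₂ X.hom.appTop.hom (fun i => Red.gaFn (v i)) (Q k)) →
        xProd D e z = F X v := fun X v z hz => by
    refine hom_ext_pt fun R _ g j => ?_
    rw [comp_xProd, hnat, xProd_pt, show (fun i => j ≫ v i) = fun i => ga g (gv g (j ≫ v i)) from
      funext fun i => (ga_gv g _).symm, hPe R g R]
    congr
    funext k
    rw [gv_eval g j v (Q k) (z k) (hz k), hQres]
  refine ⟨Q, fun k d hd => ?_, fun hne k d hd => ?_, fun X v z => ⟨fun h k => ?_, hval X v z⟩⟩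
  · rw [hQc] at hd
    split_ifs at hd with h
    · refine ⟨fun h0 => ?_, (hs k d).mp h⟩
      have := (hs k d).mp h
      rw [h0, wt_zero] at this
      exact D.P.ne_zero _ this.symm
    · exact absurd rfl hd
  · by_contra hc
    push Not at hc
    refine hd (ext_res fun R _ g => ?_)
    rw [map_zero, ← MvPolynomial.coeff_map, hQres]
    let f : MvPolynomial σ R →ₐ[R] MvPolynomial σ R :=
      MvPolynomial.aeval fun i => if i ∈ Z then 0 else MvPolynomial.X i
    have hF : F (pt g (MvPolynomial σ R)) (fun i => ga g (f (MvPolynomial.X i))) = 1 := hZ _ _ fun i hi => by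
      simp only [f, MvPolynomial.aeval_X, if_pos hi, ga_zero]
    rw [hPe R g] at hF
    have h0 := congrFun (uProd_injective g D hΨ e he hrange (hF.trans (uProd_zero g D e).symm)) k
    have hf' : (MvPolynomial.aeval fun i => f (MvPolynomial.X i)) = f :=
      MvPolynomial.algHom_ext fun i => by rw [MvPolynomial.aeval_X]
    rw [hf', Pi.zero_apply] at h0
    have hcoef : ∀ p : MvPolynomial σ R, (f p).coeff d = p.coeff d := fun p => by
      induction p using MvPolynomial.induction_on' with
      | monomial ν r =>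
        by_cases hν : ∀ i ∈ Z, ν i = 0
        · rw [show f (MvPolynomial.monomial ν r) = MvPolynomial.monomial ν r from ?_]
          rw [MvPolynomial.aeval_monomial, MvPolynomial.algebraMap_eq, MvPolynomial.monomial_eq]
          refine congrArg _ (Finset.prod_congr rfl fun i hi => ?_)
          simp only
          rw [if_neg fun hiZ => Finsupp.mem_support_iff.mp hi (hν i hiZ)]
        · push Not at hν
          obtain ⟨i, hi, hνi⟩ := hν
          rw [show f (MvPolynomial.monomial ν r) = 0 from ?_, MvPolynomial.coeff_zero, MvPolynomial.coeff_monomial,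
            if_neg fun e : ν = d => hνi (by rw [e]; exact hc i hi)]
          rw [MvPolynomial.aeval_monomial]
          refine mul_eq_zero_of_right _ (Finset.prod_eq_zero (Finsupp.mem_support_iff.mpr hνi) ?_)
          simp only [if_pos hi]
          exact zero_pow hνi
      | add p q hp hq => rw [map_add, MvPolynomial.coeff_add, MvPolynomial.coeff_add, hp, hq]
    rw [← hcoef, h0, MvPolynomial.coeff_zero]
  · obtain ⟨z', hz'⟩ : ∃ z' : Fin m → (X ⟶ Red.Ga S), ∀ k, Red.gaFn (z' k) =
        MvPolynomial.eval₂ X.hom.appTop.hom (fun i => Red.gaFn (v i)) (Q k) :=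
      ⟨fun k => (gaFn_surjective _).choose, fun k => (gaFn_surjective _).choose_spec⟩
    rw [xProd_injective D hΨ e he hrange (h.trans (hval X v z' hz').symm)]
    exact hz' k

end Groth.Agent.H21Split
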