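import Groth.Agent.H21Split.Decomp
import Groth.Agent.H21Split.Centre
import Groth.Agent.H21Split.Rescale

/-!
An inner automorphism fixing the pinning is trivial.
-/

open CategoryTheory MonoidalCategory CartesianMonoidalCategory MonObj GrpObj AlgebraicGeometry
open Groth.Agent.H27Witt.GaCoord (gaFn_comp gaFn_surjective gaFn_injective gaFn_one)

universe u

set_option backward.isDefEq.respectTransparency false
set_option linter.style.haveILetI false
set_option linter.unusedSectionVars false
set_option synthInstance.maxHeartbeats 400000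

noncomputable section

namespace Groth.Agent.H21Split

variable {S : Scheme.{u}} {G : Over S} [GrpObj G] (D : Red.SplitRed G)
variable {R : Type u} [CommRing R] (g : Spec (CommRingCat.of R) ⟶ S) {B : Type u} [CommRing B] [Algebra R B]

/-- a point of the torus killed by the roots, on test algebras, is central -/
theorem tPt_central (q : Multiplicative D.M →* B) (hq : ∀ x : D.idx, q (Multiplicative.ofAdd (D.P.root x)) = 1)
    (h : pt g B ⟶ G) : Commute (tPt g D q) h := by
  have := commute_of_roots_trivial D (ds g q ≫ D.split.inv.hom.hom) (fun a => eq_one_of_gmFn _ ?_) h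
  · rw [Category.assoc, ← tPt] at this
    exact this
  · have e : gmv g (ds g q ≫ Red.chi S (D.P.root a)) = 1 := (gmv_chi g q _).trans (hq a)
    rw [Category.assoc, reassoc_of% (split_inv_hom D)]
    rw [gmv] at e
    exact (Scheme.ΓSpecIso (CommRingCat.of B)).commRingCatIsoToRingEquiv.injective (e.trans (map_one _).symm)

/-- two torus points with the same roots conjugate alike -/
theorem tPt_conj_eq (χ χ' : Multiplicative D.M →* B)
    (h : ∀ x : D.idx, χ (Multiplicative.ofAdd (D.P.root x)) = χ' (Multiplicative.ofAdd (D.P.root x)))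
    (y : pt g B ⟶ G) : tPt g D χ * y * (tPt g D χ)⁻¹ = tPt g D χ' * y * (tPt g D χ')⁻¹ := by
  let ψ : Multiplicative D.M →* B := (Units.coeHom B).comp χ'.toHomUnits⁻¹
  have hψ : χ' * ψ = 1 := MonoidHom.ext fun m => by
    change (χ'.toHomUnits m : B) * ((χ'.toHomUnits m)⁻¹ : Bˣ) = 1
    exact Units.mul_inv _
  let q : Multiplicative D.M →* B := χ * ψ
  have hq : χ = χ' * q := by
    rw [show χ' * q = χ * (χ' * ψ) from _root_.mul_left_comm _ _ _, hψ, _root_.mul_one]
  have hq1 : ∀ x : D.idx, q (Multiplicative.ofAdd (D.P.root x)) = 1 := fun x => by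
    change χ _ * ψ _ = 1
    rw [h x, ← MonoidHom.mul_apply, hψ, MonoidHom.one_apply]
  rw [hq, tPt_mul]
  calc tPt g D χ' * (tPt g D q) * y * (tPt g D χ' * tPt g D q)⁻¹ =
        tPt g D χ' * (tPt g D q * y * (tPt g D q)⁻¹) * (tPt g D χ')⁻¹ := by group
    _ = _ := by rw [(tPt_central D g q hq1 y).eq, mul_inv_cancel_right]

variable (n : 𝟙_ (Over S) ⟶ G)

/-- conjugation by a fixed point on test algebras -/
def gconj (B : Type u) [CommRing B] [Algebra R B] : (pt g B ⟶ G) →* (pt g B ⟶ G) :=
  (MulAut.conj (toUnit (pt g B) ≫ n)).toMonoidHom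

theorem gconj_apply (y : pt g B ⟶ G) : gconj g n B y = (toUnit (pt g B) ≫ n) * y * (toUnit (pt g B) ≫ n)⁻¹ := rfl

theorem pmap_gconj {B' : Type u} [CommRing B'] [Algebra R B'] (f : B →ₐ[R] B') (y : pt g B ⟶ G) :
    pmap g f ≫ gconj g n B y = gconj g n B' (pmap g f ≫ y) := by
  rw [gconj_apply, gconj_apply, MonObj.comp_mul, MonObj.comp_mul, GrpObj.comp_inv, ← Category.assoc,
    toUnit_unique (pmap g f ≫ toUnit _) (toUnit _)]

/-- the hypotheses: the point normalises the torus and fixes the simple root groups -/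
def FixesPinning (b : D.P.Base) : Prop :=
  (∀ (X : Over S) (t : X ⟶ D.T), ∃ t' : X ⟶ D.T, (toUnit X ≫ n) * (t ≫ D.i) * (toUnit X ≫ n)⁻¹ = t' ≫ D.i) ∧
  ∀ a ∈ b.support, ∀ (X : Over S) (x : X ⟶ Red.Ga S), (toUnit X ≫ n) * (x ≫ D.u a) * (toUnit X ≫ n)⁻¹ = x ≫ D.u a

variable {n} [IsAffineHom G.hom] (b : D.P.Base) (hn : FixesPinning D n b)

include hn

theorem gconj_simple {a : D.idx} (ha : a ∈ b.support) (x : B) : gconj g n B (uPt g D a x) = uPt g D a x := by
  rw [gconj_apply, uPt]
  exact hn.2 a ha _ _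

theorem exists_gconj_tPt (χ : Multiplicative D.M →* B) :
    ∃ χ' : Multiplicative D.M →* B, gconj g n B (tPt g D χ) = tPt g D χ' ∧
      ∀ x : D.idx, χ' (Multiplicative.ofAdd (D.P.root x)) = χ (Multiplicative.ofAdd (D.P.root x)) := by
  obtain ⟨t', ht'⟩ := hn.1 (pt g B) (ds g χ ≫ D.split.inv.hom.hom)
  obtain ⟨χ', hχ'⟩ := exists_tPt g D t'
  have he : gconj g n B (tPt g D χ) = tPt g D χ' := by
    rw [gconj_apply, hχ', ← ht', tPt, Category.assoc]
  refine ⟨χ', he, ?_⟩
  have hs : ∀ a ∈ b.support, χ' (Multiplicative.ofAdd (D.P.root a)) = χ (Multiplicative.ofAdd (D.P.root a)) := by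
    intro a ha
    have h := congrArg (gconj g n B) (tPt_conj g D χ a (1 : B))
    rw [map_mul, map_mul, map_inv, he, gconj_simple D g b hn ha, gconj_simple D g b hn ha, tPt_conj] at h
    simpa using uPt_injective g D a h
  intro x
  have hcl : ∀ m ∈ AddSubmonoid.closure (D.P.root '' (b.support : Set D.idx)),
      χ' (Multiplicative.ofAdd m) = χ (Multiplicative.ofAdd m) := fun m hm => by
    induction hm using AddSubmonoid.closure_induction with
    | mem m hm => obtain ⟨i, hi, rfl⟩ := hm; exact hs i hi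
    | zero => rw [ofAdd_zero, map_one, map_one]
    | add m m' _ _ h h' => rw [ofAdd_add, map_mul, map_mul, h, h']
  rcases b.root_mem_or_neg_mem x with h | h
  · exact hcl _ h
  · have h1 : χ'.toHomUnits (Multiplicative.ofAdd (-D.P.root x)) = χ.toHomUnits (Multiplicative.ofAdd (-D.P.root x)) :=
      Units.ext (hcl _ h)
    rw [ofAdd_neg, map_inv, map_inv, _root_.inv_inj] at h1
    exact congrArg Units.val h1

/-- a root group is scaled -/
theorem exists_gconj_scalar [D.P.IsReduced] (c : D.idx) :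
    ∃ k : R, ∀ (B : Type u) [CommRing B] [Algebra R B] (x : B),
      gconj g n B (uPt g D c x) = uPt g D c (algebraMap R B k * x) := by
  classical
  have hΨ := isPosSet_singleton D c (two_smul_notMem D c)
  have hE : IsEquivariant g D (fun _ : Unit => D.P.root c)
      (gconj g n _ (uPt g D c (MvPolynomial.X () : MvPolynomial Unit R))) := by
    unfold IsEquivariant
    rw [pmap_gconj, pmap_gconj, pmap_uPt, pmap_uPt]
    let χ := univPoly D Unit R
    obtain ⟨χ', hχ', hroots⟩ := exists_gconj_tPt D g b hn χ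
    rw [tPt_conj_eq D g χ χ' (fun x => (hroots x).symm), ← hχ', ← map_inv, ← map_mul, ← map_mul, tPt_conj]
    congr 2
    rw [show (MvPolynomial.X () : MvPolynomial Unit R) = MvPolynomial.monomial (Finsupp.single () 1) 1 from rfl,
      scaleVar_monomial, constVar_monomial, wt_single, one_smul]
    simp [χ, univPoly, MvPolynomial.C_mul_monomial, constMap_apply, MonoidAlgebra.single_mul_single]
  obtain ⟨P, hP, -, hPe⟩ := exists_uProd_eval g D hΨ (fun _ : Fin 1 => c) (fun _ _ _ => Subsingleton.elim _ _)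
    Set.range_const (fun _ : Unit => c) (fun _ => rfl) hE (by
      rw [pmap_gconj, pmap_uPt, MvPolynomial.aeval_X, uPt_zero, map_one])
  have hform : P 0 = MvPolynomial.monomial (Finsupp.single () 1) ((P 0).coeff (Finsupp.single () 1)) := by
    refine MvPolynomial.ext _ _ fun x => ?_
    rw [MvPolynomial.coeff_monomial]
    split_ifs with h
    · rw [h]
    · refine not_not.mp fun hx => h ?_
      obtain ⟨-, h2⟩ := hP 0 x hx
      have e : x = Finsupp.single () (x ()) := Finsupp.ext fun i => by cases i; simp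
      obtain ⟨hf, hpos⟩ := hΨ.exists_functional
      have h3 := congrArg hf h2
      rw [e, wt_single, map_nsmul, nsmul_eq_mul] at h3
      have h5 : ((x () : ℕ) : ℤ) = 1 :=
        mul_right_cancel₀ (ne_of_gt (hpos c rfl)) (h3.trans (_root_.one_mul _).symm)
      rw [e, show x () = 1 from by omega]
  refine ⟨(P 0).coeff (Finsupp.single () 1), fun B _ _ x => ?_⟩
  have h := hPe B fun _ => x
  rw [pmap_gconj, pmap_uPt, MvPolynomial.aeval_X] at h
  rw [h, uProd, List.ofFn_succ, List.ofFn_zero, List.prod_cons, List.prod_nil, _root_.mul_one]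
  congr 1
  conv_lhs => rw [hform]
  simp [MvPolynomial.aeval_monomial]

/-- the opposite of a simple root group is fixed, and so is the coroot torus -/
theorem gconj_pair [D.P.IsReduced] {a : D.idx} (ha : a ∈ b.support) :
    (∀ (B : Type u) [CommRing B] [Algebra R B] (x : B),
      gconj g n B (uPt g D (D.P.reflectionPerm a a) x) = uPt g D (D.P.reflectionPerm a a) x) ∧
    ∀ (B : Type u) [CommRing B] [Algebra R B] (z : Bˣ),
      gconj g n B (tPt g D (cor D z a)) = tPt g D (cor D z a) := by
  set c := D.P.reflectionPerm a a with hc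
  have hdc : D.P.root a = -D.P.root c := by rw [hc, D.P.root_reflectionPerm, D.P.reflection_apply_self, neg_neg]
  obtain ⟨kd, hkd, hu⟩ := exists_dual D g a
  obtain ⟨k, hk⟩ := exists_gconj_scalar D g b hn c
  rw [← hc] at hkd
  have main : ∀ (B : Type u) [CommRing B] [Algebra R B] (ξ ζ : B) (z z' : Bˣ),
      (z : B) = 1 + algebraMap R B kd * ξ * ζ → (z' : B) = 1 + algebraMap R B kd * ξ * (algebraMap R B k * ζ) →
        (↑z⁻¹ : B) * ξ = ↑z'⁻¹ * ξ ∧ gconj g n B (tPt g D (cor D z a)) = tPt g D (cor D z' a) := by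
    intro B _ _ ξ ζ z z' hz hz'
    have h := congrArg (gconj g n B) (hkd B ξ ζ z hz)
    obtain ⟨χ', hχ', -⟩ := exists_gconj_tPt D g b hn (cor D z a)
    rw [map_mul, map_mul, map_mul, gconj_simple D g b hn ha, gconj_simple D g b hn ha, hk, hk, hχ',
      _root_.mul_left_comm (algebraMap R B k)] at h
    have e := h.symm.trans (hkd B ξ _ z' hz')
    rw [_root_.mul_assoc, _root_.mul_assoc, ← cellPt_pair, ← cellPt_pair] at e
    obtain ⟨-, h2, h3⟩ := cellPt_injective g D (isCellData_pair D hdc) e
    exact ⟨congrFun h3 0, hχ'.trans (congrArg (tPt g D) h2)⟩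
  have hk1 : k = 1 := by
    let B := DualNumber R
    let ε : B := TrivSqZeroExt.inr 1
    have hu' : ∀ x : R, ∃ z : Bˣ, (z : B) = 1 + TrivSqZeroExt.inr x := fun x =>
      ⟨⟨1 + TrivSqZeroExt.inr x, 1 - TrivSqZeroExt.inr x, by linear_combination -(TrivSqZeroExt.inr_mul_inr R x x),
        by linear_combination -(TrivSqZeroExt.inr_mul_inr R x x)⟩, rfl⟩
    obtain ⟨z, hz⟩ := hu' kd
    obtain ⟨z', hz'⟩ := hu' (kd * k)
    have h := (main B 1 ε z z' (hz.trans (by ext <;> simp [ε, B, TrivSqZeroExt.algebraMap_eq_inl]))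
      (hz'.trans (by ext <;> simp [ε, B, TrivSqZeroExt.algebraMap_eq_inl]))).1
    rw [_root_.mul_one, _root_.mul_one] at h
    have hzz : z = z' := _root_.inv_inj.mp (Units.ext h)
    subst hzz
    have h' := congrArg TrivSqZeroExt.snd (hz.symm.trans hz')
    simp [B] at h'
    exact (hu.mul_left_cancel ((_root_.mul_one kd).trans h')).symm
  refine ⟨fun B _ _ x => by rw [hk, hk1, map_one, _root_.one_mul], fun B _ _ z => ?_⟩
  have hz : (z : B) = 1 + algebraMap R B kd * 1 * (algebraMap R B ↑hu.unit⁻¹ * ((z : B) - 1)) := by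
    rw [_root_.mul_one, ← _root_.mul_assoc, ← map_mul, hu.mul_val_inv, map_one, _root_.one_mul, add_sub_cancel]
  exact (main B 1 _ z z hz (by rw [hk1, map_one, _root_.one_mul]; exact hz)).2

/-- the torus is fixed -/
theorem gconj_tPt [D.P.IsReduced] (χ : Multiplicative D.M →* B) : gconj g n B (tPt g D χ) = tPt g D χ := by
  obtain ⟨B', _, f, χ₀, r, hf, hχ₀, hdec⟩ := exists_decomp D b χ
  letI : Algebra R B' := (f.comp (algebraMap R B)).toAlgebra
  let fa : B →ₐ[R] B' := { toRingHom := f, commutes' := fun _ => rfl }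
  refine ext_of_injective g fa hf ?_
  rw [pmap_gconj, pmap_tPt]
  change gconj g n B' (tPt g D (f.toMonoidHom.comp χ)) = tPt g D (f.toMonoidHom.comp χ)
  rw [hdec]
  let tH : (Multiplicative D.M →* B') →* (pt g B' ⟶ G) :=
    { toFun := tPt g D, map_one' := tPt_one g D, map_mul' := tPt_mul g D }
  change gconj g n B' (tH (χ₀ * ∏ j : b.support, cor D (r j) j.1)) = tH (χ₀ * ∏ j : b.support, cor D (r j) j.1)
  generalize (Finset.univ : Finset b.support) = s
  classical
  induction s using Finset.induction_on with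
  | empty =>
    rw [Finset.prod_empty, _root_.mul_one, gconj_apply]
    exact (congrArg (· * _) (tPt_central D g χ₀ hχ₀ _).eq.symm).trans (mul_inv_cancel_right _ _)
  | insert j s hj ih =>
    rw [Finset.prod_insert hj, _root_.mul_left_comm, map_mul tH, map_mul (gconj g n B'), ih]
    exact congrArg (· * _) ((gconj_pair D g b hn j.2).2 B' (r j))

omit [IsAffineHom G.hom] in
/-- such a point centralises the group -/
theorem conj_eq_id (X : Over S) (y : X ⟶ G) : (toUnit X ≫ n) * y * (toUnit X ≫ n)⁻¹ = y := by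
  haveI := D.fintypeIdx
  haveI : Finite D.idx := Finite.of_fintype _
  haveI : D.P.IsReduced := isReduced_of_base D.P b
  haveI := isAffineHom_hom D
  let φ : G ⟶ G := (toUnit G ≫ n) * 𝟙 G * (toUnit G ≫ n)⁻¹
  have hφ : ∀ {Z : Over S} (z : Z ⟶ G), z ≫ φ = (toUnit Z ≫ n) * z * (toUnit Z ≫ n)⁻¹ := fun z => by
    simp only [φ, MonObj.comp_mul, GrpObj.comp_inv, Category.comp_id, comp_toUnit_assoc]
  haveI : IsMonHom φ := H21Diag.isMonHom_of_mul _ fun {Z} p q => by
    rw [hφ, hφ, hφ]
    exact (conj_mul3 _ p q).symm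
  have key : φ = 𝟙 G := by
    refine hom_ext_simple D b φ (𝟙 G) ?_ fun a ha => ⟨?_, ?_⟩
    · rw [Category.comp_id, hφ]
      refine hom_ext_pt fun R _ g j => ?_
      obtain ⟨χ, hχ⟩ := exists_tPt g D j
      rw [MonObj.comp_mul, MonObj.comp_mul, GrpObj.comp_inv, ← hχ, comp_toUnit_assoc]
      exact gconj_tPt D g b hn χ
    · rw [Category.comp_id, hφ]
      have := hn.2 a ha _ (𝟙 (Red.Ga S))
      rwa [Category.id_comp] at this
    · rw [Category.comp_id, hφ]
      refine hom_ext_pt fun R _ g j => ?_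
      rw [MonObj.comp_mul, MonObj.comp_mul, GrpObj.comp_inv, comp_toUnit_assoc]
      have h := (gconj_pair D g b hn ha).1 R (gv g j)
      rw [uPt, ga_gv] at h
      exact h
  rw [← hφ y, key, Category.comp_id]

end Groth.Agent.H21Split
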