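import Groth.Agent.H21Split.Equivariant

/-!
Points infinitely close to the unit in an arbitrary square zero ideal.
-/

open CategoryTheory MonoidalCategory CartesianMonoidalCategory MonObj GrpObj AlgebraicGeometry
open CategoryTheory.Limits
open TrivSqZeroExt (inl inr fst snd)

universe u

set_option backward.isDefEq.respectTransparency false
set_option linter.style.haveILetI false
set_option synthInstance.maxHeartbeats 400000

noncomputable section

namespace Groth.Agent.H21Split

variable {S : Scheme.{u}} {R : Type u} [CommRing R] (g : Spec (CommRingCat.of R) ⟶ S)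
variable {B : Type u} [CommRing B] [Algebra R B]

/-- the map of dual numbers given by an element of square zero -/
def sqLift (b : B) (hb : b * b = 0) : DualNumber R →ₐ[R] B where
  toFun x := algebraMap R B (TrivSqZeroExt.fst x) + b * algebraMap R B (TrivSqZeroExt.snd x)
  map_one' := by simp
  map_zero' := by simp
  map_add' x y := by simp; ring
  map_mul' x y := by
    simp only [TrivSqZeroExt.fst_mul, DualNumber.snd_mul, map_add, map_mul]
    linear_combination (-(algebraMap R B (TrivSqZeroExt.snd x) * algebraMap R B (TrivSqZeroExt.snd y))) * hb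
  commutes' r := by simp [TrivSqZeroExt.algebraMap_eq_inl']

theorem sqLift_apply (b : B) (hb : b * b = 0) (x : DualNumber R) :
    sqLift (R := R) b hb x = algebraMap R B (TrivSqZeroExt.fst x) + b * algebraMap R B (TrivSqZeroExt.snd x) := rfl

theorem sqLift_inr_one (b : B) (hb : b * b = 0) : sqLift (R := R) b hb (inr (1 : R)) = b := by
  simp [sqLift_apply]

theorem mul_eq_zero_of_mem {I : Ideal B} (hI : I * I = ⊥) {a b : B} (ha : a ∈ I) (hb : b ∈ I) : a * b = 0 := by
  have := Ideal.mul_mem_mul ha hb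
  rwa [hI, Ideal.mem_bot] at this

variable {G : Over S} [GrpObj G] (D : Red.SplitRed G) [IsAffineHom G.hom]

omit [IsAffineHom G.hom] in
theorem dev_lie_sqLift {φ : pt g (DualNumber R) ⟶ G} (hφ : IsLie g φ) (b : B) (hb : b * b = 0) (x : Crd g G) :
    dev g (pmap g (sqLift b hb) ≫ φ) x = b * algebraMap R B (lieDev g φ x) := by
  rw [dev_pmap, sqLift_apply, hφ.fst_dev, map_zero, zero_add, ← lieDev_apply]

omit [IsAffineHom G.hom] in
/-- deviation of a small point of a root group -/
theorem dev_uPt_sq (a : D.idx) (b : B) (hb : b * b = 0) (x : Crd g G) :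
    dev g (uPt g D a b) x = b * algebraMap R B (vec g D (Sum.inl a) x) := by
  rw [← sqLift_inr_one (R := R) b hb, ← pmap_uPt, dev_lie_sqLift g (isLie_uPt_inr g D a 1), sqLift_inr_one]
  rfl

/-- deviation of a product of small points -/
theorem dev_prod_sq {κ : Type*} (I : Ideal B) (hI : I * I = ⊥) (l : List κ) (φ : κ → (pt g B ⟶ G))
    (h : ∀ k ∈ l, ∀ x, dev g (φ k) x ∈ I) :
    (∀ x, dev g (l.map φ).prod x ∈ I) ∧ dev g (l.map φ).prod = (l.map fun k => dev g (φ k)).sum := by
  induction l with
  | nil =>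
    refine ⟨fun x => ?_, dev_one g⟩
    rw [List.map_nil, List.prod_nil, dev_one]
    exact I.zero_mem
  | cons k l ih =>
    obtain ⟨h1, h2⟩ := ih fun j hj => h j (List.mem_cons_of_mem _ hj)
    have h3 : dev g (φ k * (l.map φ).prod) = dev g (φ k) + dev g (l.map φ).prod :=
      dev_mul_of_mul_eq_bot g I I hI _ _ (h k (List.mem_cons_self ..)) h1
    simp only [List.map_cons, List.prod_cons, List.sum_cons]
    refine ⟨fun x => ?_, h3.trans (by rw [h2])⟩
    rw [h3, LinearMap.add_apply]
    exact I.add_mem (h k (List.mem_cons_self ..) x) (h1 x)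

/-- deviation of an ordered product of small root points -/
theorem dev_prod_uPt (I : Ideal B) (hI : I * I = ⊥) {n : ℕ} (e : Fin n → D.idx) (b : Fin n → B)
    (hb : ∀ k, b k ∈ I) :
    (∀ x, dev g (List.ofFn fun k => uPt g D (e k) (b k)).prod x ∈ I) ∧
      ∀ x, dev g (List.ofFn fun k => uPt g D (e k) (b k)).prod x =
        ∑ k, b k * algebraMap R B (vec g D (Sum.inl (e k)) x) := by
  have h0 : ∀ k x, dev g (uPt g D (e k) (b k)) x ∈ I := fun k x => by
    rw [dev_uPt_sq g D _ _ (mul_eq_zero_of_mem hI (hb k) (hb k))]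
    exact I.mul_mem_right _ (hb k)
  have h := dev_prod_sq g I hI (List.finRange n) (fun k => uPt g D (e k) (b k)) fun k _ => h0 k
  rw [← List.ofFn_eq_map] at h
  refine ⟨h.1, fun x => ?_⟩
  rw [h.2, ← Fin.sum_univ_def, LinearMap.sum_apply]
  exact Finset.sum_congr rfl fun k _ => dev_uPt_sq g D _ _ (mul_eq_zero_of_mem hI (hb k) (hb k)) x

/-- small points of the torus with given coordinates -/
theorem exists_tPt_sq (I : Ideal B) (hI : I * I = ⊥) (c : Fin (rk D) → B) (hc : ∀ j, c j ∈ I) :
    ∃ χ : Multiplicative D.M →* B, (∀ x, dev g (tPt g D χ) x ∈ I) ∧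
      ∀ x, dev g (tPt g D χ) x = ∑ j, c j * algebraMap R B (vec g D (Sum.inr j) x) := by
  let φ : Fin (rk D) → (pt g B ⟶ G) := fun j =>
    pmap g (sqLift (c j) (mul_eq_zero_of_mem hI (hc j) (hc j))) ≫ tPt g D (expChar D (coordHom R D j))
  have h0 : ∀ j x, dev g (φ j) x = c j * algebraMap R B (vec g D (Sum.inr j) x) := fun j x =>
    dev_lie_sqLift g (isLie_tPt g D _) (c j) _ x
  have hex : ∀ l : List (Fin (rk D)), ∃ χ, (l.map φ).prod = tPt g D χ := by
    intro l
    induction l with
    | nil => exact ⟨1, by rw [tPt_one]; rfl⟩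
    | cons j l ih =>
      obtain ⟨χ, hχ⟩ := ih
      refine ⟨((sqLift (R := R) (c j) (mul_eq_zero_of_mem hI (hc j) (hc j))).toRingHom.toMonoidHom.comp
        (expChar D (coordHom R D j))) * χ, ?_⟩
      rw [List.map_cons, List.prod_cons, hχ, tPt_mul]
      exact congrArg (· * tPt g D χ) (pmap_tPt g D _ _)
  obtain ⟨χ, hχ⟩ := hex (List.finRange (rk D))
  have h := dev_prod_sq g I hI (List.finRange (rk D)) φ fun j _ x => by
    rw [h0]; exact I.mul_mem_right _ (hc j)
  rw [hχ] at h
  refine ⟨χ, h.1, fun x => ?_⟩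
  rw [h.2, ← Fin.sum_univ_def, LinearMap.sum_apply]
  exact Finset.sum_congr rfl fun j _ => h0 j x

/-- a point infinitely close to the unit as a product over two complementary lists of roots and the torus -/
theorem exists_eq_cell_sq (I : Ideal B) (hI : I * I = ⊥) {n m : ℕ} (en : Fin n → D.idx) (ep : Fin m → D.idx)
    (h : Function.Bijective (Sum.elim en ep)) {φ : pt g B ⟶ G} (hφ : ∀ x, dev g φ x ∈ I) :
    ∃ (bn : Fin n → B) (χ : Multiplicative D.M →* B) (bp : Fin m → B),
      (∀ k, bn k ∈ I) ∧ (∀ k, bp k ∈ I) ∧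
      φ = (List.ofFn fun k => uPt g D (en k) (bn k)).prod *
        (tPt g D χ * (List.ofFn fun k => uPt g D (ep k) (bp k)).prod) := by
  classical
  obtain ⟨e, he, hspan⟩ := exists_dual_split g D
  have hder : IsDer (eps g G) (dev g φ) := fun a b => by
    rw [dev_mul_apply, mul_eq_zero_of_mem hI (hφ a) (hφ b), add_zero]
  let c : D.idx ⊕ Fin (rk D) → B := fun i => dev g φ (e i)
  obtain ⟨χ, hχI, hχ⟩ := exists_tPt_sq g D I hI (fun j => c (Sum.inr j)) fun j => hφ _
  have hn := dev_prod_uPt g D I hI en (fun k => c (Sum.inl (en k))) fun k => hφ _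
  have hp := dev_prod_uPt g D I hI ep (fun k => c (Sum.inl (ep k))) fun k => hφ _
  refine ⟨fun k => c (Sum.inl (en k)), χ, fun k => c (Sum.inl (ep k)), fun k => hφ _, fun k => hφ _,
    dev_injective g (LinearMap.ext fun x => ?_)⟩
  have h1 := dev_mul_of_mul_eq_bot g I I hI _ _ hχI hp.1
  have h2 : ∀ x, dev g (tPt g D χ * (List.ofFn fun k => uPt g D (ep k) (c (Sum.inl (ep k)))).prod) x ∈ I :=
    fun x => by rw [h1, LinearMap.add_apply]; exact I.add_mem (hχI x) (hp.1 x)
  rw [dev_mul_of_mul_eq_bot g I I hI _ _ hn.1 h2, LinearMap.add_apply, h1, LinearMap.add_apply, hn.2, hχ, hp.2,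
    hspan B _ hder x, Fintype.sum_sum_type,
    ← (Equiv.ofBijective _ h).sum_comp fun a => algebraMap R B (vec g D (Sum.inl a) x) * dev g φ (e (Sum.inl a)),
    Fintype.sum_sum_type]
  simp only [Equiv.ofBijective_apply, Sum.elim_inl, Sum.elim_inr, c, mul_comm]
  abel

/-- the coordinates of a small product are determined -/
theorem prod_uPt_sq_injective (I : Ideal B) (hI : I * I = ⊥) {n : ℕ} (e : Fin n → D.idx) (he : Function.Injective e)
    {b b' : Fin n → B} (hb : ∀ k, b k ∈ I) (hb' : ∀ k, b' k ∈ I)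
    (h : (List.ofFn fun k => uPt g D (e k) (b k)).prod = (List.ofFn fun k => uPt g D (e k) (b' k)).prod) :
    b = b' := by
  classical
  obtain ⟨ev, he', -⟩ := exists_dual_split g D
  funext j
  have h1 := LinearMap.congr_fun (congrArg (dev g) h) (ev (Sum.inl (e j)))
  rw [(dev_prod_uPt g D I hI e b hb).2, (dev_prod_uPt g D I hI e b' hb').2] at h1
  simp only [he', Sum.inl.injEq, he.eq_iff, apply_ite (algebraMap R B), map_one, map_zero, mul_ite, _root_.mul_one,
    mul_zero, Finset.sum_ite_eq', Finset.mem_univ, if_true] at h1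
  exact h1

end Groth.Agent.H21Split
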