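import Groth.Agent.H21Split.Span

/-!
The group of products of root points over a closed set without opposite roots.
-/

open CategoryTheory MonoidalCategory CartesianMonoidalCategory MonObj GrpObj AlgebraicGeometry
open CategoryTheory.Limits
open MvPolynomial (idealOfVars)

universe u

set_option backward.isDefEq.respectTransparency false
set_option linter.style.haveILetI false
set_option linter.unusedSectionVars false
set_option synthInstance.maxHeartbeats 400000

noncomputable section

namespace Groth.Agent.H21Split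

variable {S : Scheme.{u}} {R : Type u} [CommRing R] (g : Spec (CommRingCat.of R) ⟶ S)
variable {B : Type u} [CommRing B] [Algebra R B] {B' : Type u} [CommRing B'] [Algebra R B']
variable {G : Over S} [GrpObj G] (D : Red.SplitRed G)

/-- the ordered product of root points -/
def uProd {m : ℕ} (e : Fin m → D.idx) (x : Fin m → B) : pt g B ⟶ G :=
  (List.ofFn fun k => uPt g D (e k) (x k)).prod

theorem pmap_uProd (f : B →ₐ[R] B') {m : ℕ} (e : Fin m → D.idx) (x : Fin m → B) :
    pmap g f ≫ uProd g D e x = uProd g D e fun k => f (x k) := by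
  rw [uProd, ← preHom_apply, map_prod_ofFn]
  simp only [preHom_apply, pmap_uPt]
  rfl

theorem uProd_zero {m : ℕ} (e : Fin m → D.idx) : uProd g D e (0 : Fin m → B) = 1 := by
  refine List.prod_eq_one fun x hx => ?_
  obtain ⟨k, rfl⟩ := List.mem_ofFn.mp hx
  exact uPt_zero g D _

/-- conjugation of a product by the torus -/
theorem tPt_conj_uProd (χ : Multiplicative D.M →* B) {m : ℕ} (e : Fin m → D.idx) (x : Fin m → B) :
    tPt g D χ * uProd g D e x * (tPt g D χ)⁻¹ =
      uProd g D e fun k => χ (Multiplicative.ofAdd (D.P.root (e k))) * x k := by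
  rw [uProd, ← MulAut.conj_apply, ← MulEquiv.coe_toMonoidHom, map_prod_ofFn, uProd]
  congr
  funext k
  rw [MulEquiv.coe_toMonoidHom, MulAut.conj_apply, tPt_conj]

variable {σ : Type}

theorem isEquivariant_prod_ofFn {w : σ → D.M} {n : ℕ} (φ : Fin n → (pt g (MvPolynomial σ R) ⟶ G))
    (h : ∀ k, IsEquivariant g D w (φ k)) : IsEquivariant g D w (List.ofFn φ).prod := by
  induction n with
  | zero => simpa using isEquivariant_one g D
  | succ n ih =>
    rw [List.ofFn_succ, List.prod_cons]
    exact isEquivariant_mul g D (h 0) (ih _ fun k => h _)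

theorem isEquivariant_uProd_X {w : σ → D.idx} {n : ℕ} (e : Fin n → D.idx) (v : Fin n → σ) (hv : ∀ k, w (v k) = e k) :
    IsEquivariant g D (fun i => D.P.root (w i))
      (uProd g D e fun k => (MvPolynomial.X (v k) : MvPolynomial σ R)) :=
  isEquivariant_prod_ofFn g D _ fun k =>
    isEquivariant_monomial g D _ (e k) (Finsupp.single (v k) 1) (by rw [wt_single, one_smul, hv]) 1

variable [IsAffineHom G.hom]

theorem dev_mem_vars {φ : pt g (MvPolynomial σ R) ⟶ G}
    (h : pmap g (MvPolynomial.aeval (fun _ : σ => (0 : R))) ≫ φ = 1) (a : Crd g G) :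
    dev g φ a ∈ idealOfVars σ R ^ 1 := by
  have h1 := congrArg (fun z => dev g z a) h
  simp only [dev_pmap, dev_one, LinearMap.zero_apply] at h1
  refine (MvPolynomial.mem_pow_idealOfVars_iff' 1 _).mpr fun x hx => ?_
  obtain rfl : x = 0 := (Finsupp.degree_eq_zero_iff _).mp (by omega)
  rw [← h1, ← MvPolynomial.constantCoeff_eq]
  exact (RingHom.congr_fun (MvPolynomial.constantCoeff_comp_algebraMap (R := R) (σ := σ)) _).symm.trans (by
    simp [MvPolynomial.aeval_def, MvPolynomial.constantCoeff_eq]) |>.trans rfl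

variable {Ψ : Set D.idx} (hΨ : IsPosSet D.P Ψ) {m : ℕ} (e : Fin m → D.idx) (he : Function.Injective e)
  (hrange : Set.range e = Ψ)

/-- the values of an equivariant point are products with polynomial coordinates -/
theorem exists_uProd_eval [Finite σ] {Ψ : Set D.idx} (hΨ : IsPosSet D.P Ψ) {m : ℕ} (e : Fin m → D.idx)
    (he : Function.Injective e) (hrange : Set.range e = Ψ) (w : σ → D.idx) (hw : ∀ i, w i ∈ Ψ)
    {φ : pt g (MvPolynomial σ R) ⟶ G} (hE : IsEquivariant g D (fun i => D.P.root (w i)) φ)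
    (h0 : pmap g (MvPolynomial.aeval (fun _ : σ => (0 : R))) ≫ φ = 1) :
    ∃ P : Fin m → MvPolynomial σ R,
      (∀ k d, (P k).coeff d ≠ 0 → d ≠ 0 ∧ wt D (fun i => D.P.root (w i)) d = D.P.root (e k)) ∧
      φ = uProd g D e P ∧
      ∀ (B : Type u) [CommRing B] [Algebra R B] (v : σ → B),
        pmap g (MvPolynomial.aeval v) ≫ φ = uProd g D e fun k => MvPolynomial.aeval v (P k) := by
  obtain ⟨P, hP, hφ⟩ := exists_eq_prodPoly g D hΨ e he hrange w hw hE (dev_mem_vars g h0)
  exact ⟨P, hP, hφ, fun B _ _ v => by rw [hφ]; exact pmap_uProd g D _ e P⟩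

include hΨ he hrange in
theorem uProd_injective : Function.Injective (uProd g D e : (Fin m → B) → _) := by
  obtain ⟨h, hh⟩ := hΨ.exists_functional
  exact fun x y hxy => prod_uPt_injective g D e he h (fun k => hh _ (hrange ▸ ⟨k, rfl⟩)) hxy

include hΨ he hrange in
/-- the product over another list of roots of the set -/
theorem exists_reorder {n : ℕ} (e' : Fin n → D.idx) (he' : ∀ k, e' k ∈ Ψ) :
    ∃ Q : Fin m → MvPolynomial (Fin n) R, ∀ (B : Type u) [CommRing B] [Algebra R B] (x : Fin n → B),
      uProd g D e' x = uProd g D e fun k => MvPolynomial.aeval x (Q k) := by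
  obtain ⟨Q, -, -, hQ⟩ := exists_uProd_eval g D hΨ e he hrange e' he'
    (isEquivariant_uProd_X (R := R) g D e' id fun k => rfl) (by
      rw [pmap_uProd]
      simp only [MvPolynomial.aeval_X]
      exact uProd_zero g D e')
  refine ⟨Q, fun B _ _ x => ?_⟩
  rw [← hQ, pmap_uProd]
  simp only [MvPolynomial.aeval_X, id_eq]

include hΨ he hrange in
/-- the group law -/
theorem exists_law :
    ∃ Q : Fin m → MvPolynomial (Fin m ⊕ Fin m) R,
      (∀ k d, (Q k).coeff d ≠ 0 → d ≠ 0 ∧
        wt D (fun i => D.P.root (Sum.elim e e i)) d = D.P.root (e k)) ∧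
      ∀ (B : Type u) [CommRing B] [Algebra R B] (x y : Fin m → B),
        uProd g D e x * uProd g D e y = uProd g D e fun k => MvPolynomial.aeval (Sum.elim x y) (Q k) := by
  obtain ⟨Q, hw, -, hQ⟩ := exists_uProd_eval g D hΨ e he hrange (Sum.elim e e)
    (fun i => by rcases i with k | k <;> exact hrange ▸ ⟨k, rfl⟩)
    (isEquivariant_mul g D (isEquivariant_uProd_X (R := R) g D e Sum.inl fun k => rfl)
      (isEquivariant_uProd_X (R := R) g D e Sum.inr fun k => rfl)) (by
      rw [MonObj.comp_mul, pmap_uProd, pmap_uProd]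
      simp only [MvPolynomial.aeval_X]
      rw [show (fun _ : Fin m => (0 : R)) = 0 from rfl, uProd_zero, _root_.one_mul])
  refine ⟨Q, hw, fun B _ _ x y => ?_⟩
  rw [← hQ, MonObj.comp_mul, pmap_uProd, pmap_uProd]
  simp only [MvPolynomial.aeval_X, Sum.elim_inl, Sum.elim_inr]

include hΨ he hrange in
/-- inverses -/
theorem exists_inv :
    ∃ Q : Fin m → MvPolynomial (Fin m) R, ∀ (B : Type u) [CommRing B] [Algebra R B] (x : Fin m → B),
        (uProd g D e x)⁻¹ = uProd g D e fun k => MvPolynomial.aeval x (Q k) := by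
  obtain ⟨Q, -, -, hQ⟩ := exists_uProd_eval g D hΨ e he hrange e (fun k => hrange ▸ ⟨k, rfl⟩)
    (isEquivariant_inv g D (isEquivariant_uProd_X (R := R) g D e id fun k => rfl)) (by
      rw [GrpObj.comp_inv, pmap_uProd]
      simp only [MvPolynomial.aeval_X]
      rw [show (fun _ : Fin m => (0 : R)) = 0 from rfl, uProd_zero, inv_one])
  refine ⟨Q, fun B _ _ x => ?_⟩
  rw [← hQ, GrpObj.comp_inv, pmap_uProd]
  simp only [MvPolynomial.aeval_X, id_eq]

variable (B) in
include hΨ he hrange in
/-- the subgroup of such products -/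
theorem exists_subgroup : ∃ U : Subgroup (pt g B ⟶ G), ∀ φ, φ ∈ U ↔ ∃ x : Fin m → B, φ = uProd g D e x := by
  obtain ⟨Q, -, hQ⟩ := exists_law g D hΨ e he hrange
  obtain ⟨Q', hQ'⟩ := exists_inv g D hΨ e he hrange
  exact ⟨{ carrier := {φ | ∃ x : Fin m → B, φ = uProd g D e x}
           one_mem' := ⟨0, (uProd_zero g D e).symm⟩
           mul_mem' := by rintro _ _ ⟨x, rfl⟩ ⟨y, rfl⟩; exact ⟨_, hQ B x y⟩
           inv_mem' := by rintro _ ⟨x, rfl⟩; exact ⟨_, hQ' B x⟩ }, fun φ => Iff.rfl⟩

end Groth.Agent.H21Split
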