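import Groth.Agent.H21Split.Words
import Groth.Agent.H21Split.CellMap

/-!
The two sets of roots on either side of a pair of opposite roots, for a functional vanishing on the pair.
-/

open CategoryTheory MonoidalCategory CartesianMonoidalCategory MonObj GrpObj AlgebraicGeometry
open Groth.Agent.H27Witt.GaCoord (gaFn_comp gaFn_surjective gaFn_injective gaFn_one)

universe u

set_option backward.isDefEq.respectTransparency false
set_option linter.style.haveILetI false
set_option linter.unusedSectionVars false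
set_option synthInstance.maxHeartbeats 400000

noncomputable section

namespace Groth.Agent.H21Split

/-- a functional nonvanishing on finitely many nonzero vectors of a lattice -/
theorem exists_dual_ne_zero {M : Type*} [AddCommGroup M] [Module.Finite ℤ M] [Module.Free ℤ M] {κ : Type*} [Finite κ]
    (v : κ → M) : ∃ f : M →+ ℤ, ∀ k, v k ≠ 0 → f (v k) ≠ 0 := by
  classical
  haveI := Fintype.ofFinite κ
  let b := Module.finBasis ℤ M
  let p : κ → Polynomial ℤ := fun k => ∑ j : Fin (Module.finrank ℤ M), Polynomial.monomial (j : ℕ) (b.repr (v k) j)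
  obtain ⟨t, ht⟩ := Infinite.exists_notMem_finset (Finset.univ.biUnion fun k => (p k).roots.toFinset)
  refine ⟨(b.constr ℤ fun j => t ^ (j : ℕ)).toAddMonoidHom, fun k hk h => ht ?_⟩
  have hp : p k ≠ 0 := by
    intro h0
    refine hk (b.repr.injective (Finsupp.ext fun j => ?_))
    have := congrArg (fun q : Polynomial ℤ => q.coeff j) h0
    simp [p, Polynomial.coeff_monomial, Fin.val_inj] at this
    simpa using this
  refine Finset.mem_biUnion.mpr ⟨k, Finset.mem_univ _, ?_⟩
  rw [Multiset.mem_toFinset, Polynomial.mem_roots hp]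
  change (b.constr ℤ fun j => t ^ (j : ℕ)) (v k) = 0 at h
  rw [Module.Basis.constr_apply_fintype] at h
  simp only [Polynomial.IsRoot.def, p, Polynomial.eval_finsetSum, Polynomial.eval_monomial]
  simpa [smul_eq_mul] using h

variable {S : Scheme.{u}} {G : Over S} [GrpObj G] (D : Red.SplitRed G)

/-- a functional vanishing exactly on a pair of opposite roots -/
def IsLevi (d c : D.idx) (h : D.M →+ ℤ) : Prop :=
  D.P.root d = -D.P.root c ∧ h (D.P.root c) = 0 ∧ ∀ b, h (D.P.root b) = 0 → b = c ∨ b = d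

theorem IsLevi.symm {d c : D.idx} {h : D.M →+ ℤ} (hl : IsLevi D d c h) : IsLevi D c d h :=
  ⟨by rw [hl.1, neg_neg], by rw [hl.1, map_neg, hl.2.1, neg_zero], fun b hb => (hl.2.2 b hb).symm⟩

theorem IsLevi.neg {d c : D.idx} {h : D.M →+ ℤ} (hl : IsLevi D d c h) : IsLevi D d c (-h) :=
  ⟨hl.1, by simp [hl.2.1], fun b hb => hl.2.2 b (by simpa using hb)⟩

theorem exists_levi [D.P.IsReduced] (a : D.idx) :
    ∃ h : D.M →+ ℤ, IsLevi D (D.P.reflectionPerm a a) a h := by
  haveI := D.fintypeIdx
  haveI : Finite D.idx := Finite.of_fintype _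
  let Φ : D.M →+ D.M := 2 • AddMonoidHom.id D.M -
    AddMonoidHom.mk' (fun m => D.P.coroot a m • D.P.root a) (fun m m' => by rw [map_add, add_smul])
  have hΦ : ∀ m, Φ m = 2 • m - D.P.coroot a m • D.P.root a := fun m => rfl
  obtain ⟨f, hf⟩ := exists_dual_ne_zero (fun b => Φ (D.P.root b))
  refine ⟨f.comp Φ, by rw [D.P.root_reflectionPerm, D.P.reflection_apply_self], ?_, fun b hb => ?_⟩
  · rw [AddMonoidHom.comp_apply, hΦ, coroot_apply, D.P.root_coroot'_eq_pairing, D.P.pairing_same,
      show (2 : ℤ) • D.P.root a = 2 • D.P.root a from natCast_zsmul _ 2, sub_self, map_zero]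
  · have h0 : Φ (D.P.root b) = 0 := by
      by_contra h0
      exact hf b h0 hb
    have hdep : ¬ LinearIndependent ℤ ![D.P.root b, D.P.root a] := by
      intro hli
      have := LinearIndependent.pair_iff.mp hli 2 (-D.P.coroot a (D.P.root b)) (by
        rw [neg_smul, ← sub_eq_add_neg, show (2 : ℤ) • D.P.root b = 2 • D.P.root b from natCast_zsmul _ 2, ← hΦ, h0])
      exact two_ne_zero this.1
    rcases RootPairing.IsReduced.eq_or_eq_neg b a hdep with h | h
    · exact Or.inl (D.P.root.injective h)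
    · refine Or.inr (D.P.root.injective ?_)
      rw [h, D.P.root_reflectionPerm, D.P.reflection_apply_self]

theorem isPosSet_gt (h : D.M →+ ℤ) : IsPosSet D.P {b | 0 < h (D.P.root b)} where
  closed a b c ha hb hc := by
    simp only [Set.mem_ofPred_eq] at ha hb ⊢
    rw [← hc, map_add]
    omega
  noNeg a b ha hb hb' := by
    simp only [Set.mem_ofPred_eq] at ha hb'
    rw [hb, map_neg] at hb'
    omega

theorem isPosSet_levi {d c : D.idx} {h : D.M →+ ℤ} (hl : IsLevi D d c h) :
    IsPosSet D.P (insert c {b | 0 < h (D.P.root b)}) := by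
  haveI := D.fintypeIdx
  let ψ : D.M →+ ℤ := (D.P.coroot c).toAddMonoidHom
  let K : ℤ := 1 + ∑ b, |ψ (D.P.root b)|
  have hc2 : ψ (D.P.root c) = 2 := by
    change D.P.coroot c (D.P.root c) = 2
    rw [coroot_apply, D.P.root_coroot'_eq_pairing, D.P.pairing_same]
  have key : insert c {b | 0 < h (D.P.root b)} = {b | 0 < (K • h + ψ) (D.P.root b)} := by
    ext b
    simp only [Set.mem_insert_iff, Set.mem_ofPred_eq, AddMonoidHom.add_apply, AddMonoidHom.smul_apply, smul_eq_mul]
    have hbd : |ψ (D.P.root b)| < K := by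
      have := Finset.single_le_sum (f := fun x => |ψ (D.P.root x)|) (fun x _ => abs_nonneg _) (Finset.mem_univ b)
      simp only [K]
      omega
    rw [abs_lt] at hbd
    constructor
    · rintro (rfl | hb)
      · rw [hl.2.1, mul_zero, zero_add, hc2]; norm_num
      · nlinarith
    · intro hb
      rcases lt_trichotomy (h (D.P.root b)) 0 with hb0 | hb0 | hb0
      · nlinarith
      · rcases hl.2.2 b hb0 with rfl | rfl
        · exact Or.inl rfl
        · exfalso
          rw [hb0, mul_zero, zero_add, hl.1, map_neg, hc2] at hb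
          omega
      · exact Or.inr hb0
  rw [key]
  exact isPosSet_gt D _

variable {n : ℕ} (ev : Fin n → D.idx)

/-- conjugation by a root group of the pair preserves the products over one side -/
theorem exists_conj_side {d c : D.idx} {h : D.M →+ ℤ} (hl : IsLevi D d c h) (he : Function.Injective ev)
    (hrange : Set.range ev = {b | 0 < h (D.P.root b)}) {X : Over S} (x : X ⟶ Red.Ga S)
    (v : Fin n → (X ⟶ Red.Ga S)) :
    ∃ w : Fin n → (X ⟶ Red.Ga S), xProd D ev w = (x ≫ D.u c) * xProd D ev v * (x ≫ D.u c)⁻¹ := by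
  classical
  rcases Nat.eq_zero_or_pos n with rfl | hn
  · refine ⟨v, ?_⟩
    rw [xProd_one D ev v (fun k => k.elim0), _root_.mul_one, mul_inv_cancel]
  let e : Fin (n + 1) → D.idx := Fin.cons c ev
  have hpos : ∀ k, 0 < h (D.P.root (ev k)) := fun k =>
    (hrange ▸ ⟨k, rfl⟩ : ev k ∈ {b | 0 < h (D.P.root b)})
  have he' : Function.Injective e := by
    rw [Fin.cons_injective_iff]
    exact ⟨fun ⟨k, hk⟩ => (hk ▸ hpos k : 0 < h (D.P.root c)).ne' hl.2.1, he⟩
  have hr' : Set.range e = insert c {b | 0 < h (D.P.root b)} := by rw [Fin.range_cons, hrange]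
  let w : Option (Fin n) → D.idx := fun o => o.elim c ev
  obtain ⟨Q, hQw, hQZ, hQ⟩ := exists_global_eval D (isPosSet_levi D hl) e he' hr' w
    (fun o => hr' ▸ by rcases o with _ | k; exacts [⟨0, rfl⟩, ⟨k.succ, rfl⟩]) (Set.range some)
    (fun X z => (z none ≫ D.u c) * xProd D ev (fun k => z (some k)) * (z none ≫ D.u c)⁻¹)
    (fun X Y f z => by rw [MonObj.comp_mul, MonObj.comp_mul, GrpObj.comp_inv, comp_xProd, Category.assoc])
    (fun X t z z' hz => by
      obtain ⟨y, hy, hy2⟩ := (D.rootHom c).2.2 X t (z none)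
      rw [xProd_scale D t ev _ _ fun k => hz (some k), gaFn_injective ((hz none).trans hy2.symm), hy]
      group)
    (fun X => by
      rw [xProd_one D ev _ (fun _ => rfl), _root_.mul_one, mul_inv_cancel])
    (fun X z hz => by
      rw [xProd_one D ev _ (fun k => hz _ ⟨k, rfl⟩), _root_.mul_one, mul_inv_cancel])
  have hQ0 : Q 0 = 0 := MvPolynomial.ext _ _ fun m => by
    by_contra hm
    rw [MvPolynomial.coeff_zero] at hm
    obtain ⟨_, ⟨k, rfl⟩, hk⟩ := hQZ ⟨some ⟨0, hn⟩, ⟨_, rfl⟩⟩ 0 m hm
    have hwt := congrArg h (hQw 0 m hm).2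
    rw [wt, Finsupp.sum, map_sum, show e 0 = c from rfl, hl.2.1] at hwt
    refine (Finset.sum_pos' (fun o _ => ?_) ⟨some k, Finsupp.mem_support_iff.mpr hk, ?_⟩).ne' hwt
    · rw [map_nsmul]
      refine nsmul_nonneg ?_ _
      rcases o with _ | j
      · exact hl.2.1.ge
      · exact (hpos j).le
    · rw [map_nsmul]
      exact nsmul_pos (hpos k) hk
  choose z hz using fun k => gaFn_surjective (X := X)
    (MvPolynomial.eval₂ X.hom.appTop.hom (fun o => Red.gaFn (Option.elim o x v)) (Q k))
  refine ⟨fun k => z k.succ, ?_⟩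
  have hz0 : z 0 = 1 := gaFn_injective (by rw [hz, hQ0, MvPolynomial.eval₂_zero, gaFn_one])
  refine Eq.trans ?_ ((hQ X (fun o => Option.elim o x v) z).mpr hz)
  rw [xProd, xProd, List.ofFn_succ, List.prod_cons, hz0, MonObj.one_comp, _root_.one_mul]
  rfl

end Groth.Agent.H21Split
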