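import Groth.Agent.H21Split.Tangent
import Groth.Agent.H21Split.Coords
import Groth.Agent.H8Props.FieldDimFibre
import Mathlib.Algebra.DualNumber

/-!
Points with values in dual numbers close to the unit, and the bound on their number over geometric points.
-/

open CategoryTheory MonoidalCategory CartesianMonoidalCategory MonObj GrpObj AlgebraicGeometry
open CategoryTheory.Limits
open TrivSqZeroExt (inl inr fst snd)

universe u

set_option backward.isDefEq.respectTransparency false
set_option linter.style.haveILetI false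
set_option synthInstance.maxHeartbeats 400000

noncomputable section

namespace Groth.Agent.H21Split

section Ring

variable {R : Type u} [CommRing R] {B : Type u} [CommRing B] [Algebra R B] {B' : Type u} [CommRing B']
  [Algebra R B']

/-- reduction of dual numbers -/
def fstA : DualNumber B →ₐ[R] B := TrivSqZeroExt.fstHom R B B

theorem fstA_apply (x : DualNumber B) : fstA (R := R) x = TrivSqZeroExt.fst x := rfl

/-- the map of dual numbers sending `ε` to `c ε` -/
def dn (c : B) : DualNumber R →ₐ[R] DualNumber B where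
  toFun x := inl (algebraMap R B (TrivSqZeroExt.fst x)) + inr (c * algebraMap R B (TrivSqZeroExt.snd x))
  map_one' := by ext <;> simp
  map_zero' := by ext <;> simp
  map_add' x y := by ext <;> simp [mul_add]
  map_mul' x y := by
    ext
    · simp
    · simp; ring
  commutes' r := by
    ext <;> simp [TrivSqZeroExt.algebraMap_eq_inl']

theorem fst_dn (c : B) (x : DualNumber R) :
    TrivSqZeroExt.fst (dn c x) = algebraMap R B (TrivSqZeroExt.fst x) := by
  simp [dn]

theorem snd_dn (c : B) (x : DualNumber R) :
    TrivSqZeroExt.snd (dn c x) = c * algebraMap R B (TrivSqZeroExt.snd x) := by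
  simp [dn]

theorem dn_eps (c : B) : dn (R := R) c DualNumber.eps = inr c := by
  ext
  · rw [fst_dn]; simp
  · rw [snd_dn]; simp

/-- functoriality of dual numbers -/
def dnMap (f : B →ₐ[R] B') : DualNumber B →ₐ[R] DualNumber B' where
  toFun x := inl (f (TrivSqZeroExt.fst x)) + inr (f (TrivSqZeroExt.snd x))
  map_one' := by ext <;> simp
  map_zero' := by ext <;> simp
  map_add' x y := by ext <;> simp
  map_mul' x y := by
    ext
    · simp
    · simp
  commutes' r := by
    ext <;> simp [TrivSqZeroExt.algebraMap_eq_inl']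

theorem fst_dnMap (f : B →ₐ[R] B') (x : DualNumber B) :
    TrivSqZeroExt.fst (dnMap f x) = f (TrivSqZeroExt.fst x) := by simp [dnMap]

theorem snd_dnMap (f : B →ₐ[R] B') (x : DualNumber B) :
    TrivSqZeroExt.snd (dnMap f x) = f (TrivSqZeroExt.snd x) := by simp [dnMap]

/-- rescaling of dual numbers -/
def scl (c : B) : DualNumber B →ₐ[R] DualNumber B where
  toFun x := inl (TrivSqZeroExt.fst x) + inr (c * TrivSqZeroExt.snd x)
  map_one' := by ext <;> simp
  map_zero' := by ext <;> simp
  map_add' x y := by ext <;> simp [mul_add]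
  map_mul' x y := by
    ext
    · simp
    · simp; ring
  commutes' r := by
    ext <;> simp [TrivSqZeroExt.algebraMap_eq_inl']

theorem fst_scl (c : B) (x : DualNumber B) : TrivSqZeroExt.fst (scl (R := R) c x) = TrivSqZeroExt.fst x := by
  simp [scl]

theorem snd_scl (c : B) (x : DualNumber B) :
    TrivSqZeroExt.snd (scl (R := R) c x) = c * TrivSqZeroExt.snd x := by
  simp [scl]

/-- the square zero ideal of dual numbers -/
def epsIdeal (B : Type u) [CommRing B] : Ideal (DualNumber B) :=
  RingHom.ker (TrivSqZeroExt.fstHom B B B)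

theorem mem_epsIdeal {x : DualNumber B} : x ∈ epsIdeal B ↔ TrivSqZeroExt.fst x = 0 := Iff.rfl

theorem epsIdeal_mul : epsIdeal B * epsIdeal B = ⊥ := by
  refine le_bot_iff.mp (Ideal.mul_le.mpr fun x hx y hy => ?_)
  rw [mem_epsIdeal] at hx hy
  refine Ideal.mem_bot.mpr (TrivSqZeroExt.ext ?_ ?_)
  · simp [hx]
  · simp [hx, hy]

/-- the second coordinate, linearly -/
def sndL : DualNumber B →ₗ[R] B :=
  { toFun := TrivSqZeroExt.snd, map_add' := fun _ _ => rfl, map_smul' := fun _ _ => rfl }

theorem sndL_apply (x : DualNumber B) : sndL (R := R) x = TrivSqZeroExt.snd x := rfl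

end Ring

variable {S : Scheme.{u}} {R : Type u} [CommRing R] (g : Spec (CommRingCat.of R) ⟶ S)
variable {B : Type u} [CommRing B] [Algebra R B] {B' : Type u} [CommRing B'] [Algebra R B']
variable {G : Over S} [GrpObj G]

/-- a point with values in dual numbers which reduces to the unit -/
def IsLie (φ : pt g (DualNumber B) ⟶ G) : Prop := pmap g fstA ≫ φ = 1

/-- the derivation of such a point -/
def lieDev (φ : pt g (DualNumber B) ⟶ G) : Crd g G →ₗ[R] B := sndL ∘ₗ dev g φ

theorem lieDev_apply (φ : pt g (DualNumber B) ⟶ G) (a : Crd g G) :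
    lieDev g φ a = TrivSqZeroExt.snd (dev g φ a) := rfl

variable {g}

theorem IsLie.fst_dev {φ : pt g (DualNumber B) ⟶ G} (h : IsLie g φ) (a : Crd g G) :
    TrivSqZeroExt.fst (dev g φ a) = 0 := by
  have := dev_pmap g fstA φ a
  rw [h, dev_one] at this
  exact this.symm

theorem IsLie.dev_eq {φ : pt g (DualNumber B) ⟶ G} (h : IsLie g φ) (a : Crd g G) :
    dev g φ a = inr (lieDev g φ a) :=
  TrivSqZeroExt.ext (by rw [h.fst_dev]; simp) (by rw [lieDev_apply]; simp)

theorem IsLie.isDer {φ : pt g (DualNumber B) ⟶ G} (h : IsLie g φ) : IsDer (eps g G) (lieDev g φ) := by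
  intro a b
  simp only [lieDev_apply, dev_mul_apply g φ a b, TrivSqZeroExt.snd_add, DualNumber.snd_mul, h.fst_dev,
    TrivSqZeroExt.algebraMap_eq_inl', TrivSqZeroExt.fst_inl, TrivSqZeroExt.snd_inl]
  ring

theorem isLie_one : IsLie g (1 : pt g (DualNumber B) ⟶ G) := MonObj.comp_one _

theorem IsLie.mul {φ ψ : pt g (DualNumber B) ⟶ G} (h : IsLie g φ) (h' : IsLie g ψ) : IsLie g (φ * ψ) := by
  unfold IsLie
  rw [MonObj.comp_mul, h, h', _root_.one_mul]

theorem IsLie.pmap_dn (c : B) {φ : pt g (DualNumber R) ⟶ G} (h : IsLie g φ) :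
    IsLie g (pmap g (dn c) ≫ φ) := by
  unfold IsLie
  rw [← Category.assoc, pmap_comp,
    show (fstA (R := R) (B := B)).comp (dn c) = (Algebra.ofId R B).comp (fstA (R := R) (B := R)) from
      AlgHom.ext fun x => by simp [fstA_apply, fst_dn, Algebra.ofId_apply],
    ← pmap_comp, Category.assoc, h, MonObj.comp_one]

theorem lieDev_pmap_dn (c : B) (φ : pt g (DualNumber R) ⟶ G) (a : Crd g G) :
    lieDev g (pmap g (dn c) ≫ φ) a = c * algebraMap R B (lieDev g φ a) := by
  rw [lieDev_apply, dev_pmap, snd_dn, lieDev_apply]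

theorem IsLie.pmap_dnMap (f : B →ₐ[R] B') {φ : pt g (DualNumber B) ⟶ G} (h : IsLie g φ) :
    IsLie g (pmap g (dnMap f) ≫ φ) := by
  unfold IsLie
  rw [← Category.assoc, pmap_comp,
    show (fstA (R := R) (B := B')).comp (dnMap f) = f.comp (fstA (R := R) (B := B)) from
      AlgHom.ext fun x => by simp [fstA_apply, fst_dnMap],
    ← pmap_comp, Category.assoc, h, MonObj.comp_one]

theorem lieDev_pmap_dnMap (f : B →ₐ[R] B') (φ : pt g (DualNumber B) ⟶ G) (a : Crd g G) :
    lieDev g (pmap g (dnMap f) ≫ φ) a = f (lieDev g φ a) := by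
  rw [lieDev_apply, dev_pmap, snd_dnMap, lieDev_apply]

theorem IsLie.pmap_scl (c : B) {φ : pt g (DualNumber B) ⟶ G} (h : IsLie g φ) :
    IsLie g (pmap g (scl c) ≫ φ) := by
  unfold IsLie
  rw [← Category.assoc, pmap_comp,
    show (fstA (R := R) (B := B)).comp (scl c) = fstA from
      AlgHom.ext fun x => by simp [fstA_apply, fst_scl], h]

theorem lieDev_pmap_scl (c : B) (φ : pt g (DualNumber B) ⟶ G) (a : Crd g G) :
    lieDev g (pmap g (scl c) ≫ φ) a = c * lieDev g φ a := by
  rw [lieDev_apply, dev_pmap, snd_scl, lieDev_apply]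

theorem lieDev_one : lieDev g (1 : pt g (DualNumber B) ⟶ G) = 0 := by simp [lieDev, dev_one]

variable [IsAffineHom G.hom]

theorem lieDev_mul {φ ψ : pt g (DualNumber B) ⟶ G} (h : IsLie g φ) (h' : IsLie g ψ) :
    lieDev g (φ * ψ) = lieDev g φ + lieDev g ψ := by
  refine LinearMap.ext fun a => ?_
  rw [lieDev_apply, dev_mul_of_mul_eq_bot g (epsIdeal B) (epsIdeal B) epsIdeal_mul φ ψ
    (fun a => h.fst_dev a) (fun a => h'.fst_dev a)]
  rfl

theorem eq_of_lieDev {φ ψ : pt g (DualNumber B) ⟶ G} (h : IsLie g φ) (h' : IsLie g ψ)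
    (he : lieDev g φ = lieDev g ψ) : φ = ψ :=
  dev_injective g (LinearMap.ext fun a => by rw [h.dev_eq, h'.dev_eq, he])

theorem isLie_prod {κ : Type*} (l : List κ) (φ : κ → (pt g (DualNumber B) ⟶ G)) (h : ∀ k, IsLie g (φ k)) :
    IsLie g (l.map φ).prod ∧ lieDev g (l.map φ).prod = (l.map fun k => lieDev g (φ k)).sum := by
  induction l with
  | nil => exact ⟨isLie_one, lieDev_one⟩
  | cons k l ih =>
    simp only [List.map_cons, List.prod_cons, List.sum_cons]
    exact ⟨(h k).mul ih.1, by rw [lieDev_mul (h k) ih.1, ih.2]⟩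

theorem exists_lie_of_isDer {D : Crd g G →ₗ[R] B} (hD : IsDer (eps g G) D) :
    ∃ φ : pt g (DualNumber B) ⟶ G, IsLie g φ ∧ lieDev g φ = D := by
  let f : Crd g G →ₐ[R] DualNumber B :=
    { toFun := fun a => inl (algebraMap R B (eps g G a)) + inr (D a)
      map_one' := by
        have h1 := hD.map_algebraMap 1
        rw [map_one] at h1
        ext <;> simp [h1]
      map_zero' := by ext <;> simp
      map_add' := fun a b => by ext <;> simp
      map_mul' := fun a b => by
        ext
        · simp
        · simp [hD a b]; ring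
      commutes' := fun r => by
        ext <;> simp [hD.map_algebraMap, TrivSqZeroExt.algebraMap_eq_inl'] }
  obtain ⟨φ, hφ⟩ := fn_surjective g f
  refine ⟨φ, fn_injective g ?_, LinearMap.ext fun a => ?_⟩
  · rw [fn_pmap, hφ, fn_one]
    exact AlgHom.ext fun a => by simp [f, fstA_apply, Algebra.ofId_apply]
  · rw [lieDev_apply]
    have : dev g φ a = inr (D a) := by
      simp [dev, hφ, f, Algebra.ofId_apply, TrivSqZeroExt.algebraMap_eq_inl']
    rw [this]
    simp

omit [GrpObj G] [IsAffineHom G.hom] in
theorem locallyOfFiniteType_of_smooth [Smooth G.hom] : LocallyOfFiniteType G.hom := inferInstance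

omit [GrpObj G] in
theorem smooth_crd [Smooth G.hom] : Algebra.Smooth R (Crd g G) := by
  haveI := isAffine_pb g (G := G)
  have h : ((Scheme.ΓSpecIso (CommRingCat.of R)).inv ≫ (pullback.snd G.hom g).appTop).hom.Smooth := by
    have h0 : RingHom.Smooth (pullback.snd G.hom g).appTop.hom :=
      (HasRingHomProperty.iff_of_isAffine (P := @Smooth)).mp inferInstance
    rw [CommRingCat.hom_comp]
    exact (RingHom.Smooth.respectsIso).2 _
      (Scheme.ΓSpecIso (CommRingCat.of R)).symm.commRingCatIsoToRingEquiv h0
  exact h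

omit [GrpObj G] [IsAffineHom G.hom] in
/-- the dimension of a geometric fibre does not depend on the geometric point -/
theorem dim_geometric [LocallyOfFiniteType G.hom] {K : Type u} [Field K] (a : Spec (CommRingCat.of K) ⟶ S) :
    topologicalKrullDim ↥(pullback G.hom a) =
      topologicalKrullDim ↥(Red.geomFibre (a.base (IsLocalRing.closedPoint K)) G).left := by
  set s := a.base (IsLocalRing.closedPoint K)
  let α := Scheme.descResidueField (Scheme.stalkClosedPointTo a)
  have ha : Spec.map α ≫ S.fromSpecResidueField s = a :=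
    Scheme.descResidueField_stalkClosedPointTo_fromSpecResidueField K S a
  letI : Algebra (S.residueField s) K := α.hom.toAlgebra
  haveI : LocallyOfFiniteType (pullback.snd G.hom (S.fromSpecResidueField s)) := inferInstance
  have key : ∀ (L : Type u) [Field L] [Algebra (S.residueField s) L] (b : Spec (CommRingCat.of L) ⟶ S),
      Spec.map (CommRingCat.ofHom (algebraMap (S.residueField s) L)) ≫ S.fromSpecResidueField s = b →
      topologicalKrullDim ↥(pullback G.hom b) =
        topologicalKrullDim ↥(pullback G.hom (S.fromSpecResidueField s)) := by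
    intro L _ _ b hb
    subst hb
    rw [← (Scheme.homeoOfIso (pullbackLeftPullbackSndIso G.hom (S.fromSpecResidueField s)
      (Spec.map (CommRingCat.ofHom (algebraMap (S.residueField s) L))))).isHomeomorph.topologicalKrullDim_eq]
    exact H8Props.FieldDim.dim_baseChange (k := S.residueField s) (K := L)
      (pullback.snd G.hom (S.fromSpecResidueField s)) _ _
      (IsPullback.of_hasPullback (pullback.snd G.hom (S.fromSpecResidueField s))
        (Spec.map (CommRingCat.ofHom (algebraMap (S.residueField s) L))))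
  rw [key K a ha]
  exact (key (AlgebraicClosure (S.residueField s)) (Red.geomPt s) rfl).symm

end Groth.Agent.H21Split
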