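import Groth.Agent.H21Split.Centre

/-!
The big cell meets the normaliser of the torus in the torus.
-/

open CategoryTheory MonoidalCategory CartesianMonoidalCategory MonObj GrpObj AlgebraicGeometry
open Groth.Agent.H27Witt.GaCoord (gaFn_comp gaFn_surjective gaFn_injective gaFn_one)

universe u

set_option backward.isDefEq.respectTransparency false
set_option linter.style.haveILetI false
set_option linter.unusedSectionVars false
set_option synthInstance.maxHeartbeats 400000

noncomputable section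

namespace Groth.Agent.H21Split

variable {S : Scheme.{u}} {G : Over S} [GrpObj G] (D : Red.SplitRed G)

theorem cell_swap {H : Type*} [Group H] {U T V W c T' V' : H} (hV : c * V' * c⁻¹ = V)
    (h : U * (T * V) * c = T' * W) : U * (T * c * V') = T' * W := by
  rw [← h, ← hV]; group

theorem cell_swap' {H : Type*} [Group H] {U U' T V T' : H} (hU : T' * U * T'⁻¹ = U') :
    T' * (U * (T * V)) = U' * (T' * T * V) := by
  rw [← hU]; group

set_option maxHeartbeats 1600000 in
/-- a cell point normalising the torus is its torus component -/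
theorem cell_eq_torus_of_normalizes {n m : ℕ} {en : Fin n → D.idx} {ep : Fin m → D.idx} (hD : IsCellData D en ep)
    {X : Over S} (x : X ⟶ RedSub.pow (Red.Ga S) n ⊗ (D.T ⊗ RedSub.pow (Red.Ga S) m))
    (hnorm : ∀ (X' : Over S) (y : X' ⟶ X) (t : X' ⟶ D.T), ∃ t' : X' ⟶ D.T,
      (y ≫ x ≫ RedSub.cellMap D en ep) * (t ≫ D.i) * (y ≫ x ≫ RedSub.cellMap D en ep)⁻¹ = t' ≫ D.i) :
    x ≫ RedSub.cellMap D en ep = (x ≫ snd _ _ ≫ fst _ _) ≫ D.i := by
  haveI := isAffineHom_hom D
  refine hom_ext_pt fun R _ g₀ j => ?_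
  obtain ⟨χ, hχ⟩ := exists_tPt g₀ D ((j ≫ x) ≫ snd _ _ ≫ fst _ _)
  obtain ⟨h, hneg, hpos⟩ := hD.functional
  have hc : j ≫ x ≫ RedSub.cellMap D en ep =
      cellPt g₀ D en ep (gvs g₀ ((j ≫ x) ≫ fst _ _)) χ (gvs g₀ ((j ≫ x) ≫ snd _ _ ≫ snd _ _)) := by
    rw [← Category.assoc, comp_cellMap g₀ D en ep (j ≫ x) χ hχ]
  set a := gvs g₀ ((j ≫ x) ≫ fst _ _)
  set b := gvs g₀ ((j ≫ x) ≫ snd _ _ ≫ snd _ _)
  obtain ⟨t', ht'⟩ := hnorm (pt g₀ (LaurentPolynomial R)) (pmap g₀ (lconst R R) ≫ j)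
    (ds g₀ (cz R D h) ≫ D.split.inv.hom.hom)
  obtain ⟨χ', hχ'⟩ := exists_tPt g₀ D t'
  have e0 : (ds g₀ (cz R D h) ≫ D.split.inv.hom.hom) ≫ D.i = tPt g₀ D (cz R D h) := by
    rw [tPt, Category.assoc]
  rw [Category.assoc, hc, pmap_cellPt, e0, ← hχ', mul_inv_eq_iff_eq_mul] at ht'
  set χ₁ := (lconst R R).toRingHom.toMonoidHom.comp χ
  let bi : Fin m → LaurentPolynomial R := fun k => LaurentPolynomial.T (-h (D.P.root (ep k))) * lconst R R (b k)
  have e2 : cellPt g₀ D en ep (fun k => lconst R R (a k)) (χ₁ * cz R D h) bi =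
      cellPt g₀ D en ep (fun k => χ' (Multiplicative.ofAdd (D.P.root (en k))) * lconst R R (a k)) (χ' * χ₁)
        (fun k => lconst R R (b k)) := by
    rw [cellPt] at ht'
    rw [cellPt, cellPt, tPt_mul, tPt_mul, ← cell_swap' (tPt_conj_uProd g₀ D χ' en _)]
    refine cell_swap ?_ ht'
    rw [tPt_conj_uProd]
    congr 1
    funext k
    rw [cz_apply, ← _root_.mul_assoc, ← LaurentPolynomial.T_add, add_neg_cancel, LaurentPolynomial.T_zero,
      _root_.one_mul]
  obtain ⟨h1, h2, h3⟩ := cellPt_injective g₀ D hD e2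
  have hu : ∀ y : Multiplicative D.M, IsUnit (χ₁ y) := fun y => (IsUnit.map χ₁ (Group.isUnit y))
  have hcz : χ' = cz R D h := MonoidHom.ext fun y => by
    have := DFunLike.congr_fun h2 y
    rw [MonoidHom.mul_apply, MonoidHom.mul_apply, mul_comm (χ' y)] at this
    exact ((hu y).mul_left_cancel this).symm
  have hT : ∀ (k : ℤ) (r : R), k ≠ 0 → lconst R R r = LaurentPolynomial.T k * lconst R R r → r = 0 := fun k r hk hb => by
    rw [lconst_apply, mul_comm, ← LaurentPolynomial.single_eq_C_mul_T] at hb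
    have := congrArg (fun z : LaurentPolynomial R => z.coeff 0) hb
    rwa [LaurentPolynomial.C_apply, if_pos rfl, AddMonoidAlgebra.coeff_single,
      Finsupp.single_eq_of_ne (Ne.symm hk)] at this
  have ha : a = 0 := funext fun k => hT _ _ (hneg k).ne (by have := congrFun h1 k; rwa [hcz, cz_apply] at this)
  have hb : b = 0 := funext fun k => hT _ _ (neg_ne_zero.mpr (hpos k).ne') (congrFun h3 k).symm
  rw [hc, ha, hb, cellPt, uProd_zero, uProd_zero, _root_.one_mul, _root_.mul_one, hχ]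
  simp only [Category.assoc]

end Groth.Agent.H21Split
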