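import Groth.Agent.H21Split.Bru.Unique
import Groth.Agent.H21Split.Bru.Maximal
import Groth.Agent.H21Split.Normalizer
import Groth.Agent.H21Split.Centre
import Groth.Agent.H21Split.Red0.GeomSplit
import Groth.Agent.H21Split.Red0.BaseExists
import Groth.Agent.S16611
import Groth.Agent.S5286

/-!
The normaliser of the torus of a split group acts through the Weyl group.
-/

open CategoryTheory MonoidalCategory CartesianMonoidalCategory MonObj GrpObj AlgebraicGeometry
open CategoryTheory.Limits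
open Groth.Agent.H21Root (wl sr)

universe u

set_option autoImplicit false
set_option backward.isDefEq.respectTransparency false
set_option linter.style.haveILetI false
set_option linter.unusedSectionVars false
set_option synthInstance.maxHeartbeats 400000
set_option maxHeartbeats 1000000

noncomputable section

namespace Groth.Agent.H21Split.NormW

theorem regroup {H : Type*} [Group H] (a b c d : H) (h₁ : b * c = c * b) (h₂ : d * c = c * d) :
    a * b * (d⁻¹ * c⁻¹) = a * c⁻¹ * (b * d⁻¹) := by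
  have e₁ : Commute b c⁻¹ := (show Commute b c from h₁).inv_right
  have e₂ : Commute d⁻¹ c⁻¹ := (show Commute d c from h₂).inv_inv
  calc a * b * (d⁻¹ * c⁻¹) = a * (b * (c⁻¹ * d⁻¹)) := by rw [e₂.eq, _root_.mul_assoc]
    _ = a * (b * c⁻¹ * d⁻¹) := by rw [_root_.mul_assoc b]
    _ = a * (c⁻¹ * b * d⁻¹) := by rw [e₁.eq]
    _ = _ := by group

theorem eq_one_of_top {Y : Scheme.{u}} {A B : Over Y} [GrpObj B] (u : A ⟶ B)
    (h : (Over.pullback (⊤ : Y.Opens).ι).map u = 1) : u = 1 :=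
  haveI : IsIso (⊤ : Y.Opens).ι := (Scheme.topIso Y).isIso_hom
  haveI : (Over.pullback (⊤ : Y.Opens).ι).Faithful := ⟨fun {X₁ X₂} a b e => by
    have e' := congrArg (fun w => w.left ≫ pullback.fst _ _) e
    simp only [Over.pullback_map_left, pullback.lift_fst] at e'
    exact Over.OverMorphism.ext ((cancel_epi _).mp e')⟩
  (Over.pullback (⊤ : Y.Opens).ι).map_injective
    (h.trans (map_one (Functor.homMonoidHom (Over.pullback (⊤ : Y.Opens).ι))).symm)

variable {S : Scheme.{u}} {G : Over S} [GrpObj G] (D : Red.SplitRed G)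

theorem wMap_wl (l : List D.idx) :
    wMap D (wl D.P l.reverse) =
      ((l.map fun a => D.P.reflection a).prod : D.M ≃ₗ[ℤ] D.M).toLinearMap.toAddMonoidHom := by
  induction l with
  | nil => rw [List.reverse_nil, H21Root.wl_nil, wMap_one]; rfl
  | cons a l ih =>
    rw [List.reverse_cons, H21Root.wl_append, wMap_mul, H21Root.wl_cons, H21Root.wl_nil, _root_.mul_one, wMap_sr, ih,
      List.map_cons, List.prod_cons]
    rfl

/-- the map of the torus given by a map of characters -/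
def torusMap (φ : D.M →+ D.M) : D.T ⟶ D.T :=
  D.split.hom.hom.hom ≫ Red.DSmap S φ ≫ D.split.inv.hom.hom

theorem tPt_torusMap {R : Type u} [CommRing R] (g : Spec (CommRingCat.of R) ⟶ S) {B : Type u} [CommRing B]
    [Algebra R B] (χ : Multiplicative D.M →* B) (φ : D.M →+ D.M) :
    (ds g χ ≫ D.split.inv.hom.hom) ≫ torusMap D φ ≫ D.i = tPt g D (χ.comp (AddMonoidHom.toMultiplicative φ)) := by
  rw [torusMap, tPt]
  simp only [Category.assoc, reassoc_of% (split_inv_hom D)]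
  rw [← Category.assoc (ds g χ) (Red.DSmap S φ), ds_DSmap]

theorem isMonHom_torusMap (φ : D.M →+ D.M) : IsMonHom (torusMap D φ) :=
  haveI : IsMonHom (Red.DSmap S φ) := H21Diag.isMonHom_DSmap S φ
  inferInstanceAs (IsMonHom (D.split.hom.hom.hom ≫ Red.DSmap S φ ≫ D.split.inv.hom.hom))

theorem acts_eq {n : 𝟙_ (Over S) ⟶ G} {φ : D.M →+ D.M} (h : Acts D n φ) {X : Over S} (t : X ⟶ D.T) :
    (toUnit X ≫ n) * (t ≫ D.i) * (toUnit X ≫ n)⁻¹ = t ≫ torusMap D φ ≫ D.i := by
  haveI := isAffineHom_hom D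
  refine hom_ext_pt fun R _ g j => ?_
  obtain ⟨χ, hχ⟩ := ds_surjective g ((j ≫ t) ≫ D.split.hom.hom.hom)
  have ht : (j ≫ t) = ds g χ ≫ D.split.inv.hom.hom := by
    rw [hχ, Category.assoc, split_hom_inv, Category.comp_id]
  rw [MonObj.comp_mul, MonObj.comp_mul, GrpObj.comp_inv, ← Category.assoc j (toUnit X),
    toUnit_unique (j ≫ toUnit X) (toUnit _), ← Category.assoc j t, ← Category.assoc j t, ht, tPt_torusMap,
    Category.assoc, ← tPt, h R g R χ]

/-- a field valued point normalising the torus is a Weyl representative times a torus point -/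
theorem exists_word [D.P.IsReduced] {K : Type u} [Field K] (g : Spec (CommRingCat.of K) ⟶ S) (z : pt g K ⟶ G)
    (hz : ∀ (X' : Over S) (y : X' ⟶ pt g K) (t : X' ⟶ D.T), ∃ t' : X' ⟶ D.T,
      (y ≫ z) * (t ≫ D.i) * (y ≫ z)⁻¹ = t' ≫ D.i) :
    ∃ (l : List D.idx) (t₀ : pt g K ⟶ D.T), z = sec g (nW D l) * (t₀ ≫ D.i) := by
  classical
  haveI := isAffineHom_hom D
  haveI := D.fintypeIdx
  haveI : Nonempty S := ⟨g.base (IsLocalRing.closedPoint K)⟩
  obtain ⟨b⟩ := H21Red0.nonempty_base D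
  obtain ⟨l, -, p, hp, q, hq, hpq⟩ := all_mem_BU D b g z
  obtain ⟨tp, htp, up, hup, rfl⟩ := (mem_TU D g).mp hp
  set N := sec g (nW D l) with hN
  have hn' := rl_nW_inv D l
  obtain ⟨u1, hu1, u2, hu2, rfl⟩ := mem_Ug_split D g
    (A := {c | (wl D.P l)⁻¹ • c ∈ RedSub.negRoots D.P b}) (isPosSet_posRoots b) hup
  have key : ∀ {Φ A : Set D.idx}, (∀ c ∈ A, (wl D.P l)⁻¹ • c ∈ Φ) → ∀ {w : pt g K ⟶ G}, w ∈ Ug D g A →
      N⁻¹ * w * N ∈ Ug D g Φ := fun h w hw => by
    have := hn'.conj_Ug D g h hw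
    rwa [sec_inv, _root_.inv_inv] at this
  have ht : N⁻¹ * tp * N ∈ Tg D g := by
    have := hn'.conj_Tg D g htp
    rwa [sec_inv, _root_.inv_inv] at this
  have hmem : N⁻¹ * z ∈ Om D g b := by
    have e : N⁻¹ * z =
        (N⁻¹ * tp * N) * ((N⁻¹ * u1 * N) * ((1 : pt g K ⟶ G) * (N⁻¹ * u2 * N * q))) := by
      rw [← hpq]; simp only [N]; group
    rw [e]
    exact Om_tg_left D b g ht (Om_neg_left D b g (key (fun c hc => hc.2) hu1)
      (Om_bp_right D b g (mul_mem (Ug_le_Bp D b g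
        (key (fun c hc => (mem_pos_or_neg b _).resolve_right hc.2) hu2)) hq) (one_mem_Om D b g)))
  obtain ⟨n, en, hen⟩ := exists_enum D (RedSub.negRoots D.P b)
  obtain ⟨k, ep, hep⟩ := exists_enum D (RedSub.posRoots D.P b)
  obtain ⟨ω, hω⟩ := (mem_Om_iff_lift D g hen hep).mp hmem
  refine ⟨l, ω ≫ snd _ _ ≫ fst _ _, ?_⟩
  rw [← cell_eq_torus_of_normalizes D (isCellData_of_base D b hen hep).1 ω (fun X' y t => ?_), hω,
    mul_inv_cancel_left]
  obtain ⟨t', ht'⟩ := hz X' y t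
  refine ⟨t' ≫ torusMap D (wMap D (wl D.P l)⁻¹), ?_⟩
  have e : y ≫ (N⁻¹ * z) = (toUnit X' ≫ (nW D l)⁻¹) * (y ≫ z) := by
    rw [MonObj.comp_mul, hN, ← sec_inv, sec, ← Category.assoc, toUnit_unique (y ≫ toUnit _) (toUnit X')]
  rw [hω, e, Category.assoc, ← acts_eq D hn'.acts t', ← ht']
  group

theorem eq_one_at {X : Over S} {K : Type u} [CommRing K] (f : Spec (CommRingCat.of K) ⟶ X.left)
    {u : Red.bc X.hom D.T ⟶ Red.bc X.hom D.T}
    (h : ∀ (V : Over (Spec (CommRingCat.of K))) (a : (Over.map f).obj V ⟶ Red.bc X.hom D.T),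
      (H21Diag.bcEquiv X.hom D.T _).symm (a ≫ u) = 1) :
    ((Over.pullback f).map u : Red.bc f (Red.bc X.hom D.T) ⟶ Red.bc f (Red.bc X.hom D.T)) = 1 := by
  let V := Red.bc f (Red.bc X.hom D.T)
  apply (H21Diag.bcEquiv f (Red.bc X.hom D.T) V).symm.injective
  rw [← Category.id_comp ((Over.pullback f).map u), H21Red0.bcEquiv_symm_comp,
    show (H21Diag.bcEquiv f (Red.bc X.hom D.T) V).symm (1 : V ⟶ _) = 1 from
      map_one (H21Diag.bcHom f (Red.bc X.hom D.T) V)]
  apply (H21Diag.bcEquiv X.hom D.T _).symm.injective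
  rw [h, show (H21Diag.bcEquiv X.hom D.T _).symm (1 : (Over.map f).obj V ⟶ _) = 1 from
    map_one (H21Diag.bcHom X.hom D.T _)]

section Disc

variable {X : Over S} (z : X ⟶ G) (φ : D.T ⟶ D.T)

/-- the tautological point of the torus over `X` -/
def pTaut : (Over.map X.hom).obj (Red.bc X.hom D.T) ⟶ D.T :=
  (H21Diag.bcEquiv X.hom D.T _).symm (𝟙 _)

/-- the structure map of the torus over `X` -/
def qTaut : (Over.map X.hom).obj (Red.bc X.hom D.T) ⟶ X := Over.homMk (Red.bc X.hom D.T).hom rfl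

theorem map_pTaut {V : Over X.left} (a : V ⟶ Red.bc X.hom D.T) :
    (Over.map X.hom).map a ≫ pTaut D = (H21Diag.bcEquiv X.hom D.T V).symm a := by
  refine ((Over.mapPullbackAdj X.hom).homEquiv_naturality_left_symm a (𝟙 _)).symm.trans ?_
  rw [Category.comp_id]
  rfl

theorem map_qTaut {V : Over X.left} (a : V ⟶ Red.bc X.hom D.T) :
    (Over.map X.hom).map a ≫ qTaut D = Over.homMk V.hom rfl := by
  ext : 1
  exact Over.w a

variable (h' : (Over.map X.hom).obj (Red.bc X.hom D.T) ⟶ D.T)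
  (hh' : (qTaut D ≫ z) * (pTaut D ≫ D.i) * (qTaut D ≫ z)⁻¹ = h' ≫ D.i)

/-- the discrepancy between conjugation and an automorphism of the torus -/
def disc : Red.bc X.hom D.T ⟶ Red.bc X.hom D.T :=
  H21Diag.bcEquiv X.hom D.T _ (h' * (pTaut D ≫ φ)⁻¹)

include hh' in
theorem map_h' {V : Over X.left} (a : V ⟶ Red.bc X.hom D.T) :
    ((Over.map X.hom).map a ≫ h') ≫ D.i =
      ((Over.homMk V.hom rfl : (Over.map X.hom).obj V ⟶ X) ≫ z) *
        ((H21Diag.bcEquiv X.hom D.T V).symm a ≫ D.i) *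
        ((Over.homMk V.hom rfl : (Over.map X.hom).obj V ⟶ X) ≫ z)⁻¹ := by
  rw [Category.assoc, ← hh', MonObj.comp_mul, MonObj.comp_mul, GrpObj.comp_inv, ← Category.assoc _ (qTaut D),
    map_qTaut, ← Category.assoc _ (pTaut D), map_pTaut]

theorem symm_disc {V : Over X.left} (a : V ⟶ Red.bc X.hom D.T) :
    (H21Diag.bcEquiv X.hom D.T V).symm (a ≫ disc D φ h') =
      ((Over.map X.hom).map a ≫ h') * ((H21Diag.bcEquiv X.hom D.T V).symm a ≫ φ)⁻¹ := by
  refine ((Over.mapPullbackAdj X.hom).homEquiv_naturality_left_symm a (disc D φ h')).trans ?_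
  have e := congrArg ((Over.map X.hom).map a ≫ ·)
    ((H21Diag.bcEquiv X.hom D.T (Red.bc X.hom D.T)).symm_apply_apply (h' * (pTaut D ≫ φ)⁻¹))
  refine e.trans ?_
  simp only [MonObj.comp_mul, GrpObj.comp_inv, ← Category.assoc, map_pTaut]

include hh' in
theorem disc_eq_one {V : Over X.left} (a : V ⟶ Red.bc X.hom D.T) :
    (H21Diag.bcEquiv X.hom D.T V).symm (a ≫ disc D φ h') = 1 ↔
      ((Over.homMk V.hom rfl : (Over.map X.hom).obj V ⟶ X) ≫ z) *
        ((H21Diag.bcEquiv X.hom D.T V).symm a ≫ D.i) *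
        ((Over.homMk V.hom rfl : (Over.map X.hom).obj V ⟶ X) ≫ z)⁻¹ =
          (H21Diag.bcEquiv X.hom D.T V).symm a ≫ φ ≫ D.i := by
  haveI := D.maximalTorus.2.1
  rw [symm_disc, mul_inv_eq_one, ← cancel_mono D.i, map_h' D z h' hh', Category.assoc]

include hh' in
theorem isMonHom_disc [IsMonHom φ] : IsMonHom (disc D φ h') := by
  haveI := D.maximalTorus.1
  haveI := D.maximalTorus.2.1
  refine H21Diag.isMonHom_of_mul _ fun {V} a b => ?_
  apply (H21Diag.bcEquiv X.hom D.T V).symm.injective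
  rw [H21Diag.bcEquiv_symm_mul, symm_disc, symm_disc, symm_disc, H21Diag.bcEquiv_symm_mul, ← cancel_mono D.i]
  have e2 : ((Over.map X.hom).map (a * b) ≫ h') ≫ D.i =
      (((Over.map X.hom).map a ≫ h') ≫ D.i) * (((Over.map X.hom).map b ≫ h') ≫ D.i) := by
    rw [map_h' D z h' hh', map_h' D z h' hh', map_h' D z h' hh', H21Diag.bcEquiv_symm_mul, MonObj.mul_comp]
    group
  simp only [MonObj.mul_comp, GrpObj.inv_comp, e2, _root_.mul_inv_rev]
  exact regroup _ _ _ _ (commute_torus D _ _) (commute_torus D _ _)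

end Disc

variable (X : Over S) [ConnectedSpace X.left] {N : Over S} (j : N ⟶ G)

/-- **The normaliser of the torus acts through the Weyl group.** -/
theorem acts_weyl [GrpObj N] (hN : Red.IsNormalizerOf D.i j) (n : X ⟶ N) :
    ∃ l : List D.idx, ∀ (X' : Over S) (y : X' ⟶ X) (t : X' ⟶ D.T),
      (y ≫ n ≫ j) * (t ≫ D.i) * (y ≫ n ≫ j)⁻¹ =
        t ≫ torusMap D (((l.map fun a => D.P.reflection a).prod : D.M ≃ₗ[ℤ] D.M).toLinearMap.toAddMonoidHom) ≫ D.i := by
  classical
  obtain ⟨x⟩ : Nonempty X.left := inferInstance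
  haveI : Nonempty S := ⟨X.hom.base x⟩
  haveI := H21Red0.isReduced_of_nonempty D
  haveI := D.maximalTorus.1
  haveI := D.maximalTorus.2.1
  haveI := D.finiteM
  haveI := D.freeM
  haveI := isAffineHom_hom D
  let K : Type u := X.left.residueField x
  let f : Spec (CommRingCat.of K) ⟶ X.left := X.left.fromSpecResidueField x
  let g : Spec (CommRingCat.of K) ⟶ S := f ≫ X.hom
  have halg : Spec.map (CommRingCat.ofHom (algebraMap K K)) = 𝟙 _ := by
    rw [show CommRingCat.ofHom (algebraMap K K) = 𝟙 _ from rfl, Spec.map_id]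
  let zx : pt g K ⟶ X := Over.homMk f (by
    change f ≫ X.hom = Spec.map (CommRingCat.ofHom (algebraMap K K)) ≫ g
    rw [halg]
    exact (Category.id_comp g).symm)
  have hnorm : ∀ {X' : Over S} (y : X' ⟶ X) (t : X' ⟶ D.T),
      ∃ t' : X' ⟶ D.T, (y ≫ n ≫ j) * (t ≫ D.i) * (y ≫ n ≫ j)⁻¹ = t' ≫ D.i := fun y t =>
    ((hN.2.2 X (n ≫ j)).mp ⟨n, rfl⟩ _ y t).1
  obtain ⟨l, t₀, hl⟩ := exists_word D g (zx ≫ n ≫ j) fun X' y t => by
    obtain ⟨t', ht'⟩ := hnorm (y ≫ zx) t
    exact ⟨t', by rw [← ht', Category.assoc]⟩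
  refine ⟨l.reverse, fun X' y t => ?_⟩
  rw [← wMap_wl, List.reverse_reverse]
  set φ := torusMap D (wMap D (wl D.P l))
  haveI : IsMonHom φ := isMonHom_torusMap D _
  -- at the point x
  have hx : ∀ (Y : Over S) (k : Y ⟶ pt g K) (t : Y ⟶ D.T),
      (k ≫ zx ≫ n ≫ j) * (t ≫ D.i) * (k ≫ zx ≫ n ≫ j)⁻¹ = t ≫ φ ≫ D.i := fun Y k t => by
    rw [hl, MonObj.comp_mul, sec, ← Category.assoc k (toUnit _), toUnit_unique (k ≫ toUnit _) (toUnit Y),
      ← Category.assoc k t₀, conj_mul', (commute_torus D (k ≫ t₀) t).eq, mul_inv_cancel_right]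
    exact acts_eq D (rl_nW D l).acts t
  -- the discrepancy as a homomorphism over X
  obtain ⟨h', hh'⟩ := hnorm (qTaut D) (pTaut D)
  haveI := isMonHom_disc D (n ≫ j) φ h' hh'
  have hT : SGA3x.IsMultTypeFT (Red.bc X.hom D.T) := Groth.Agent.S16611.multTypeFT_of_torus
    (H21Red0.isTorus_split (H21Red0.splitBc X.hom D))
  haveI : IsAffineHom (Red.bc X.hom D.T).hom := H21Diag.isAffineHom_of_multTypeFT hT
  haveI : LocallyOfFinitePresentation (Red.bc X.hom D.T).hom := H21Diag.lfp_of_multTypeFT hT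
  obtain ⟨U, hUc, hU, hUtriv⟩ := Groth.Agent.S5286.result (Red.bc X.hom D.T) (Red.bc X.hom D.T) hT
    (Or.inr ⟨inferInstance, inferInstance, inferInstance⟩) (disc D φ h')
  have hxU : x ∈ U := by
    rw [hU]
    refine eq_one_at D f fun V a => (disc_eq_one D (n ≫ j) φ h' hh' _).mpr ?_
    let Y : Over S := (Over.map X.hom).obj ((Over.map f).obj V)
    let k : Y ⟶ pt g K := Over.homMk V.hom (by
      change V.hom ≫ Spec.map (CommRingCat.ofHom (algebraMap K K)) ≫ g = (V.hom ≫ f) ≫ X.hom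
      rw [halg, Category.id_comp, Category.assoc])
    have hk : (Over.homMk ((Over.map f).obj V).hom rfl : Y ⟶ X) = k ≫ zx := by ext : 1; rfl
    rw [hk, Category.assoc]
    exact hx Y k _
  have hUtop : U = ⊤ := by
    rcases isClopen_iff.mp ⟨hUc, U.isOpen⟩ with h | h
    · exact absurd (h ▸ hxU : x ∈ (∅ : Set X.left)) (Set.notMem_empty x)
    · exact SetLike.coe_injective h
  subst hUtop
  have hu : disc D φ h' = 1 := eq_one_of_top _ hUtriv
  let V : Over X.left := Over.mk y.left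
  let isoX : (Over.map X.hom).obj V ≅ X' := Over.isoMk (Iso.refl _) (by
    change 𝟙 _ ≫ X'.hom = y.left ≫ X.hom
    rw [Category.id_comp, Over.w])
  let c : V ⟶ Red.bc X.hom D.T := H21Diag.bcEquiv X.hom D.T V (isoX.hom ≫ t)
  have h3 := (disc_eq_one D (n ≫ j) φ h' hh' c).mp (by
    rw [hu, MonObj.comp_one]; exact map_one (H21Diag.bcHom X.hom D.T V))
  rw [Equiv.symm_apply_apply] at h3
  have hy : (Over.homMk V.hom rfl : (Over.map X.hom).obj V ⟶ X) = isoX.hom ≫ y := by
    ext : 1; exact (Category.id_comp _).symm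
  rw [hy] at h3
  have h4 := congrArg (isoX.inv ≫ ·) h3
  simpa [MonObj.comp_mul, GrpObj.comp_inv] using h4

end Groth.Agent.H21Split.NormW
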