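import Groth.Agent.H21Split.Words

/-!
Products of positive root groups enumerated increasingly for a total order on the character lattice.
-/

open CategoryTheory MonoidalCategory CartesianMonoidalCategory MonObj GrpObj AlgebraicGeometry
open Groth.Agent.H27Witt.GaCoord (gaFn_comp gaFn_surjective gaFn_injective gaFn_one)

universe u

set_option backward.isDefEq.respectTransparency false
set_option linter.style.haveILetI false
set_option linter.unusedSectionVars false
set_option synthInstance.maxHeartbeats 400000

noncomputable section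

namespace Groth.Agent.H21Split

variable {S : Scheme.{u}} {G : Over S} [GrpObj G] (D : Red.SplitRed G) [LinearOrder D.M] [IsOrderedAddMonoid D.M]

theorem wt_pos {σ : Type} (w : σ → D.M) (hw : ∀ v, 0 < w v) {d : σ →₀ ℕ} (hd : d ≠ 0) : 0 < wt D w d := by
  refine Finset.sum_pos (fun v hv => ?_) (Finsupp.support_nonempty_iff.mpr hd)
  exact nsmul_pos (hw v) (Finsupp.mem_support_iff.mp hv)

/-- a variable of a monomial weighs less than the monomial, unless it is the whole monomial -/
theorem wt_cases {σ : Type} (w : σ → D.M) (hw : ∀ v, 0 < w v) {d : σ →₀ ℕ} {v : σ} (hv : d v ≠ 0) :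
    d = Finsupp.single v 1 ∨ w v < wt D w d := by
  classical
  have hsplit : Finsupp.single v 1 + (d - Finsupp.single v 1) = d :=
    add_tsub_cancel_of_le (Finsupp.single_le_iff.mpr (Nat.one_le_iff_ne_zero.mpr hv))
  rcases eq_or_ne (d - Finsupp.single v 1) 0 with h0 | h0
  · left
    rw [← hsplit, h0, add_zero]
  · right
    rw [← hsplit, wt_add, wt_single, one_smul]
    exact lt_add_of_pos_right _ (wt_pos D w hw h0)

omit [LinearOrder D.M] [IsOrderedAddMonoid D.M] in
/-- an ordered product with trivial head is the product of its tail -/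
theorem xProd_tail {X : Over S} {i m : ℕ} (e : Fin (i + m) → D.idx) (z : Fin (i + m) → (X ⟶ Red.Ga S))
    (hz : ∀ k, z (Fin.castAdd m k) = 1) :
    xProd D e z = xProd D (fun k => e (Fin.natAdd i k)) fun k => z (Fin.natAdd i k) := by
  rw [xProd, xProd, ← Fin.append_castAdd_natAdd (f := fun k => z k ≫ D.u (e k)), List.ofFn_fin_append,
    List.prod_append]
  refine (congrArg (· * _) ?_).trans (_root_.one_mul _)
  refine List.prod_eq_one fun x hx => ?_
  obtain ⟨k, rfl⟩ := List.mem_ofFn.mp hx
  rw [hz k]
  exact MonObj.one_comp (D.u (e (Fin.castAdd m k)))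

end Groth.Agent.H21Split
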