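import Groth.Agent.H21Split.HomExt
import Groth.Agent.S8458

/-!
Orthogonal simple roots: the Weyl elements commute and square to the coroot at `-1`.
-/

open CategoryTheory MonoidalCategory CartesianMonoidalCategory MonObj GrpObj AlgebraicGeometry
open CategoryTheory.Limits

universe u

set_option backward.isDefEq.respectTransparency false
set_option linter.style.haveILetI false
set_option linter.unusedSectionVars false
set_option synthInstance.maxHeartbeats 400000

noncomputable section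

namespace Groth.Agent.H21Split

variable {S : Scheme.{u}} {G : Over S} [GrpObj G] (D : Red.SplitRed G)

theorem orth_sums (b : D.P.Base) {a c : D.idx} (ha : a ∈ b.support) (hc : c ∈ b.support) (hne : a ≠ c)
    (hac : D.P.pairing a c = 0) :
    ∀ x ∈ ({a, D.P.reflectionPerm a a} : Set D.idx), ∀ y ∈ ({c, D.P.reflectionPerm c c} : Set D.idx),
      D.P.root x + D.P.root y ≠ 0 ∧ D.P.root x + D.P.root y ∉ Set.range D.P.root := by
  have hli := b.linearIndependent_pair_of_ne (i := ⟨c, hc⟩) (j := ⟨a, ha⟩) (by simp [Ne.symm hne])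
  have h1 : D.P.root a + D.P.root c ∉ Set.range D.P.root := by
    have h0 : D.P.chainTopCoeff c a = 0 := by
      have := RootPairing.Base.chainTopCoeff_eq_of_ne (b := b) (i := ⟨c, hc⟩) (j := ⟨a, ha⟩) (by simp [Ne.symm hne])
      simp only [pairingIn_int, hac, neg_zero, Nat.cast_eq_zero] at this
      exact this
    rcases D.P.chainTopCoeff_eq_zero_iff.mp h0 with h | h
    · exact absurd hli h
    · exact h
  have h2 : D.P.root a - D.P.root c ∉ Set.range D.P.root := b.sub_notMem_range_root ha hc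
  have hne1 : D.P.root a + D.P.root c ≠ 0 := fun h => by
    have := LinearIndependent.pair_iff.mp hli 1 1 (by simpa [add_comm] using h)
    omega
  have hne2 : D.P.root a - D.P.root c ≠ 0 := fun h => hne (D.P.root.injective (sub_eq_zero.mp h))
  have hrn : ∀ i : D.idx, D.P.root (D.P.reflectionPerm i i) = -D.P.root i := fun i => by
    rw [D.P.root_reflectionPerm, D.P.reflection_apply_self]
  intro x hx y hy
  rcases hx with rfl | rfl <;> rcases hy with rfl | rfl
  · exact ⟨hne1, h1⟩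
  · rw [hrn, ← sub_eq_add_neg]
    exact ⟨hne2, h2⟩
  · rw [hrn, neg_add_eq_sub, ← neg_sub (D.P.root a)]
    exact ⟨neg_ne_zero.mpr hne2, mt D.P.neg_mem_range_root_iff.mp h2⟩
  · rw [hrn, hrn, ← neg_add]
    exact ⟨neg_ne_zero.mpr hne1, mt D.P.neg_mem_range_root_iff.mp h1⟩

theorem sq_mul_of_commute {H : Type*} [Group H] {p p' q q' : H} (h1 : Commute p q) (h2 : Commute p q')
    (h3 : Commute p' q) (h4 : Commute p' q') :
    (p * p'⁻¹ * p * (q * q'⁻¹ * q)) ^ 2 = (p * p'⁻¹ * p) ^ 2 * (q * q'⁻¹ * q) ^ 2 :=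
  ((((h1.mul_left h3.inv_left).mul_left h1).mul_right ((h2.mul_left h4.inv_left).mul_left h2).inv_right).mul_right
    ((h1.mul_left h3.inv_left).mul_left h1)).mul_pow 2

/-- the square of a Weyl element -/
theorem weyl_sq (e₁ : 𝟙_ (Over S) ⟶ Red.Ga S) (he₁ : Red.gaFn e₁ = 1) (m₁ : 𝟙_ (Over S) ⟶ Red.Gm S)
    (hm₁ : Red.gmFn m₁ = -1) (a : D.idx) (av : Red.Gm S ⟶ D.T)
    (hav : av = Red.DSmap S (D.P.coroot a).toAddMonoidHom ≫ D.split.inv.hom.hom)
    (hpair : ∀ (X : Over S) (x y : X ⟶ Red.Ga S), IsUnit (1 + Red.gaFn x * Red.gaFn y) →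
        ∃ (x' y' : X ⟶ Red.Ga S) (z : X ⟶ Red.Gm S), Red.gmFn z = 1 + Red.gaFn x * Red.gaFn y ∧
          Red.gaFn x' * Red.gmFn z = Red.gaFn x ∧ Red.gaFn y' * Red.gmFn z = Red.gaFn y ∧
          (x ≫ D.u a) * (y ≫ D.u (D.P.reflectionPerm a a)) =
            (y' ≫ D.u (D.P.reflectionPerm a a)) * (z ≫ av ≫ D.i) * (x' ≫ D.u a)) :
    ((e₁ ≫ D.u a) * (e₁ ≫ D.u (D.P.reflectionPerm a a))⁻¹ * (e₁ ≫ D.u a)) ^ 2 = m₁ ≫ av ≫ D.i := by
  subst hav
  let av : Red.Gm S ⟶ D.T := Red.DSmap S (D.P.coroot a).toAddMonoidHom ≫ D.split.inv.hom.hom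
  let al : D.T ⟶ Red.Gm S := D.split.hom.hom.hom ≫ Red.chi S (D.P.root a)
  haveI : IsMonHom av := inferInstanceAs (IsMonHom (Red.DSmap S (D.P.coroot a).toAddMonoidHom ≫ D.split.inv.hom.hom))
  haveI : IsMonHom (Red.chi S (D.P.root a)) := H21Diag.isMonHom_DSmap S _
  haveI : IsMonHom al := inferInstanceAs (IsMonHom (D.split.hom.hom.hom ≫ Red.chi S (D.P.root a)))
  have hxx : Red.gaFn (e₁⁻¹) * Red.gaFn e₁ = -1 := by
    rw [H21Rank1.gaFn_inv, he₁, _root_.mul_one]
  have h := (H21Rank1.w_mul_w (i := D.i) (α := al) (pp := D.u a) (pm := D.u (D.P.reflectionPerm a a)) (av := av)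
    (hpp_root D a) (hpm_root D a) (avc_h2 D a) hpair e₁ e₁⁻¹ e₁ e₁⁻¹ hxx hxx m₁ m₁
    (by rw [hm₁, he₁, _root_.mul_one]) hm₁).2
  rw [GrpObj.inv_comp] at h
  exact h

end Groth.Agent.H21Split
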