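import Groth.Agent.H21Split.RootLemmas
import Groth.Agent.H21Root.Weyl
import Groth.Prelude.Def_RedSub

/-!
Sets of roots containing the positive roots of a base and stable under the reflections in their symmetric part.
-/

open Function Set RootPairing
open Groth.Agent.H21Root (opp root_opp)

universe u

set_option linter.unusedSectionVars false

namespace Groth.Agent.H21Split

variable {ι M N : Type} [AddCommGroup M] [AddCommGroup N] [Finite ι] {P : RootPairing ι ℤ M N}

/-- a weighted sum of the coordinates of a root in a base -/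
noncomputable def wsum (b : P.Base) (w : ι → ℤ) (i : ι) : ℤ :=
  ∑ j ∈ b.support, w j * (b.exists_root_eq_sum_int i).choose j

theorem wsum_eq (b : P.Base) (w : ι → ℤ) {i : ι} {f : ι → ℤ} (hf : P.root i = ∑ j ∈ b.support, f j • P.root j) :
    wsum b w i = ∑ j ∈ b.support, w j * f j := by
  refine Finset.sum_congr rfl fun j hj => congrArg (w j * ·) ?_
  obtain ⟨-, -, h⟩ := (b.exists_root_eq_sum_int i).choose_spec
  rw [h, b.support.sum_subtype (p := (· ∈ b.support)) (by simp) (F := inferInstance),
    b.support.sum_subtype (p := (· ∈ b.support)) (by simp) (F := inferInstance)] at hf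
  simpa using! Fintype.linearIndependent_iffₛ.mp (b.linearIndepOn_root.restrict_scalars' ℤ)
    ((b.exists_root_eq_sum_int i).choose ∘ (↑)) (f ∘ (↑)) (by simpa) ⟨j, hj⟩

theorem wsum_add_zsmul (b : P.Base) (w : ι → ℤ) {i j k : ι} {z : ℤ} (hk : P.root k = P.root i + z • P.root j) :
    wsum b w k = wsum b w i + z * wsum b w j := by
  obtain ⟨f, -, -, hf⟩ := b.exists_root_eq_sum_int i
  obtain ⟨g, -, -, hg⟩ := b.exists_root_eq_sum_int j
  rw [wsum_eq b w hf, wsum_eq b w hg, wsum_eq b w (f := f + z • g) (by
    simp_rw [Pi.add_apply, Pi.smul_apply, add_smul, smul_assoc, Finset.sum_add_distrib, ← Finset.smul_sum, ← hf, ← hg, hk]),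
    Finset.mul_sum, ← Finset.sum_add_distrib]
  exact Finset.sum_congr rfl fun l _ => by simp only [Pi.add_apply, Pi.smul_apply, smul_eq_mul]; ring

theorem wsum_simple (b : P.Base) (w : ι → ℤ) {i : ι} (hi : i ∈ b.support) : wsum b w i = w i := by
  classical
  rw [wsum_eq b w (f := Pi.single i 1) (by
    rw [Finset.sum_eq_single_of_mem i hi (by simp_all)]; simp), Finset.sum_eq_single_of_mem i hi (by simp_all)]
  simp

theorem wsum_nonneg (b : P.Base) (w : ι → ℤ) (hw : ∀ j, 0 ≤ w j) {i : ι} (hi : b.IsPos i) : 0 ≤ wsum b w i := by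
  obtain ⟨f, hf₀, hf₁, hf⟩ := b.exists_root_eq_sum_int i
  have hpos : 0 < f := hf₁.resolve_right fun hn => by
    rw [RootPairing.Base.isPos_iff, RootPairing.Base.height_eq_sum hf] at hi
    exact hi.not_ge (Finset.sum_nonpos fun l _ => hn.le l)
  rw [wsum_eq b w hf]
  exact Finset.sum_nonneg fun l _ => mul_nonneg (hw l) (hpos.le l)

theorem wsum_opp (b : P.Base) (w : ι → ℤ) (i : ι) : wsum b w (opp P i) = -wsum b w i := by
  obtain ⟨f, -, -, hf⟩ := b.exists_root_eq_sum_int i
  rw [wsum_eq b w hf, wsum_eq b w (f := -f) (by rw [root_opp, hf]; simp), ← Finset.sum_neg_distrib]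
  simp

theorem height_pos_or_opp (b : P.Base) (i : ι) : b.IsPos i ∨ b.IsPos (opp P i) :=
  RootPairing.Base.IsPos.or_neg b i

theorem root_refl (a x : ι) : P.root (P.reflectionPerm a x) = P.root x + (-P.pairing x a) • P.root a := by
  rw [P.root_reflectionPerm, P.reflection_apply, P.root_coroot'_eq_pairing, neg_smul, sub_eq_add_neg]

variable [Module.IsReflexive ℤ M] [Module.IsReflexive ℤ N]

open scoped Classical in
/-- **Sets containing the positive roots and stable under their symmetric reflections are parabolic.** -/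
theorem parabolic_of_stable (b : P.Base) (R' : Set ι) (hpos : ∀ i, b.IsPos i → i ∈ R')
    (hst : ∀ c x, c ∈ R' → opp P c ∈ R' → x ∈ R' → P.reflectionPerm c x ∈ R') :
    (∀ i j k, i ∈ R' → j ∈ R' → P.root i + P.root j = P.root k → k ∈ R') ∧
      ∀ i j, P.root j = -P.root i → i ∈ R' ∨ j ∈ R' := by
  haveI : P.IsReduced := isReduced_of_base P b
  have oo : ∀ c, opp P (opp P c) = c := fun c => P.root.injective (by rw [root_opp, root_opp, neg_neg])
  have refl_opp : ∀ a c, P.reflectionPerm a (opp P c) = opp P (P.reflectionPerm a c) := fun a c =>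
    P.root.injective (by rw [P.root_reflectionPerm, root_opp, root_opp, P.root_reflectionPerm, map_neg])
  have refl_pos : ∀ {γ β : ι}, b.IsPos γ → β ∈ b.support → γ ≠ β → b.IsPos (P.reflectionPerm β γ) :=
    fun hγ hβ hne => isPos_reflectionPerm P b hγ hβ hne
  let w : ι → ℤ := fun j => if opp P j ∈ R' then 0 else 1
  have hw : ∀ j, 0 ≤ w j := fun j => by simp only [w]; split_ifs <;> norm_num
  -- a simple root occurring in a symmetric positive root is symmetric
  have simple_sym : ∀ γ, b.IsPos γ → opp P γ ∈ R' → ∀ β ∈ b.support, 0 < P.pairing β γ → opp P β ∈ R' := by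
    intro γ hγ hγ' β hβ hk
    let δ := P.reflectionPerm γ β
    have hδ : ¬ b.IsPos δ := fun hd => by
      have h1 := b.height_add_zsmul (root_refl (P := P) γ β)
      rw [RootPairing.Base.height_one_of_mem_support hβ] at h1
      rw [RootPairing.Base.isPos_iff] at hd hγ
      change 0 < b.height (P.reflectionPerm γ β) at hd
      rw [h1, smul_eq_mul] at hd
      nlinarith
    have hx : opp P δ ∈ R' := hpos _ ((height_pos_or_opp b δ).resolve_left hδ)
    have h2 := hst γ _ (hpos γ hγ) hγ' hx
    rwa [refl_opp, show P.reflectionPerm γ δ = β from P.reflectionPerm_self γ β] at h2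
  -- the characterisation on positive roots
  have key : ∀ n : ℕ, ∀ γ, b.IsPos γ → b.height γ ≤ n → (opp P γ ∈ R' ↔ wsum b w γ = 0) := by
    intro n
    induction n with
    | zero => intro γ hγ hn; exact absurd hn (by rw [RootPairing.Base.isPos_iff] at hγ; omega)
    | succ n ih =>
      intro γ hγ hn
      obtain ⟨β, hβ, hβγ⟩ := hγ.exists_mem_support_pos_pairingIn
      rw [pairingIn_int] at hβγ
      have hk : 0 < P.pairing γ β := by
        have := (P.zero_lt_pairingIn_iff' ℤ (i := β) (j := γ)).mp (by rwa [pairingIn_int])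
        rwa [pairingIn_int] at this
      rcases eq_or_ne γ β with rfl | hne
      · rw [wsum_simple b w hβ]
        simp only [w]
        split_ifs with h <;> simp [h]
      have hγ₁ := refl_pos hγ hβ hne
      have hW := wsum_add_zsmul b w (root_refl (P := P) β γ)
      rw [wsum_simple b w hβ] at hW
      have hht : b.height (P.reflectionPerm β γ) ≤ n := by
        rw [b.height_add_zsmul (root_refl (P := P) β γ), RootPairing.Base.height_one_of_mem_support hβ, smul_eq_mul]
        omega
      have hi := ih _ hγ₁ hht
      have h0 := wsum_nonneg b w hw hγ₁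
      constructor
      · intro h
        have hβ' := simple_sym γ hγ h β hβ hβγ
        have hb0 : w β = 0 := if_pos hβ'
        have h3 := hst β _ (hpos β (RootPairing.Base.isPos_of_mem_support hβ)) hβ' h
        rw [refl_opp] at h3
        rw [hb0, mul_zero, add_zero] at hW
        rw [← hW]
        exact hi.mp h3
      · intro h
        rw [h, zero_add] at hW
        have hb0 : w β = 0 := by have := hw β; nlinarith
        have hβ' : opp P β ∈ R' := by
          by_contra hc
          simp [w, hc] at hb0
        have h3 := hst β _ (hpos β (RootPairing.Base.isPos_of_mem_support hβ)) hβ'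
          (hi.mpr (by rw [hW, hb0, mul_zero]))
        rwa [refl_opp, P.reflectionPerm_self β γ] at h3
  have hchar : ∀ i, i ∈ R' ↔ 0 ≤ wsum b w i := by
    intro i
    rcases height_pos_or_opp b i with h | h
    · exact ⟨fun _ => wsum_nonneg b w hw h, fun _ => hpos i h⟩
    · have hk := key (b.height (opp P i)).toNat _ h (Int.self_le_toNat _)
      rw [oo, wsum_opp, neg_eq_zero] at hk
      have h0 := wsum_nonneg b w hw h
      rw [wsum_opp] at h0
      rw [hk]
      constructor <;> intro <;> omega
  refine ⟨fun i j k hi hj h => ?_, fun i j h => ?_⟩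
  · rw [hchar] at hi hj ⊢
    have := wsum_add_zsmul b w (i := i) (j := j) (k := k) (z := 1) (by rw [one_smul, h])
    omega
  · obtain rfl : j = opp P i := P.root.injective (by rw [root_opp, h])
    exact (height_pos_or_opp b i).imp (hpos i) (hpos _)

end Groth.Agent.H21Split
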