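import Groth.Agent.H21Split.Cell
import Groth.Agent.H21Split.Bridge

/-!
Points of powers and of ordered products.
-/

open CategoryTheory MonoidalCategory CartesianMonoidalCategory MonObj GrpObj AlgebraicGeometry
open CategoryTheory.Limits

universe u

set_option backward.isDefEq.respectTransparency false
set_option linter.style.haveILetI false
set_option linter.unusedSectionVars false
set_option synthInstance.maxHeartbeats 400000

noncomputable section

namespace Groth.Agent.H21Split

variable {S : Scheme.{u}}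

/-- the projections of a power -/
def pr (A : Over S) : ∀ (n : ℕ) (_ : Fin n), RedSub.pow A n ⟶ A
  | 0, k => k.elim0
  | n + 1, k => Fin.cases (fst A (RedSub.pow A n)) (fun j => snd A (RedSub.pow A n) ≫ pr A n j) k

theorem pr_zero (A : Over S) (n : ℕ) : pr A (n + 1) 0 = fst A (RedSub.pow A n) := rfl

theorem pr_succ (A : Over S) (n : ℕ) (j : Fin n) : pr A (n + 1) j.succ = snd A (RedSub.pow A n) ≫ pr A n j := rfl

/-- the point with given coordinates -/
def tuple {A X : Over S} : ∀ (n : ℕ) (_ : Fin n → (X ⟶ A)), X ⟶ RedSub.pow A n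
  | 0, _ => toUnit X
  | n + 1, c => lift (c 0) (tuple n fun j => c j.succ)

theorem tuple_pr {A X : Over S} : ∀ (n : ℕ) (c : Fin n → (X ⟶ A)) (k : Fin n), tuple n c ≫ pr A n k = c k
  | 0, _, k => k.elim0
  | n + 1, c, k => by
    refine Fin.cases ?_ (fun j => ?_) k
    · rw [pr_zero, tuple, lift_fst]
    · rw [pr_succ, tuple, lift_snd_assoc, tuple_pr n _ j]

theorem pow_hom_ext {A X : Over S} : ∀ (n : ℕ) {z z' : X ⟶ RedSub.pow A n}
    (_ : ∀ k, z ≫ pr A n k = z' ≫ pr A n k), z = z'
  | 0, z, z', _ => (toUnit_unique z z')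
  | n + 1, z, z', h => by
    refine CartesianMonoidalCategory.hom_ext _ _ (h 0) (pow_hom_ext n fun j => ?_)
    simpa [pr_succ] using h j.succ

theorem comp_prodMap {A X G : Over S} [GrpObj G] : ∀ (n : ℕ) (z : X ⟶ RedSub.pow A n) (f : Fin n → (A ⟶ G)),
    z ≫ RedSub.prodMap A n f = (List.ofFn fun k => (z ≫ pr A n k) ≫ f k).prod
  | 0, z, f => by rw [List.ofFn_zero, List.prod_nil]; exact MonObj.comp_one z
  | n + 1, z, f => by
    rw [RedSub.prodMap, MonObj.comp_mul, List.ofFn_succ, List.prod_cons, ← Category.assoc, ← Category.assoc,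
      comp_prodMap n]
    simp only [pr_zero, pr_succ, Category.assoc]

variable {R : Type u} [CommRing R] (g : Spec (CommRingCat.of R) ⟶ S)
variable {B : Type u} [CommRing B] [Algebra R B] {G : Over S} [GrpObj G] (D : Red.SplitRed G)

/-- the coordinates of a point of a power of the additive group -/
def gvs {n : ℕ} (z : pt g B ⟶ RedSub.pow (Red.Ga S) n) : Fin n → B := fun k => gv g (z ≫ pr (Red.Ga S) n k)

theorem gvs_injective {n : ℕ} : Function.Injective (gvs g : (pt g B ⟶ RedSub.pow (Red.Ga S) n) → Fin n → B) :=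
  fun z z' h => pow_hom_ext n fun k => gv_injective g (congrFun h k)

/-- the point with given coordinates -/
def gas {n : ℕ} (x : Fin n → B) : pt g B ⟶ RedSub.pow (Red.Ga S) n := tuple n fun k => ga g (x k)

theorem gvs_gas {n : ℕ} (x : Fin n → B) : gvs g (gas g x) = x :=
  funext fun k => by rw [gvs, gas, tuple_pr, gv_ga]

theorem pmap_gas {B' : Type u} [CommRing B'] [Algebra R B'] (f : B →ₐ[R] B') {n : ℕ} (x : Fin n → B) :
    pmap g f ≫ gas g x = gas g fun k => f (x k) :=
  pow_hom_ext n fun k => by rw [Category.assoc, gas, gas, tuple_pr, tuple_pr, pmap_ga]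

theorem gas_gvs {n : ℕ} (z : pt g B ⟶ RedSub.pow (Red.Ga S) n) : gas g (gvs g z) = z :=
  gvs_injective g (gvs_gas g _)

theorem comp_prodMap_u {n : ℕ} (e : Fin n → D.idx) (z : pt g B ⟶ RedSub.pow (Red.Ga S) n) :
    z ≫ RedSub.prodMap (Red.Ga S) n (fun k => D.u (e k)) = uProd g D e (gvs g z) := by
  rw [comp_prodMap, uProd]
  congr
  funext k
  rw [uPt, gvs, ga_gv]

theorem comp_cellMap {n m : ℕ} (en : Fin n → D.idx) (ep : Fin m → D.idx)
    (z : pt g B ⟶ RedSub.pow (Red.Ga S) n ⊗ (D.T ⊗ RedSub.pow (Red.Ga S) m)) (χ : Multiplicative D.M →* B)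
    (hχ : tPt g D χ = (z ≫ snd _ _ ≫ fst _ _) ≫ D.i) :
    z ≫ RedSub.cellMap D en ep =
      cellPt g D en ep (gvs g (z ≫ fst _ _)) χ (gvs g (z ≫ snd _ _ ≫ snd _ _)) := by
  rw [RedSub.cellMap, MonObj.comp_mul, MonObj.comp_mul, cellPt, hχ, ← comp_prodMap_u, ← comp_prodMap_u]
  simp only [Category.assoc]

/-- equality of morphisms into an object may be tested on the points over test algebras -/
theorem hom_ext_pt {X Z : Over S} {x y : X ⟶ Z}
    (h : ∀ (R : Type u) [CommRing R] (g : Spec (CommRingCat.of R) ⟶ S) (j : pt g R ⟶ X), j ≫ x = j ≫ y) : x = y := by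
  refine hom_ext_pts fun B _ t j => ?_
  have e : Spec.map (CommRingCat.ofHom (algebraMap B B)) = 𝟙 _ := Spec.map_id (CommRingCat.of B)
  let i : pt t B ≅ Over.mk t := Over.isoMk (Iso.refl _) (by
    change 𝟙 _ ≫ t = Spec.map (CommRingCat.ofHom (algebraMap B B)) ≫ t
    rw [e])
  rw [← cancel_epi i.hom, ← Category.assoc, ← Category.assoc]
  exact h B t (i.hom ≫ j)

end Groth.Agent.H21Split
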