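import Groth.Agent.H21Rank1.Data

/-!
Points with values in algebras of a group scheme which is affine over the base: the bijection with algebra
maps out of the coordinate ring, and multiplication of points which are infinitesimally close to the unit.
-/

open CategoryTheory MonoidalCategory CartesianMonoidalCategory MonObj GrpObj AlgebraicGeometry
open CategoryTheory.Limits

universe u

set_option backward.isDefEq.respectTransparency false
set_option linter.style.haveILetI false

noncomputable section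

namespace Groth.Agent.H21Split

variable {S : Scheme.{u}} {R : Type u} [CommRing R] (g : Spec (CommRingCat.of R) ⟶ S)

theorem appTop_map_isoSpec {X : Scheme.{u}} [IsAffine X] {B : Type u} [CommRing B]
    (f : Γ(X, ⊤) ⟶ CommRingCat.of B) :
    (Spec.map f ≫ X.isoSpec.inv).appTop ≫ (Scheme.ΓSpecIso (CommRingCat.of B)).hom = f := by
  simp [Scheme.isoSpec]

/-- the test object of an algebra -/
abbrev pt (B : Type u) [CommRing B] [Algebra R B] : Over S :=
  Over.mk (Spec.map (CommRingCat.ofHom (algebraMap R B)) ≫ g)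

variable {B : Type u} [CommRing B] [Algebra R B] {B' : Type u} [CommRing B'] [Algebra R B']

/-- functoriality of test objects -/
def pmap (f : B →ₐ[R] B') : pt g B' ⟶ pt g B :=
  Over.homMk (Spec.map (CommRingCat.ofHom f.toRingHom)) (by
    change Spec.map _ ≫ Spec.map _ ≫ g = Spec.map _ ≫ g
    rw [← Category.assoc, ← Spec.map_comp, ← CommRingCat.ofHom_comp]
    congr 3
    exact RingHom.ext fun r => f.commutes r)

theorem pmap_left (f : B →ₐ[R] B') : (pmap g f).left = Spec.map (CommRingCat.ofHom f.toRingHom) := rfl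

theorem pmap_id : pmap g (AlgHom.id R B) = 𝟙 _ := by
  ext : 1
  exact Spec.map_id _

theorem pmap_comp {B'' : Type u} [CommRing B''] [Algebra R B''] (f : B →ₐ[R] B') (f' : B' →ₐ[R] B'') :
    pmap g f' ≫ pmap g f = pmap g (f'.comp f) := by
  ext : 1
  exact (Spec.map_comp _ _).symm

variable (G : Over S)

/-- the coordinate ring of the base change -/
def Crd : Type u := (Γ(pullback G.hom g, ⊤) : Type u)

instance : CommRing (Crd g G) := inferInstanceAs (CommRing Γ(pullback G.hom g, ⊤))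

/-- the structure map of the coordinate ring -/
def crdMap : R →+* Crd g G :=
  ((Scheme.ΓSpecIso (CommRingCat.of R)).inv ≫ (pullback.snd G.hom g).appTop).hom

instance : Algebra R (Crd g G) := (crdMap g G).toAlgebra

variable {G}

/-- a point as a morphism to the base change -/
def toPb (φ : pt g B ⟶ G) : Spec (CommRingCat.of B) ⟶ pullback G.hom g :=
  pullback.lift φ.left (Spec.map (CommRingCat.ofHom (algebraMap R B))) (Over.w φ)

theorem toPb_fst (φ : pt g B ⟶ G) : toPb g φ ≫ pullback.fst G.hom g = φ.left := pullback.lift_fst _ _ _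

theorem toPb_snd (φ : pt g B ⟶ G) :
    toPb g φ ≫ pullback.snd G.hom g = Spec.map (CommRingCat.ofHom (algebraMap R B)) := pullback.lift_snd _ _ _

/-- the algebra map of a point -/
def fn (φ : pt g B ⟶ G) : Crd g G →ₐ[R] B where
  toRingHom := ((toPb g φ).appTop ≫ (Scheme.ΓSpecIso (CommRingCat.of B)).hom).hom
  commutes' r := by
    have h : (pullback.snd G.hom g).appTop ≫ (toPb g φ).appTop =
        (Spec.map (CommRingCat.ofHom (algebraMap R B))).appTop :=
      (Scheme.Hom.comp_appTop _ _).symm.trans (congrArg (fun m => Scheme.Hom.appTop m) (toPb_snd g φ))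
    have h2 : (Scheme.ΓSpecIso (CommRingCat.of R)).inv ≫ (pullback.snd G.hom g).appTop ≫
        (toPb g φ).appTop ≫ (Scheme.ΓSpecIso (CommRingCat.of B)).hom = CommRingCat.ofHom (algebraMap R B) := by
      rw [reassoc_of% h, Scheme.ΓSpecIso_naturality, Iso.inv_hom_id_assoc]
    exact ConcreteCategory.congr_hom h2 r

theorem fn_pmap (f : B →ₐ[R] B') (φ : pt g B ⟶ G) : fn g (pmap g f ≫ φ) = f.comp (fn g φ) := by
  have h : toPb g (pmap g f ≫ φ) = Spec.map (CommRingCat.ofHom f.toRingHom) ≫ toPb g φ := by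
    refine pullback.hom_ext ?_ ?_
    · rw [toPb_fst, Category.assoc, toPb_fst]; rfl
    · rw [toPb_snd, Category.assoc, toPb_snd, ← Spec.map_comp, ← CommRingCat.ofHom_comp]
      congr 2
      exact RingHom.ext fun r => (f.commutes r).symm
  apply AlgHom.ext
  intro a
  refine ConcreteCategory.congr_hom (?_ : (toPb g (pmap g f ≫ φ)).appTop ≫ (Scheme.ΓSpecIso (CommRingCat.of B')).hom =
    ((toPb g φ).appTop ≫ (Scheme.ΓSpecIso (CommRingCat.of B)).hom) ≫ CommRingCat.ofHom f.toRingHom) a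
  rw [h, Scheme.Hom.comp_appTop, Category.assoc, Scheme.ΓSpecIso_naturality]
  exact (Category.assoc _ _ _).symm

variable [IsAffineHom G.hom]

theorem isAffine_pb : IsAffine (pullback G.hom g) := isAffine_of_isAffineHom (pullback.snd G.hom g)

theorem fn_injective : Function.Injective (fn g : (pt g B ⟶ G) → _) := by
  intro φ ψ h
  haveI := isAffine_pb g (G := G)
  have h1 : (toPb g φ).appTop = (toPb g ψ).appTop := by
    rw [← cancel_mono (Scheme.ΓSpecIso (CommRingCat.of B)).hom]
    exact CommRingCat.hom_ext (congrArg (fun f : Crd g G →ₐ[R] B => f.toRingHom) h)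
  have h2 : toPb g φ = toPb g ψ := ext_of_isAffine h1
  ext : 1
  rw [← toPb_fst g φ, ← toPb_fst g ψ, h2]

theorem fn_surjective : Function.Surjective (fn g : (pt g B ⟶ G) → _) := by
  intro f
  haveI := isAffine_pb g (G := G)
  let m : Spec (CommRingCat.of B) ⟶ pullback G.hom g :=
    Spec.map (CommRingCat.ofHom f.toRingHom : Γ(pullback G.hom g, ⊤) ⟶ CommRingCat.of B) ≫
      (pullback G.hom g).isoSpec.inv
  have happ : m.appTop ≫ (Scheme.ΓSpecIso (CommRingCat.of B)).hom =
      (CommRingCat.ofHom f.toRingHom : Γ(pullback G.hom g, ⊤) ⟶ CommRingCat.of B) :=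
    appTop_map_isoSpec _
  have hsnd : m ≫ pullback.snd G.hom g = Spec.map (CommRingCat.ofHom (algebraMap R B)) := by
    refine ext_of_isAffine ?_
    rw [← cancel_mono (Scheme.ΓSpecIso (CommRingCat.of B)).hom, Scheme.Hom.comp_appTop, Category.assoc,
      happ, Scheme.ΓSpecIso_naturality, ← cancel_epi (Scheme.ΓSpecIso (CommRingCat.of R)).inv,
      Iso.inv_hom_id_assoc]
    exact CommRingCat.hom_ext (RingHom.ext fun r => f.commutes r)
  let φ : pt g B ⟶ G := Over.homMk (m ≫ pullback.fst G.hom g) (by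
    change (m ≫ pullback.fst G.hom g) ≫ G.hom = _ ≫ g
    rw [Category.assoc, pullback.condition, reassoc_of% hsnd])
  refine ⟨φ, ?_⟩
  have h : toPb g φ = m := by
    refine pullback.hom_ext ?_ ?_
    · rw [toPb_fst]; rfl
    · rw [toPb_snd, hsnd]
  apply AlgHom.ext
  intro a
  refine ConcreteCategory.congr_hom (?_ : (toPb g φ).appTop ≫ (Scheme.ΓSpecIso (CommRingCat.of B)).hom =
    (CommRingCat.ofHom f.toRingHom : Γ(pullback G.hom g, ⊤) ⟶ CommRingCat.of B)) a
  rw [h, happ]

/-- points agreeing after a jointly injective family of maps agree -/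
theorem ext_of_jointly_injective {κ : Type*} {C : κ → Type u} [∀ i, CommRing (C i)] [∀ i, Algebra R (C i)]
    (f : ∀ i, B →ₐ[R] C i) (hf : ∀ a b : B, (∀ i, f i a = f i b) → a = b) {φ ψ : pt g B ⟶ G}
    (h : ∀ i, pmap g (f i) ≫ φ = pmap g (f i) ≫ ψ) : φ = ψ := by
  refine fn_injective g (AlgHom.ext fun a => hf _ _ fun i => ?_)
  have := congrArg (fn g) (h i)
  rw [fn_pmap, fn_pmap] at this
  exact AlgHom.congr_fun this a

theorem ext_of_injective (f : B →ₐ[R] B') (hf : Function.Injective f) {φ ψ : pt g B ⟶ G}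
    (h : pmap g f ≫ φ = pmap g f ≫ ψ) : φ = ψ :=
  ext_of_jointly_injective g (fun _ : Unit => f) (fun _ _ h => hf (h ())) fun _ => h

variable [GrpObj G]

variable (G) in
/-- the counit -/
def eps : Crd g G →ₐ[R] R := fn g (1 : pt g R ⟶ G)

omit [IsAffineHom G.hom] in
theorem fn_one : fn g (1 : pt g B ⟶ G) = (Algebra.ofId R B).comp (eps g G) := by
  rw [eps, ← fn_pmap, MonObj.comp_one]

/-- deviation of a point from the unit -/
def dev (φ : pt g B ⟶ G) : Crd g G →ₗ[R] B :=
  (fn g φ).toLinearMap - ((Algebra.ofId R B).comp (eps g G)).toLinearMap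

omit [IsAffineHom G.hom] in
theorem fn_eq_dev (φ : pt g B ⟶ G) (a : Crd g G) : fn g φ a = algebraMap R B (eps g G a) + dev g φ a := by
  simp [dev, Algebra.ofId_apply]

omit [IsAffineHom G.hom] in
theorem dev_one : dev g (1 : pt g B ⟶ G) = 0 := by simp [dev, fn_one]

omit [IsAffineHom G.hom] in
theorem dev_pmap (f : B →ₐ[R] B') (φ : pt g B ⟶ G) (a : Crd g G) :
    dev g (pmap g f ≫ φ) a = f (dev g φ a) := by
  simp [dev, fn_pmap, Algebra.ofId_apply]

theorem dev_injective : Function.Injective (dev g : (pt g B ⟶ G) → _) := by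
  intro φ ψ h
  refine fn_injective g (AlgHom.ext fun a => ?_)
  rw [fn_eq_dev, fn_eq_dev, h]

theorem eq_one_of_dev_eq_zero {φ : pt g B ⟶ G} (h : dev g φ = 0) : φ = 1 :=
  dev_injective g (h.trans (dev_one g).symm)

omit [IsAffineHom G.hom] in
theorem dev_mul_apply (φ : pt g B ⟶ G) (a b : Crd g G) :
    dev g φ (a * b) = algebraMap R B (eps g G a) * dev g φ b + algebraMap R B (eps g G b) * dev g φ a +
      dev g φ a * dev g φ b := by
  have h := map_mul (fn g φ) a b
  rw [fn_eq_dev, fn_eq_dev, fn_eq_dev, map_mul, map_mul] at h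
  linear_combination h

/-- the ring of compatible pairs of deformations -/
def pairAlg (I J : Ideal B) : Subalgebra R (R × B × B) where
  carrier := {c | c.2.1 - algebraMap R B c.1 ∈ I ∧ c.2.2 - algebraMap R B c.1 ∈ J}
  mul_mem' {x y} hx hy := by
    constructor
    · have : x.2.1 * y.2.1 - algebraMap R B (x.1 * y.1) =
          (x.2.1 - algebraMap R B x.1) * y.2.1 + algebraMap R B x.1 * (y.2.1 - algebraMap R B y.1) := by
        rw [map_mul]; ring
      change x.2.1 * y.2.1 - algebraMap R B (x.1 * y.1) ∈ I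
      rw [this]
      exact add_mem (I.mul_mem_right _ hx.1) (I.mul_mem_left _ hy.1)
    · have : x.2.2 * y.2.2 - algebraMap R B (x.1 * y.1) =
          (x.2.2 - algebraMap R B x.1) * y.2.2 + algebraMap R B x.1 * (y.2.2 - algebraMap R B y.1) := by
        rw [map_mul]; ring
      change x.2.2 * y.2.2 - algebraMap R B (x.1 * y.1) ∈ J
      rw [this]
      exact add_mem (J.mul_mem_right _ hx.2) (J.mul_mem_left _ hy.2)
  add_mem' {x y} hx hy := by
    constructor
    · change x.2.1 + y.2.1 - algebraMap R B (x.1 + y.1) ∈ I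
      rw [map_add, add_sub_add_comm]
      exact add_mem hx.1 hy.1
    · change x.2.2 + y.2.2 - algebraMap R B (x.1 + y.1) ∈ J
      rw [map_add, add_sub_add_comm]
      exact add_mem hx.2 hy.2
  algebraMap_mem' r := by simp

/-- summing compatible deformations -/
def pairSum (I J : Ideal B) (hIJ : I * J = ⊥) : pairAlg (R := R) I J →ₐ[R] B where
  toFun c := c.1.2.1 + c.1.2.2 - algebraMap R B c.1.1
  map_one' := by simp
  map_zero' := by simp
  map_add' x y := by
    change x.1.2.1 + y.1.2.1 + (x.1.2.2 + y.1.2.2) - algebraMap R B (x.1.1 + y.1.1) = _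
    rw [map_add]; ring
  map_mul' x y := by
    have h : ∀ a b : pairAlg (R := R) I J,
        (a.1.2.1 - algebraMap R B a.1.1) * (b.1.2.2 - algebraMap R B b.1.1) = 0 := fun a b => by
      have := Ideal.mul_mem_mul a.2.1 b.2.2
      rwa [hIJ, Ideal.mem_bot] at this
    change x.1.2.1 * y.1.2.1 + x.1.2.2 * y.1.2.2 - algebraMap R B (x.1.1 * y.1.1) = _
    rw [map_mul]
    linear_combination -(h x y) - (h y x)
  commutes' r := by simp

/-- close points multiply by adding their deviations -/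
theorem dev_mul_of_mul_eq_bot (I J : Ideal B) (hIJ : I * J = ⊥) (φ ψ : pt g B ⟶ G)
    (hφ : ∀ a, dev g φ a ∈ I) (hψ : ∀ a, dev g ψ a ∈ J) : dev g (φ * ψ) = dev g φ + dev g ψ := by
  let C := pairAlg (R := R) I J
  let mk' : ∀ (f₁ f₂ : Crd g G →ₐ[R] B), (∀ a, f₁ a - algebraMap R B (eps g G a) ∈ I) →
      (∀ a, f₂ a - algebraMap R B (eps g G a) ∈ J) → (Crd g G →ₐ[R] C) := fun f₁ f₂ h₁ h₂ =>
    ((eps g G).prod (f₁.prod f₂)).codRestrict C fun a => ⟨h₁ a, h₂ a⟩
  have h0 : ∀ (K : Ideal B) (a : Crd g G),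
      ((Algebra.ofId R B).comp (eps g G)) a - algebraMap R B (eps g G a) ∈ K := fun K a => by
    simp [Algebra.ofId_apply]
  have hd : ∀ (χ : pt g B ⟶ G) (a : Crd g G), fn g χ a - algebraMap R B (eps g G a) = dev g χ a :=
    fun χ a => by rw [fn_eq_dev, add_sub_cancel_left]
  obtain ⟨Φ, hΦ⟩ := fn_surjective g (G := G) (mk' (fn g φ) _ (fun a => (hd φ a).symm ▸ hφ a) (h0 J))
  obtain ⟨Ψ, hΨ⟩ := fn_surjective g (G := G) (mk' _ (fn g ψ) (h0 I) (fun a => (hd ψ a).symm ▸ hψ a))
  let q₀ : C →ₐ[R] R := (AlgHom.fst R R (B × B)).comp C.val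
  let q₁ : C →ₐ[R] B := ((AlgHom.fst R B B).comp (AlgHom.snd R R (B × B))).comp C.val
  let q₂ : C →ₐ[R] B := ((AlgHom.snd R B B).comp (AlgHom.snd R R (B × B))).comp C.val
  have a1 : pmap g q₁ ≫ Φ = φ := fn_injective g (by rw [fn_pmap, hΦ]; rfl)
  have a2 : pmap g q₂ ≫ Φ = 1 := fn_injective g (by rw [fn_pmap, hΦ, fn_one]; rfl)
  have b1 : pmap g q₁ ≫ Ψ = 1 := fn_injective g (by rw [fn_pmap, hΨ, fn_one]; rfl)
  have b2 : pmap g q₂ ≫ Ψ = ψ := fn_injective g (by rw [fn_pmap, hΨ]; rfl)
  have a3 : pmap g q₀ ≫ Φ = 1 := fn_injective g (by rw [fn_pmap, hΦ, fn_one]; rfl)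
  have b3 : pmap g q₀ ≫ Ψ = 1 := fn_injective g (by rw [fn_pmap, hΨ, fn_one]; rfl)
  have c1 : pmap g (pairSum I J hIJ) ≫ Φ = φ := fn_injective g (by
    rw [fn_pmap, hΦ]
    refine AlgHom.ext fun a => ?_
    change fn g φ a + algebraMap R B (eps g G a) - algebraMap R B (eps g G a) = _
    ring)
  have c2 : pmap g (pairSum I J hIJ) ≫ Ψ = ψ := fn_injective g (by
    rw [fn_pmap, hΨ]
    refine AlgHom.ext fun a => ?_
    change algebraMap R B (eps g G a) + fn g ψ a - algebraMap R B (eps g G a) = _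
    ring)
  have k1 : ∀ a, q₁ (fn g (Φ * Ψ) a) = fn g φ a := fun a => by
    have := congrArg (fn g) (show pmap g q₁ ≫ (Φ * Ψ) = φ by rw [MonObj.comp_mul, a1, b1, _root_.mul_one])
    rw [fn_pmap] at this
    exact AlgHom.congr_fun this a
  have k2 : ∀ a, q₂ (fn g (Φ * Ψ) a) = fn g ψ a := fun a => by
    have := congrArg (fn g) (show pmap g q₂ ≫ (Φ * Ψ) = ψ by rw [MonObj.comp_mul, a2, b2, _root_.one_mul])
    rw [fn_pmap] at this
    exact AlgHom.congr_fun this a
  have k0 : ∀ a, q₀ (fn g (Φ * Ψ) a) = eps g G a := fun a => by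
    have := congrArg (fn g) (show pmap g q₀ ≫ (Φ * Ψ) = 1 by rw [MonObj.comp_mul, a3, b3, _root_.one_mul])
    rw [fn_pmap] at this
    exact AlgHom.congr_fun this a
  refine LinearMap.ext fun a => ?_
  have key := congrArg (fn g) (show pmap g (pairSum I J hIJ) ≫ (Φ * Ψ) = φ * ψ by rw [MonObj.comp_mul, c1, c2])
  rw [fn_pmap] at key
  have h1 : fn g (φ * ψ) a = q₁ (fn g (Φ * Ψ) a) + q₂ (fn g (Φ * Ψ) a) -
      algebraMap R B (q₀ (fn g (Φ * Ψ) a)) := (AlgHom.congr_fun key a).symm
  rw [k0, k1, k2, fn_eq_dev g φ, fn_eq_dev g ψ, fn_eq_dev g (φ * ψ)] at h1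
  rw [LinearMap.add_apply]
  linear_combination h1

end Groth.Agent.H21Split
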