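import Groth.Agent.H21Split.Order

/-!
Maps given on ordered coordinates of the positive root groups are multiplicative when they respect the conjugation
relations between the coordinates.
-/

open CategoryTheory MonoidalCategory CartesianMonoidalCategory MonObj GrpObj AlgebraicGeometry
open Groth.Agent.H27Witt.GaCoord (gaFn_comp gaFn_surjective gaFn_injective gaFn_one)

universe u

set_option backward.isDefEq.respectTransparency false
set_option linter.style.haveILetI false
set_option linter.unusedSectionVars false
set_option synthInstance.maxHeartbeats 400000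
set_option maxHeartbeats 1000000

noncomputable section

namespace Groth.Agent.H21Split

theorem prod_ofFn_split {M : Type*} [Monoid M] {N : ℕ} (F : Fin N → M) (i : Fin N) (h : ∀ k, k < i → F k = 1) :
    (List.ofFn F).prod = F i * ((List.ofFn F).drop (i.1 + 1)).prod := by
  have hi : i.1 < (List.ofFn F).length := by simp
  conv_lhs => rw [← List.prod_take_mul_prod_drop (List.ofFn F) i.1, List.drop_eq_getElem_cons hi, List.prod_cons]
  rw [List.prod_eq_one fun x hx => ?_, _root_.one_mul, List.getElem_ofFn]
  obtain ⟨n, hn, rfl⟩ := List.mem_take_iff_getElem.mp hx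
  rw [List.getElem_ofFn]
  exact h _ (show n < i.1 by omega)

theorem prod_ofFn_single {M : Type*} [Monoid M] {N : ℕ} (F : Fin N → M) (i : Fin N) (h : ∀ k, k ≠ i → F k = 1) :
    (List.ofFn F).prod = F i := by
  rw [prod_ofFn_split F i fun k hk => h k hk.ne, List.prod_eq_one fun x hx => ?_, _root_.mul_one]
  obtain ⟨n, hn, rfl⟩ := List.mem_iff_getElem.mp hx
  rw [List.getElem_drop, List.getElem_ofFn]
  exact h _ fun e => by have := congrArg Fin.val e; simp only at this; omega

variable {S : Scheme.{u}} {G : Over S} [GrpObj G] (D : Red.SplitRed G) [LinearOrder D.M] [IsOrderedAddMonoid D.M]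
  {N : ℕ} (e : Fin N → D.idx) (he : Function.Injective e) (hrange : ∀ a : D.idx, a ∈ Set.range e ↔ 0 < D.P.root a)
  (hmono : StrictMono (fun k => D.P.root (e k)))
include he hrange hmono

/-- products of root groups with large indices have large indices -/
theorem exists_above {n : ℕ} (e' : Fin n → Fin N) (i : ℕ) (he' : ∀ l, i ≤ (e' l).1) {X : Over S}
    (x : Fin n → (X ⟶ Red.Ga S)) :
    ∃ z : Fin N → (X ⟶ Red.Ga S), (∀ k : Fin N, k.1 < i → z k = 1) ∧
      xProd D e z = xProd D (fun l => e (e' l)) x := by
  classical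
  obtain ⟨Q, hQw, -, hQ⟩ := exists_global_eval D (isPosSet_of_order hrange) e he rfl (fun l => e (e' l))
    (fun l => ⟨_, rfl⟩) Set.univ
    (fun X v => xProd D _ v) (fun X Y f v => comp_xProd D f _ v) (fun X t v v' h => xProd_scale D t _ _ _ h)
    (fun X => xProd_one D _ _ (fun _ => rfl)) (fun X v h => xProd_one D _ _ fun k => h k trivial)
  have hQ0 : ∀ k : Fin N, k.1 < i → Q k = 0 := fun k hk => by
    refine MvPolynomial.ext _ _ fun d => ?_
    rw [MvPolynomial.coeff_zero]
    by_contra hd
    obtain ⟨hd0, hwt⟩ := hQw k d hd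
    obtain ⟨v, hv⟩ := Finsupp.support_nonempty_iff.mpr hd0
    have hlt : D.P.root (e k) < D.P.root (e (e' v)) := hmono (show k.1 < (e' v).1 by have := he' v; omega)
    rcases wt_cases D (fun l => D.P.root (e (e' l))) (fun l => (hrange _).mp ⟨_, rfl⟩) (Finsupp.mem_support_iff.mp hv)
      with h1 | h1
    · rw [h1, wt_single, one_smul] at hwt
      exact hlt.ne' hwt
    · rw [hwt] at h1
      exact lt_asymm h1 hlt
  choose z hz using fun k => gaFn_surjective (X := X)
    (MvPolynomial.eval₂ X.hom.appTop.hom (fun l => Red.gaFn (x l)) (Q k))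
  refine ⟨z, fun k hk => gaFn_injective ?_, (hQ X x z).mpr hz⟩
  rw [hz k, hQ0 k hk, MvPolynomial.eval₂_zero, gaFn_one]

theorem multiplicative_iff {H : Over S} [GrpObj H] (f : Fin N → (Red.Ga S ⟶ H)) (hf : ∀ k, IsMonHom (f k)) :
    (∀ (X : Over S) (x y z : Fin N → (X ⟶ Red.Ga S)),
      (List.ofFn (fun k => z k ≫ D.u (e k))).prod =
          (List.ofFn (fun k => x k ≫ D.u (e k))).prod * (List.ofFn (fun k => y k ≫ D.u (e k))).prod →
        (List.ofFn (fun k => z k ≫ f k)).prod =
          (List.ofFn (fun k => x k ≫ f k)).prod * (List.ofFn (fun k => y k ≫ f k)).prod) ↔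
    (∀ (X : Over S) (i j : Fin N), i < j → ∀ (a c : X ⟶ Red.Ga S) (z : Fin N → (X ⟶ Red.Ga S)),
      (List.ofFn (fun k => z k ≫ D.u (e k))).prod = (c ≫ D.u (e j)) * (a ≫ D.u (e i)) * (c ≫ D.u (e j))⁻¹ →
        (List.ofFn (fun k => z k ≫ f k)).prod = (c ≫ f j) * (a ≫ f i) * (c ≫ f j)⁻¹) := by
  classical
  have hu : ∀ k, IsMonHom (D.u (e k)) := fun k => (D.rootHom (e k)).1
  have hΨ := isPosSet_of_order hrange
  constructor
  · intro h X i j _ a c z hz
    haveI := hu j
    haveI := hf j
    let one : Fin N → (X ⟶ Red.Ga S) := fun _ => 1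
    have hs : ∀ (l : Fin N) (v : X ⟶ Red.Ga S),
        (List.ofFn fun k => Function.update one l v k ≫ D.u (e k)).prod = v ≫ D.u (e l) := fun l v => by
      rw [prod_ofFn_single _ l fun k hk => ?_, Function.update_self]
      rw [Function.update_of_ne hk]
      haveI := hu k
      exact MonObj.one_comp _
    have hs' : ∀ (l : Fin N) (v : X ⟶ Red.Ga S),
        (List.ofFn fun k => Function.update one l v k ≫ f k).prod = v ≫ f l := fun l v => by
      rw [prod_ofFn_single _ l fun k hk => ?_, Function.update_self]
      rw [Function.update_of_ne hk]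
      haveI := hf k
      exact MonObj.one_comp _
    obtain ⟨w, hw⟩ := exists_mul D hΨ e he rfl (Function.update one j c) (Function.update one i a)
    have h1 := h X _ _ w hw
    have hw' : (List.ofFn fun k => w k ≫ D.u (e k)).prod = (c ≫ D.u (e j)) * (a ≫ D.u (e i)) := by
      rw [← hs j c, ← hs i a]
      exact hw
    have h2 := h X w (Function.update one j c⁻¹) z (by rw [hz, hw', hs, GrpObj.inv_comp])
    rw [h2, h1, hs', hs', hs', GrpObj.inv_comp]
  intro h X x y z hxy
  let E : Fin N → (X ⟶ Red.Ga S) → (X ⟶ G) × (X ⟶ H) := fun k v => (v ≫ D.u (e k), v ≫ f k)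
  have E_one : ∀ k, E k 1 = 1 := fun k => by
    haveI := hu k
    haveI := hf k
    exact Prod.ext (MonObj.one_comp _) (MonObj.one_comp _)
  have E_mul : ∀ k v w, E k (v * w) = E k v * E k w := fun k v w => by
    haveI := hu k
    haveI := hf k
    exact Prod.ext (MonObj.mul_comp _ _ _) (MonObj.mul_comp _ _ _)
  let P : (Fin N → (X ⟶ Red.Ga S)) → (X ⟶ G) × (X ⟶ H) := fun w => (List.ofFn fun k => E k (w k)).prod
  have hP : ∀ w, P w = ((List.ofFn fun k => w k ≫ D.u (e k)).prod, (List.ofFn fun k => w k ≫ f k).prod) := fun w => by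
    refine Prod.ext ?_ ?_
    · change MonoidHom.fst _ _ (List.prod _) = _
      rw [map_list_prod, List.map_ofFn]
      rfl
    · change MonoidHom.snd _ _ (List.prod _) = _
      rw [map_list_prod, List.map_ofFn]
      rfl
  let A : ℕ → Submonoid ((X ⟶ G) × (X ⟶ H)) := fun i =>
    Submonoid.closure {p | ∃ k : Fin N, i ≤ k.1 ∧ ∃ v, E k v = p}
  have hE : ∀ {i : ℕ} {k : Fin N}, i ≤ k.1 → ∀ v, E k v ∈ A i := fun hik v =>
    Submonoid.subset_closure ⟨_, hik, v, rfl⟩
  have hdrop : ∀ (i : Fin N) (w : Fin N → (X ⟶ Red.Ga S)),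
      ((List.ofFn fun k => E k (w k)).drop (i.1 + 1)).prod ∈ A (i.1 + 1) := fun i w => by
    refine Submonoid.list_prod_mem _ fun p hp => ?_
    obtain ⟨n, hn, rfl⟩ := List.mem_iff_getElem.mp hp
    rw [List.getElem_drop, List.getElem_ofFn]
    exact hE (by simp only; omega) _
  have main : ∀ (m i : ℕ), i + m = N → ∀ p ∈ A i, ∃ w, (∀ k : Fin N, k.1 < i → w k = 1) ∧ P w = p := by
    intro m
    induction m with
    | zero =>
      intro i hi p hp
      have : p = 1 := by
        induction hp using Submonoid.closure_induction with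
        | mem p hp => obtain ⟨k, hk, -⟩ := hp; omega
        | one => rfl
        | mul _ _ _ _ h1 h2 => rw [h1, h2, _root_.one_mul]
      refine ⟨fun _ => 1, fun _ _ => rfl, this ▸ List.prod_eq_one fun q hq => ?_⟩
      obtain ⟨k, rfl⟩ := List.mem_ofFn.mp hq
      exact E_one k
    | succ m ih =>
      intro i hi
      let i' : Fin N := ⟨i, by omega⟩
      -- moving a root group of index i to the left
      have move : ∀ gg ∈ A (i + 1), ∀ v, ∃ v', ∃ gg' ∈ A (i + 1), gg * E i' v = E i' v' * gg' := by
        intro gg hgg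
        induction hgg using Submonoid.closure_induction_right with
        | one => exact fun v => ⟨v, 1, one_mem _, by rw [_root_.one_mul, _root_.mul_one]⟩
        | mul_right dd hdd q hq ihdd =>
          obtain ⟨j, hj, c, rfl⟩ := hq
          intro v
          obtain ⟨w, hw1, hw2⟩ := exists_above D e he hrange hmono ![j, i', j] i
            (fun l => by fin_cases l <;> simp [i'] <;> omega) ![c, v, c⁻¹]
          haveI := hu j
          have hwu : (List.ofFn fun k => w k ≫ D.u (e k)).prod =
              (c ≫ D.u (e j)) * (v ≫ D.u (e i')) * (c ≫ D.u (e j))⁻¹ := by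
            refine hw2.trans ?_
            rw [xProd, List.ofFn_succ, List.ofFn_succ, List.ofFn_succ, List.ofFn_zero, List.prod_cons, List.prod_cons,
              List.prod_cons, List.prod_nil, _root_.mul_one, _root_.mul_assoc]
            exact congrArg (fun r => (c ≫ D.u (e j)) * ((v ≫ D.u (e i')) * r))
              (@GrpObj.inv_comp _ _ _ _ _ _ _ _ c (D.u (e j)) (hu j))
          have hwf := h X i' j (show i < j.1 by omega) v c w hwu
          have hrel : E j c * E i' v = P w * E j c := by
            rw [hP, hwu, hwf]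
            exact Prod.ext (inv_mul_cancel_right _ _).symm (inv_mul_cancel_right _ _).symm
          have hsplit : P w = E i' (w i') * ((List.ofFn fun k => E k (w k)).drop (i + 1)).prod :=
            prod_ofFn_split _ i' fun k hk => by rw [hw1 k hk, E_one]
          obtain ⟨v', dd', hdd', e1⟩ := ihdd (w i')
          refine ⟨v', dd' * ((List.ofFn fun k => E k (w k)).drop (i + 1)).prod * E j c,
            mul_mem (mul_mem hdd' (hdrop i' w)) (hE hj c), ?_⟩
          rw [_root_.mul_assoc, hrel, hsplit]
          simp only [← _root_.mul_assoc]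
          rw [e1]
      have hsub : ∀ p ∈ A i, ∃ v, ∃ gg ∈ A (i + 1), p = E i' v * gg := by
        intro p hp
        induction hp using Submonoid.closure_induction_right with
        | one => exact ⟨1, 1, one_mem _, by rw [E_one, _root_.one_mul]⟩
        | mul_right q _ r hr ihq =>
          obtain ⟨k, hk, c, rfl⟩ := hr
          obtain ⟨v, gg, hgg, rfl⟩ := ihq
          rcases eq_or_lt_of_le hk with hk' | hk'
          · obtain rfl : k = i' := Fin.ext hk'.symm
            obtain ⟨v', gg', hgg', e1⟩ := move gg hgg c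
            exact ⟨v * v', gg', hgg', by rw [_root_.mul_assoc, e1, E_mul, _root_.mul_assoc]⟩
          · exact ⟨v, gg * E k c, mul_mem hgg (hE hk' c), _root_.mul_assoc _ _ _⟩
      intro p hp
      obtain ⟨v, gg, hgg, rfl⟩ := hsub p hp
      obtain ⟨w, hw1, rfl⟩ := ih (i + 1) (by omega) gg hgg
      refine ⟨Function.update w i' v, fun k hk => ?_, ?_⟩
      · rw [Function.update_of_ne (fun e => by simp [e, i'] at hk)]
        exact hw1 k (by omega)
      · change (List.ofFn fun k => E k (Function.update w i' v k)).prod = _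
        rw [prod_ofFn_split (fun k => E k (Function.update w i' v k)) i' fun k hk => by
          rw [Function.update_of_ne hk.ne, hw1 k (Nat.lt_succ_of_lt hk), E_one], Function.update_self]
        refine congrArg _ ?_
        rw [show P w = _ from prod_ofFn_split (fun k => E k (w k)) i' fun k hk => by
          rw [hw1 k (Nat.lt_succ_of_lt hk), E_one], hw1 i' (Nat.lt_succ_self i), E_one, _root_.one_mul]
        refine congrArg List.prod (List.ext_getElem (by simp) fun n h1 h2 => ?_)
        simp only [List.getElem_drop, List.getElem_ofFn]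
        rw [Function.update_of_ne (fun e => by have := congrArg Fin.val e; simp [i'] at this; omega)]
  obtain ⟨w, -, hw⟩ := main N 0 (Nat.zero_add N) (P x * P y)
    (mul_mem (Submonoid.list_prod_mem _ fun p hp => by obtain ⟨k, rfl⟩ := List.mem_ofFn.mp hp; exact hE k.1.zero_le _)
      (Submonoid.list_prod_mem _ fun p hp => by obtain ⟨k, rfl⟩ := List.mem_ofFn.mp hp; exact hE k.1.zero_le _))
  rw [hP, hP, hP, Prod.mk_mul_mk, Prod.mk.injEq] at hw
  have hwz : w = z := xProd_injective D hΨ e he rfl (hw.1.trans hxy.symm)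
  rw [← hwz]
  exact hw.2

end Groth.Agent.H21Split
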