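import Groth.Agent.H21Split.Equivariant
import Groth.Agent.H21Split.Psi

/-!
Equivariant points in the weights of a closed set of roots without opposite roots: ordered products over the
set of roots with polynomial coordinates.
-/

open CategoryTheory MonoidalCategory CartesianMonoidalCategory MonObj GrpObj AlgebraicGeometry
open CategoryTheory.Limits
open MvPolynomial (idealOfVars)

universe u

set_option backward.isDefEq.respectTransparency false
set_option linter.style.haveILetI false
set_option synthInstance.maxHeartbeats 400000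

noncomputable section

namespace Groth.Agent.H21Split

variable {S : Scheme.{u}} {R : Type u} [CommRing R] (g : Spec (CommRingCat.of R) ⟶ S)
variable {G : Over S} [GrpObj G] (D : Red.SplitRed G) {σ : Type}

instance finite_idx : Finite D.idx := @Finite.of_fintype _ D.fintypeIdx

/-- a product of points of one root group -/
theorem prod_uPt_map {B : Type u} [CommRing B] [Algebra R B] (a : D.idx) {α : Type*} (l : List α) (f : α → B) :
    (l.map fun x => uPt g D a (f x)).prod = uPt g D a (l.map f).sum := by
  induction l with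
  | nil => simp [uPt_zero]
  | cons x l ih => rw [List.map_cons, List.prod_cons, List.map_cons, List.sum_cons, uPt_add, ih]

theorem wt_add (w : σ → D.M) (d d' : σ →₀ ℕ) : wt D w (d + d') = wt D w d + wt D w d' := by
  simp [wt, Finsupp.sum_add_index', add_smul]

theorem wt_single (w : σ → D.M) (i : σ) (k : ℕ) : wt D w (Finsupp.single i k) = k • w i := by
  simp [wt]

theorem wt_zero (w : σ → D.M) : wt D w 0 = 0 := by simp [wt]

/-- a monomial weight as a sum of roots -/
theorem exists_list_wt (w : σ → D.idx) (d : σ →₀ ℕ) :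
    ∃ l : List D.idx, (∀ a ∈ l, ∃ i, d i ≠ 0 ∧ w i = a) ∧
      wt D (fun i => D.P.root (w i)) d = (l.map D.P.root).sum := by
  classical
  induction d using Finsupp.induction with
  | zero => exact ⟨[], by simp, by simp [wt_zero]⟩
  | single_add i k d hi hk ih =>
    obtain ⟨l, hl, hsum⟩ := ih
    refine ⟨List.replicate k (w i) ++ l, fun a ha => ?_, ?_⟩
    · rcases List.mem_append.mp ha with ha | ha
      · exact ⟨i, by simp [hk], (List.eq_of_mem_replicate ha).symm⟩
      · obtain ⟨j, hj, hj'⟩ := hl a ha
        refine ⟨j, ?_, hj'⟩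
        rw [Finsupp.add_apply]; omega
    · rw [wt_add, wt_single, hsum, List.map_append, List.sum_append, List.map_replicate, List.sum_replicate]

section

variable {Ψ : Set D.idx}

theorem wt_mem (hΨ : IsPosSet D.P Ψ) (w : σ → D.idx) (hw : ∀ i, w i ∈ Ψ) {d : σ →₀ ℕ} {a : D.idx}
    (h : D.P.root a = wt D (fun i => D.P.root (w i)) d) : a ∈ Ψ := by
  obtain ⟨l, hl, hsum⟩ := exists_list_wt D w d
  refine hΨ.root_mem_of_sum _ l rfl (fun x hx => ?_) a (h.trans hsum)
  obtain ⟨i, -, rfl⟩ := hl x hx
  exact hw i

theorem degree_le_of_pos (w : σ → D.M) (hf : D.M →+ ℤ) (hw : ∀ i, 0 < hf (w i)) (d : σ →₀ ℕ) :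
    (d.degree : ℤ) ≤ hf (wt D w d) := by
  classical
  induction d using Finsupp.induction with
  | zero => simp [wt_zero]
  | single_add i k d hi hk ih =>
    rw [wt_add, map_add, map_add, wt_single, map_nsmul, Finsupp.degree_single, Nat.cast_add, nsmul_eq_mul]
    have := hw i
    nlinarith

theorem finite_wt_eq [Finite σ] (w : σ → D.M) (hf : D.M →+ ℤ) (hw : ∀ i, 0 < hf (w i)) (m : D.M) :
    {d : σ →₀ ℕ | wt D w d = m}.Finite := by
  haveI := Fintype.ofFinite σ
  refine Set.Finite.of_finite_image (f := fun d : σ →₀ ℕ => (d : σ → ℕ)) ?_ fun x _ y _ h => Finsupp.ext (congrFun h)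
  refine (Set.Finite.pi fun _ : σ => Set.finite_Iic (hf m).toNat).subset ?_
  rintro _ ⟨d, hd, rfl⟩ i -
  have h1 := degree_le_of_pos D w hf hw d
  rw [show wt D w d = m from hd] at h1
  have h2 : d i ≤ d.degree := Finsupp.le_degree i d
  simp only [Set.mem_Iic]
  omega

variable [IsAffineHom G.hom]

/-- an equivariant point with trivial constant term is an ordered product over the set -/
theorem exists_eq_prodPoly [Finite σ] (hΨ : IsPosSet D.P Ψ) {m : ℕ} (e : Fin m → D.idx) (he : Function.Injective e)
    (hrange : Set.range e = Ψ) (w : σ → D.idx) (hw : ∀ i, w i ∈ Ψ)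
    {φ : pt g (MvPolynomial σ R) ⟶ G} (hE : IsEquivariant g D (fun i => D.P.root (w i)) φ)
    (h0 : ∀ a, dev g φ a ∈ idealOfVars σ R ^ 1) :
    ∃ P : Fin m → MvPolynomial σ R,
      (∀ k d, (P k).coeff d ≠ 0 → d ≠ 0 ∧ wt D (fun i => D.P.root (w i)) d = D.P.root (e k)) ∧
      φ = (List.ofFn fun k => uPt g D (e k) (P k)).prod := by
  classical
  set w' : σ → D.M := fun i => D.P.root (w i) with hw'
  obtain ⟨hf, hpos⟩ := hΨ.exists_functional
  have hposw : ∀ i, 0 < hf (w' i) := fun i => hpos _ (hw i)
  have hne : ∀ d : σ →₀ ℕ, d ≠ 0 → wt D w' d ≠ 0 := fun d hd h => by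
    have h1 := degree_le_of_pos D w' hf hposw d
    rw [h, map_zero] at h1
    have h2 : d.degree ≠ 0 := by rwa [Ne, Finsupp.degree_eq_zero_iff]
    omega
  let s : Fin m → Finset (σ →₀ ℕ) := fun k => (finite_wt_eq D w' hf hposw (D.P.root (e k))).toFinset
  have hs : ∀ k d, d ∈ s k ↔ wt D w' d = D.P.root (e k) := fun k d => by simp [s]
  let L : List (Fin m × (σ →₀ ℕ)) := (List.finRange m).flatMap fun k => (s k).toList.map fun d => (k, d)
  have hL : ∀ k d, (k, d) ∈ L ↔ d ∈ s k := fun k d => by simp [L]
  have hnd : L.Nodup := by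
    refine List.nodup_flatMap.mpr ⟨fun k _ => (Finset.nodup_toList _).map fun _ _ h => (Prod.mk.injEq .. ▸ h).2, ?_⟩
    refine (List.nodup_finRange m).imp fun {a b} hab => ?_
    intro x hx hx'
    obtain ⟨_, _, rfl⟩ := List.mem_map.mp hx
    obtain ⟨_, _, h⟩ := List.mem_map.mp hx'
    exact hab (congrArg Prod.fst h).symm
  have hz : ∀ i, L.get i ∈ L := fun i => List.get_mem L i
  have hek : ∀ i, D.P.root (e (L.get i).1) = wt D w' (L.get i).2 := fun i =>
    ((hs _ _).mp ((hL _ _).mp (hz i))).symm
  obtain ⟨C, hC⟩ := exists_eq_monProd g D w' (fun i => e (L.get i).1) (fun i => (L.get i).2) (∅ : Set σ)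
    (fun _ _ h => absurd h (Set.notMem_empty _))
    (fun i h => by
      have := hek i
      rw [h, wt_zero] at this
      exact D.P.ne_zero _ this)
    hek
    (fun i j h => by
      have h1 := congrArg Prod.fst h
      have h2 := congrArg Prod.snd h
      exact List.nodup_iff_injective_get.mp hnd (Prod.ext (he h1) h2))
    (fun d hd _ => hne d hd)
    (fun a d _ _ ha => by
      obtain ⟨k, rfl⟩ : a ∈ Set.range e := hrange ▸ wt_mem D hΨ w hw ha
      obtain ⟨i, hi⟩ := List.get_of_mem ((hL k d).mpr ((hs k d).mpr ha.symm))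
      exact ⟨i, by rw [hi], by rw [hi]⟩)
    hE (fun i h => absurd h (Set.notMem_empty i)) h0
  let c : Fin m × (σ →₀ ℕ) → R := fun x => if h : L.idxOf x < L.length then C ⟨L.idxOf x, h⟩ else 0
  have hc : ∀ i, c (L.get i) = C i := fun i => by
    have h1 : L.idxOf (L.get i) = i.1 := hnd.idxOf_getElem i.1 i.2
    have h2 : L.idxOf (L.get i) < L.length := h1.trans_lt i.2
    simp only [c, dif_pos h2]
    congr 1
    exact Fin.ext h1
  refine ⟨fun k => ∑ d ∈ s k, MvPolynomial.monomial d (c (k, d)), fun k d hd => ?_, ?_⟩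
  · simp only [MvPolynomial.coeff_sum, MvPolynomial.coeff_monomial] at hd
    obtain ⟨d', hd', h'⟩ := Finset.exists_ne_zero_of_sum_ne_zero hd
    by_cases h : d' = d
    · subst h
      exact ⟨fun e0 => D.P.ne_zero (e k) (((hs _ _).mp hd').symm.trans (e0 ▸ wt_zero D w')), (hs _ _).mp hd'⟩
    · exact absurd (if_neg h) h'
  · rw [hC, monProd]
    have e1 : (List.ofFn fun i => uPt g D (e (L.get i).1) (MvPolynomial.monomial (L.get i).2 (C i))) =
        L.map fun x => uPt g D (e x.1) (MvPolynomial.monomial x.2 (c x)) := by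
      conv_rhs => rw [← List.ofFn_get L]
      rw [List.map_ofFn]
      congr 1
      funext i
      simp only [Function.comp_apply, hc]
    rw [e1, List.map_flatMap, List.flatMap_def, List.prod_flatten, List.map_map, List.ofFn_eq_map]
    congr 1
    refine List.map_congr_left fun k _ => ?_
    simp only [Function.comp_apply, List.map_map]
    rw [← Finset.sum_map_toList (s k) fun d => MvPolynomial.monomial d (c (k, d))]
    exact prod_uPt_map g D (e k) _ _

end

end Groth.Agent.H21Split
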