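import Groth.Agent.H21Split.Kernel
import Groth.Agent.H21Split.Series
import Mathlib.Algebra.Polynomial.Laurent

/-!
Products of root points over roots in an open half space: coordinates are unique.
-/

open CategoryTheory MonoidalCategory CartesianMonoidalCategory MonObj GrpObj AlgebraicGeometry
open CategoryTheory.Limits
open LaurentPolynomial (T C)

universe u

set_option backward.isDefEq.respectTransparency false
set_option linter.style.haveILetI false
set_option synthInstance.maxHeartbeats 400000

noncomputable section

namespace Groth.Agent.H21Split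

variable {S : Scheme.{u}} {R : Type u} [CommRing R] (g : Spec (CommRingCat.of R) ⟶ S)
variable {B : Type u} [CommRing B] [Algebra R B]
variable {G : Over S} [GrpObj G] (D : Red.SplitRed G)

variable (B) in
/-- the character of a cocharacter at the generic point of the multiplicative group -/
def cz (h : D.M →+ ℤ) : Multiplicative D.M →* LaurentPolynomial B where
  toFun m := T (h m.toAdd)
  map_one' := by rw [toAdd_one, map_zero, LaurentPolynomial.T_zero]
  map_mul' m m' := by rw [toAdd_mul, map_add, LaurentPolynomial.T_add]

theorem cz_apply (h : D.M →+ ℤ) (a : D.M) : cz B D h (Multiplicative.ofAdd a) = T (h a) := rfl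

variable (R B) in
/-- constants in Laurent polynomials -/
def lconst : B →ₐ[R] LaurentPolynomial B := IsScalarTower.toAlgHom R B (LaurentPolynomial B)

theorem lconst_apply (b : B) : lconst R B b = C b := rfl

variable (R B) in
/-- polynomials as Laurent polynomials -/
def polyL : Polynomial B →ₐ[R] LaurentPolynomial B :=
  (Polynomial.toLaurentAlg : Polynomial B →ₐ[B] LaurentPolynomial B).restrictScalars R

theorem polyL_apply (p : Polynomial B) : polyL R B p = Polynomial.toLaurent p := rfl

/-- conjugation of a product of root points by a cocharacter -/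
theorem conj_cz_prod (h : D.M →+ ℤ) {n : ℕ} (e : Fin n → D.idx) (x : Fin n → B) :
    tPt g D (cz B D h) * (pmap g (lconst R B) ≫ (List.ofFn fun k => uPt g D (e k) (x k)).prod) *
        (tPt g D (cz B D h))⁻¹ =
      (List.ofFn fun k => uPt g D (e k) (T (h (D.P.root (e k))) * C (x k))).prod := by
  rw [← preHom_apply, map_prod_ofFn, ← MulAut.conj_apply, ← MulEquiv.coe_toMonoidHom, map_prod_ofFn]
  congr
  funext k
  rw [MulEquiv.coe_toMonoidHom, MulAut.conj_apply, preHom_apply, pmap_uPt, tPt_conj, cz_apply, lconst_apply]

/-- the same product with polynomial values -/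
theorem polyL_prod (h : D.M →+ ℤ) {n : ℕ} (e : Fin n → D.idx) (hpos : ∀ k, 0 ≤ h (D.P.root (e k)))
    (x : Fin n → B) :
    pmap g (polyL R B) ≫ (List.ofFn fun k =>
        uPt g D (e k) (Polynomial.C (x k) * Polynomial.X ^ (h (D.P.root (e k))).toNat)).prod =
      (List.ofFn fun k => uPt g D (e k) (T (h (D.P.root (e k))) * C (x k))).prod := by
  rw [← preHom_apply, map_prod_ofFn]
  congr
  funext k
  rw [preHom_apply, pmap_uPt, polyL_apply, Polynomial.toLaurent_C_mul_X_pow, mul_comm,
    Int.toNat_of_nonneg (hpos k)]

variable [IsAffineHom G.hom]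

theorem polyL_injective : Function.Injective (polyL R B) := Polynomial.toLaurent_injective

/-- coordinates in a product of root groups in an open half space are unique -/
theorem prod_uPt_injective {n : ℕ} (e : Fin n → D.idx) (he : Function.Injective e) (h : D.M →+ ℤ)
    (hpos : ∀ k, 0 < h (D.P.root (e k))) {x y : Fin n → B}
    (hxy : (List.ofFn fun k => uPt g D (e k) (x k)).prod = (List.ofFn fun k => uPt g D (e k) (y k)).prod) :
    x = y := by
  classical
  let d : Fin n → ℕ := fun k => (h (D.P.root (e k))).toNat
  have hd : ∀ k, 1 ≤ d k := fun k => by have := hpos k; simp only [d]; omega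
  have hP : (List.ofFn fun k => uPt g D (e k) (Polynomial.C (x k) * Polynomial.X ^ d k)).prod =
      (List.ofFn fun k => uPt g D (e k) (Polynomial.C (y k) * Polynomial.X ^ d k)).prod := by
    refine ext_of_injective g (polyL R B) polyL_injective ?_
    rw [polyL_prod g D h e fun k => (hpos k).le, polyL_prod g D h e fun k => (hpos k).le, ← conj_cz_prod,
      ← conj_cz_prod, hxy]
  suffices ∀ N, ∀ k, d k ≤ N → x k = y k from funext fun k => this _ k le_rfl
  intro N
  induction N with
  | zero => intro k hk; have := hd k; omega
  | succ N ih =>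
    let J : Ideal (Polynomial B) := Ideal.span {Polynomial.X ^ (N + 2)}
    let q : Polynomial B →ₐ[R] Polynomial B ⧸ J := Ideal.Quotient.mkₐ R J
    let I₁ : Ideal (Polynomial B ⧸ J) := Ideal.span {q Polynomial.X}
    let I₂ : Ideal (Polynomial B ⧸ J) := Ideal.span {q Polynomial.X ^ (N + 1)}
    have hJ : ∀ (b : B) (j : ℕ), N + 2 ≤ j → q (Polynomial.C b * Polynomial.X ^ j) = 0 := fun b j hj =>
      Ideal.Quotient.eq_zero_iff_mem.mpr (Ideal.mem_span_singleton.mpr (Dvd.dvd.mul_left (pow_dvd_pow _ hj) _))
    have h21 : I₂ * I₁ = ⊥ := by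
      rw [Ideal.span_singleton_mul_span_singleton, ← pow_succ, ← map_pow]
      refine Ideal.span_singleton_eq_bot.mpr ?_
      rw [← _root_.one_mul (Polynomial.X ^ (N + 1 + 1)), ← map_one Polynomial.C]
      exact hJ 1 _ le_rfl
    have h22 : I₂ * I₂ = ⊥ := by
      refine le_bot_iff.mp ((Ideal.mul_mono le_rfl ?_).trans h21.le)
      refine Ideal.span_singleton_le_span_singleton.mpr ?_
      exact dvd_pow_self _ (Nat.succ_ne_zero N)
    let lo : (Fin n → B) → Fin n → Polynomial B ⧸ J := fun z k =>
      if d k ≤ N then q (Polynomial.C (z k) * Polynomial.X ^ d k) else 0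
    let hi : (Fin n → B) → Fin n → Polynomial B ⧸ J := fun z k =>
      if d k = N + 1 then q (Polynomial.C (z k) * Polynomial.X ^ d k) else 0
    have hlo : ∀ z k, lo z k ∈ I₁ := fun z k => by
      simp only [lo]
      split_ifs
      · rw [map_mul, map_pow]
        exact I₁.mul_mem_left _ (I₁.pow_mem_of_mem (Ideal.mem_span_singleton_self _) _ (hd k))
      · exact I₁.zero_mem
    have hhi : ∀ z k, hi z k ∈ I₂ := fun z k => by
      simp only [hi]
      split_ifs with hk
      · rw [map_mul, map_pow, hk]
        exact I₂.mul_mem_left _ (Ideal.mem_span_singleton_self _)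
      · exact I₂.zero_mem
    have hsplit : ∀ z : Fin n → B,
        pmap g q ≫ (List.ofFn fun k => uPt g D (e k) (Polynomial.C (z k) * Polynomial.X ^ d k)).prod =
          (List.ofFn fun k => uPt g D (e k) (lo z k)).prod * (List.ofFn fun k => uPt g D (e k) (hi z k)).prod := by
      intro z
      rw [← preHom_apply, map_prod_ofFn, ← prod_ofFn_mul _ _ fun i j => ?_]
      · congr
        funext k
        rw [preHom_apply, pmap_uPt, ← uPt_add]
        congr 1
        simp only [lo, hi]
        rcases Nat.lt_trichotomy (d k) (N + 1) with hk | hk | hk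
        · rw [if_pos (by omega), if_neg (by omega), add_zero]
        · rw [if_neg (by omega), if_pos hk, zero_add]
        · rw [if_neg (by omega), if_neg (by omega), add_zero, hJ _ _ (by omega)]
      · exact commute_of_mul_eq_bot g I₂ I₁ h21 (dev_uPt_mem g D I₂ _ (hhi z i)) (dev_uPt_mem g D I₁ _ (hlo z j))
    have heq := congrArg (fun φ => pmap g q ≫ φ) hP
    simp only [hsplit] at heq
    have hlo' : lo x = lo y := funext fun k => by
      simp only [lo]
      split_ifs with hk
      · rw [ih k hk]
      · rfl
    rw [hlo'] at heq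
    have hh := prod_uPt_sq_injective g D I₂ h22 e he (hhi x) (hhi y) (mul_left_cancel heq)
    intro k hk
    rcases Nat.lt_or_ge (d k) (N + 1) with h1 | h1
    · exact ih k (by omega)
    have hkN : d k = N + 1 := by omega
    have := congrFun hh k
    simp only [hi, if_pos hkN] at this
    have h3 := Ideal.Quotient.eq.mp this
    rw [← sub_mul, ← map_sub, Ideal.mem_span_singleton, Polynomial.X_pow_dvd_iff] at h3
    have h4 := h3 (d k) (by omega)
    rw [Polynomial.coeff_C_mul_X_pow, if_pos rfl, sub_eq_zero] at h4
    exact h4

end Groth.Agent.H21Split
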