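import Groth.Agent.H21Split.Pts
import Groth.Agent.H02CA.SmoothRegular
import Groth.Agent.H25SmVar.Basic

/-!
Derivations at the unit of an affine smooth group: bound by the dimension over a field, and the criterion
for a family of derivations to be a basis over the base.
-/

open CategoryTheory MonoidalCategory CartesianMonoidalCategory MonObj GrpObj AlgebraicGeometry
open CategoryTheory.Limits

universe u

set_option backward.isDefEq.respectTransparency false
set_option linter.style.haveILetI false

noncomputable section

namespace Groth.Agent.H21Split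

section Algebra

variable {R A : Type u} [CommRing R] [CommRing A] [Algebra R A]

/-- an ε-derivation -/
def IsDer (ε : A →ₐ[R] R) {B : Type u} [CommRing B] [Algebra R B] (D : A →ₗ[R] B) : Prop :=
  ∀ a b, D (a * b) = algebraMap R B (ε a) * D b + algebraMap R B (ε b) * D a

variable {ε : A →ₐ[R] R} {B : Type u} [CommRing B] [Algebra R B] {D : A →ₗ[R] B}

theorem IsDer.map_algebraMap (hD : IsDer ε D) (r : R) : D (algebraMap R A r) = 0 := by
  have h1 : D 1 = 0 := by
    have := hD 1 1
    simp only [_root_.mul_one, map_one, _root_.one_mul] at this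
    exact left_eq_add.mp this
  rw [Algebra.algebraMap_eq_smul_one, map_smul, h1, smul_zero]

theorem IsDer.map_sub_eps (hD : IsDer ε D) (a : A) : D (a - algebraMap R A (ε a)) = D a := by
  rw [map_sub, hD.map_algebraMap, sub_zero]

theorem IsDer.map_sq (hD : IsDer ε D) {x : A} (hx : x ∈ (RingHom.ker ε) ^ 2) : D x = 0 := by
  rw [pow_two] at hx
  induction hx using Submodule.mul_induction_on' with
  | mem_mul_mem a ha b hb =>
    rw [RingHom.mem_ker] at ha hb
    simp [hD a b, ha, hb]
  | add a _ b _ ha hb => rw [map_add, ha, hb, add_zero]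

theorem sub_eps_mem (a : A) : a - algebraMap R A (ε a) ∈ RingHom.ker ε := by
  simp [RingHom.mem_ker]

end Algebra

/-- Independent derivations at a rational point of a smooth algebra are at most the dimension in number. -/
theorem card_le_of_independent {K A : Type u} [Field K] [CommRing A] [Algebra K A] [Algebra.Smooth K A]
    (ε : A →ₐ[K] K) (n : ℕ) (hn : ringKrullDim A ≤ (n : WithBot ℕ∞)) {m : ℕ} (D : Fin m → (A →ₗ[K] K))
    (hD : ∀ i, IsDer ε (D i)) (hind : ∀ c : Fin m → K, (∀ a, ∑ i, c i * D i a = 0) → c = 0) : m ≤ n := by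
  have hsurj : Function.Surjective ε := fun k => ⟨algebraMap K A k, by simp⟩
  haveI hmax : (RingHom.ker ε).IsMaximal := RingHom.ker_isMaximal_of_surjective ε hsurj
  haveI : IsNoetherianRing A := Algebra.FiniteType.isNoetherianRing K A
  haveI : IsRegularRing A := H02CA.isRegularRing_of_smooth K A
  set I := RingHom.ker ε with hI
  haveI : IsRegularLocalRing (Localization.AtPrime I) := isRegularRing_iff.mp inferInstance I
  have hfr : (Module.finrank (A ⧸ I) I.Cotangent : WithBot ℕ∞) ≤ n := by
    rw [← H25SmVar.finrank_cotangentSpace_localization A I,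
      (IsRegularLocalRing.iff_finrank_cotangentSpace _).mp inferInstance,
      IsLocalization.AtPrime.ringKrullDim_eq_height I (Localization.AtPrime I)]
    exact le_trans (Ideal.height_le_ringKrullDim_of_ne_top hmax.ne_top) hn
  let f : K → A ⧸ I := algebraMap K (A ⧸ I)
  have hf : Function.Bijective f := by
    refine ⟨(algebraMap K (A ⧸ I)).injective, fun q => ?_⟩
    obtain ⟨a, rfl⟩ := Ideal.Quotient.mk_surjective q
    exact ⟨ε a, (Ideal.Quotient.eq.mpr (sub_eps_mem (ε := ε) a)).symm⟩
  haveI : IsScalarTower K (A ⧸ I) I.Cotangent :=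
    IsScalarTower.of_algebraMap_smul fun k w => by
      rw [IsScalarTower.algebraMap_apply K A (A ⧸ I), IsScalarTower.algebraMap_smul,
        IsScalarTower.algebraMap_smul]
  have hfin : Module.finrank K I.Cotangent = Module.finrank (A ⧸ I) I.Cotangent :=
    H25SmVar.finrank_eq_of_equiv_equiv f (AddEquiv.refl _) hf fun k w =>
      (IsScalarTower.algebraMap_smul (A ⧸ I) k w).symm
  haveI : Module.Finite A I.Cotangent := Module.Finite.of_surjective I.toCotangent I.toCotangent_surjective
  haveI : Module.Finite (A ⧸ I) I.Cotangent := Module.Finite.of_restrictScalars_finite A (A ⧸ I) _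
  haveI : Module.Finite K I.Cotangent := by
    haveI : Module.Finite K (A ⧸ I) := Module.Finite.of_surjective (Algebra.linearMap K (A ⧸ I)) hf.2
    exact Module.Finite.trans (A ⧸ I) I.Cotangent
  let T : I.Cotangent →ₗ[K] (Fin m → K) :=
    { toFun := fun w i => D i ((Function.surjInv I.toCotangent_surjective w : I) : A)
      map_add' := fun v w => by
        funext i
        set s := Function.surjInv I.toCotangent_surjective
        rw [Pi.add_apply, ← map_add]
        refine sub_eq_zero.mp ((map_sub _ _ _).symm.trans ((hD i).map_sq ?_))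
        refine (Ideal.toCotangent_eq I (x := s (v + w)) (y := s v + s w)).mp ?_
        rw [map_add]
        simp only [s, Function.surjInv_eq]
      map_smul' := fun k w => by
        funext i
        set s := Function.surjInv I.toCotangent_surjective
        rw [Pi.smul_apply, RingHom.id_apply, ← map_smul]
        refine sub_eq_zero.mp ((map_sub _ _ _).symm.trans ((hD i).map_sq ?_))
        refine (Ideal.toCotangent_eq I (x := s (k • w)) (y := k • s w)).mp ?_
        rw [LinearMap.map_smul_of_tower]
        simp only [s, Function.surjInv_eq] }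
  have hT : ∀ x : I, T (I.toCotangent x) = fun i => D i (x : A) := fun x => by
    funext i
    refine sub_eq_zero.mp ((map_sub _ _ _).symm.trans ((hD i).map_sq ?_))
    exact (Ideal.toCotangent_eq I).mp (Function.surjInv_eq I.toCotangent_surjective (I.toCotangent x))
  have hTs : Function.Surjective T := by
    by_contra hns
    have hlt : LinearMap.range T < ⊤ := lt_top_iff_ne_top.mpr (mt LinearMap.range_eq_top.mp hns)
    obtain ⟨φ, hφ0, hφ⟩ := Submodule.exists_dual_map_eq_bot_of_lt_top hlt inferInstance
    have hφa : ∀ a, φ (fun i => D i a) = 0 := fun a => by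
      have hmem : φ (T (I.toCotangent ⟨_, sub_eps_mem (ε := ε) a⟩)) ∈ (LinearMap.range T).map φ :=
        ⟨_, LinearMap.mem_range_self _ _, rfl⟩
      rw [hφ, Submodule.mem_bot, hT] at hmem
      simpa only [(hD _).map_sub_eps] using hmem
    refine hφ0 ?_
    have hc := hind (fun i => φ (Pi.single i 1)) fun a => by
      have h := hφa a
      rw [pi_eq_sum_univ' (fun i => D i a), map_sum] at h
      simpa [map_smul, mul_comm] using h
    refine LinearMap.pi_ext fun i x => ?_
    have := congrFun hc i
    rw [show Pi.single i x = x • Pi.single (M := fun _ : Fin m => K) i 1 from by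
      rw [← Pi.single_smul, smul_eq_mul, _root_.mul_one], map_smul]
    simp only [Pi.zero_apply] at this
    simp [this]
  have : m ≤ Module.finrank K I.Cotangent := by
    have h := LinearMap.finrank_range_le T
    rw [LinearMap.range_eq_top.mpr hTs, finrank_top, Module.finrank_fin_fun] at h
    exact h
  rw [hfin] at this
  exact_mod_cast le_trans (Nat.cast_le.mpr this) hfr

/-- a non-zero finite module has a non-zero functional with values in an algebraically closed field -/
theorem exists_functional {R : Type u} [CommRing R] (Q : Type u) [AddCommGroup Q] [Module R Q]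
    [Module.Finite R Q] [Nontrivial Q] :
    ∃ (K : Type u) (_ : Field K) (_ : IsAlgClosed K) (_ : Algebra R K) (f : Q →ₗ[R] K), f ≠ 0 := by
  have hann : Module.annihilator R Q ≠ ⊤ := fun h => by
    obtain ⟨x, hx⟩ := exists_ne (0 : Q)
    have h1 : (1 : R) ∈ Module.annihilator R Q := h ▸ trivial
    exact hx (by simpa using Module.mem_annihilator.mp h1 x)
  obtain ⟨m, hm, hle⟩ := Ideal.exists_le_maximal _ hann
  haveI := hm
  letI : Field (R ⧸ m) := Ideal.Quotient.field m
  have hne : (m • ⊤ : Submodule R Q) ≠ ⊤ := fun h => by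
    obtain ⟨r, hr, hr0⟩ := Submodule.exists_sub_one_mem_and_smul_eq_zero_of_fg_of_le_smul m ⊤
      Module.Finite.fg_top h.ge
    have hrm : r ∈ m := hle (Module.mem_annihilator.mpr fun x => hr0 x trivial)
    have := sub_mem hrm hr
    rw [sub_sub_cancel] at this
    exact hm.ne_top ((Ideal.eq_top_iff_one _).mpr this)
  obtain ⟨x, hx⟩ : ∃ x : Q, x ∉ (m • ⊤ : Submodule R Q) := by
    by_contra hc
    push Not at hc
    exact hne (eq_top_iff.mpr fun x _ => hc x)
  let mk' : Q →ₗ[R] Q ⧸ (m • ⊤ : Submodule R Q) := Submodule.mkQ _
  have hx' : mk' x ≠ 0 := fun h => hx ((Submodule.Quotient.mk_eq_zero _).mp h)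
  obtain ⟨φ, hφ⟩ : ∃ φ : Q ⧸ (m • ⊤ : Submodule R Q) →ₗ[R ⧸ m] R ⧸ m, φ (mk' x) ≠ 0 := by
    by_contra hc
    push Not at hc
    exact hx' ((Module.forall_dual_apply_eq_zero_iff (R ⧸ m) (mk' x)).mp hc)
  refine ⟨AlgebraicClosure (R ⧸ m), inferInstance, inferInstance, inferInstance,
    (IsScalarTower.toAlgHom R (R ⧸ m) (AlgebraicClosure (R ⧸ m))).toLinearMap ∘ₗ
      (φ.restrictScalars R) ∘ₗ mk', fun h => hφ ?_⟩
  have := LinearMap.congr_fun h x
  simp only [LinearMap.comp_apply, LinearMap.zero_apply] at this
  exact (algebraMap (R ⧸ m) (AlgebraicClosure (R ⧸ m))).injective (this.trans (map_zero _).symm)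

/-- Derivations which are independent at every geometric point, as many as the bound, form a basis. -/
theorem exists_dual_family {R A : Type u} [CommRing R] [CommRing A] [Algebra R A]
    [Algebra.FinitePresentation R A] (ε : A →ₐ[R] R) {n : ℕ} (v : Fin n → (A →ₗ[R] R))
    (hv : ∀ i, IsDer ε (v i))
    (hind : ∀ (K : Type u) [Field K] [IsAlgClosed K] [Algebra R K] (c : Fin n → K),
      (∀ a, ∑ i, c i * algebraMap R K (v i a) = 0) → c = 0)
    (hdim : ∀ (K : Type u) [Field K] [IsAlgClosed K] [Algebra R K] (m : ℕ) (D : Fin m → (A →ₗ[R] K)),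
      (∀ i, IsDer ε (D i)) → (∀ c : Fin m → K, (∀ a, ∑ i, c i * D i a = 0) → c = 0) → m ≤ n) :
    ∃ e : Fin n → A, (∀ j, ε (e j) = 0) ∧ (∀ i j, v i (e j) = if i = j then 1 else 0) ∧
      ∀ (B : Type u) [CommRing B] [Algebra R B] (D : A →ₗ[R] B), IsDer ε D →
        ∀ a, D a = ∑ i, algebraMap R B (v i a) * D (e i) := by
  let L : A →ₗ[R] (Fin n → R) := LinearMap.pi v
  have hL : Function.Surjective L := by
    by_contra hns
    have hne : LinearMap.range L ≠ ⊤ := mt LinearMap.range_eq_top.mp hns
    haveI : Nontrivial ((Fin n → R) ⧸ LinearMap.range L) := Submodule.Quotient.nontrivial_iff.mpr hne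
    obtain ⟨K, _, _, _, f, hf⟩ := exists_functional ((Fin n → R) ⧸ LinearMap.range L) (R := R)
    let F : (Fin n → R) →ₗ[R] K := f ∘ₗ Submodule.mkQ _
    have hc := hind K (fun i => F (Pi.single i 1)) fun a => by
      have h : F (L a) = 0 := by
        change f (Submodule.Quotient.mk (L a)) = 0
        rw [(Submodule.Quotient.mk_eq_zero _).mpr (LinearMap.mem_range_self _ _), map_zero]
      rw [pi_eq_sum_univ' (L a), map_sum] at h
      simp only [map_smul] at h
      simpa [L, map_smul, Algebra.smul_def, mul_comm] using h
    refine hf (Submodule.linearMap_qext _ (LinearMap.pi_ext fun i x => ?_))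
    have := congrFun hc i
    change F (Pi.single i x) = 0
    rw [show Pi.single i x = x • Pi.single (M := fun _ : Fin n => R) i 1 from by
      rw [← Pi.single_smul, smul_eq_mul, _root_.mul_one], map_smul]
    simp only [Pi.zero_apply] at this
    simp [this]
  choose a₀ ha₀ using fun j => hL (Pi.single j 1)
  let e : Fin n → A := fun j => a₀ j - algebraMap R A (ε (a₀ j))
  have hve : ∀ i j, v i (e j) = if i = j then 1 else 0 := fun i j => by
    rw [(hv i).map_sub_eps]
    have := congrFun (ha₀ j) i
    simpa [L, Pi.single_apply] using this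
  refine ⟨e, fun j => by simp [e], hve, ?_⟩
  set I := RingHom.ker ε
  have hsurjε : Function.Surjective ε := fun r => ⟨algebraMap R A r, by simp⟩
  have hfg : I.FG := Algebra.FinitePresentation.ker_fG_of_surjective ε hsurjε
  haveI : Module.Finite A I := Module.Finite.iff_fg.mpr hfg
  haveI : Module.Finite A I.Cotangent := Module.Finite.of_surjective I.toCotangent I.toCotangent_surjective
  have hsmul : ∀ (a : A) (w : I.Cotangent), a • w = ε a • w := fun a w => by
    rw [← IsScalarTower.algebraMap_smul A (ε a) w, ← sub_eq_zero, ← sub_smul]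
    exact Ideal.Cotangent.smul_eq_zero_of_mem (sub_eps_mem (ε := ε) a) w
  haveI : Module.Finite R I.Cotangent := by
    obtain ⟨s, hs⟩ := Module.Finite.fg_top (R := A) (M := I.Cotangent)
    refine ⟨⟨s, Submodule.eq_top_iff'.mpr fun w => ?_⟩⟩
    have hw : w ∈ Submodule.span A (s : Set I.Cotangent) := hs ▸ trivial
    induction hw using Submodule.span_induction with
    | mem x hx => exact Submodule.subset_span hx
    | zero => exact zero_mem _
    | add x y _ _ hx hy => exact add_mem hx hy
    | smul a x _ hx => rw [hsmul]; exact Submodule.smul_mem _ _ hx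
  let cot : A →ₗ[R] I.Cotangent :=
    { toFun := fun a => I.toCotangent ⟨_, sub_eps_mem (ε := ε) a⟩
      map_add' := fun a b => by
        rw [← map_add]; congr 1; ext
        simp only [map_add, Submodule.coe_add]; ring
      map_smul' := fun r a => by
        rw [RingHom.id_apply, ← LinearMap.map_smul_of_tower]; congr 1; ext
        simp [map_smul, Algebra.smul_def, mul_sub] }
  let rr : A →ₗ[R] A := LinearMap.id - ∑ i, (v i).smulRight (e i)
  have hrr' : ∀ a, rr a = a - ∑ i, v i a • e i := fun a => by simp [rr]
  let Q : Submodule R I.Cotangent := LinearMap.range (cot ∘ₗ rr)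
  haveI : Module.Finite R Q := by
    have hdef : ∀ a a' : A, cot a = cot a' → cot (rr a) = cot (rr a') := by
      intro a a' h
      have hmem := (Ideal.toCotangent_eq I).mp h
      have hv0 : ∀ i, v i a = v i a' := fun i => by
        have := (hv i).map_sq hmem
        rw [map_sub, (hv i).map_sub_eps, (hv i).map_sub_eps] at this
        exact sub_eq_zero.mp this
      rw [hrr', hrr', map_sub, map_sub, h]
      simp only [hv0]
    let s := Function.surjInv (f := fun a => cot a) (fun w => by
      obtain ⟨x, rfl⟩ := I.toCotangent_surjective w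
      exact ⟨x, by
        change I.toCotangent _ = I.toCotangent x
        congr 1; ext
        change (x : A) - algebraMap R A (ε x) = x
        rw [(RingHom.mem_ker.mp x.2 : ε (x : A) = 0), map_zero, sub_zero]⟩)
    have hs : ∀ w, cot (s w) = w := fun w => Function.surjInv_eq _ w
    let π : I.Cotangent →ₗ[R] I.Cotangent :=
      { toFun := fun w => cot (rr (s w))
        map_add' := fun w w' => by
          rw [← map_add, ← map_add]; exact hdef _ _ (by rw [hs, map_add, hs, hs])
        map_smul' := fun r w => by
          rw [RingHom.id_apply, ← map_smul, ← map_smul]; exact hdef _ _ (by rw [hs, map_smul, hs]) }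
    have : Q = LinearMap.range π := by
      refine le_antisymm ?_ ?_
      · rintro w ⟨a, rfl⟩
        exact ⟨cot a, hdef _ _ (hs _)⟩
      · rintro w ⟨a, rfl⟩
        exact ⟨s a, rfl⟩
    rw [this]
    infer_instance
  have hQ : ∀ a, cot (rr a) = 0 := by
    by_contra hc
    push Not at hc
    obtain ⟨a₁, ha₁⟩ := hc
    haveI : Nontrivial Q := ⟨⟨⟨_, LinearMap.mem_range_self (cot ∘ₗ rr) a₁⟩, 0, fun h => ha₁ (congrArg Subtype.val h)⟩⟩
    obtain ⟨K, _, _, _, f, hf⟩ := exists_functional Q (R := R)
    let D : A →ₗ[R] K := f ∘ₗ (cot ∘ₗ rr).rangeRestrict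
    have hD : IsDer ε D := fun a b => by
      have h : cot (rr (a * b)) = ε a • cot (rr b) + ε b • cot (rr a) := by
        have hab : cot (a * b) = ε a • cot b + ε b • cot a := by
          change I.toCotangent _ = ε a • I.toCotangent _ + ε b • I.toCotangent _
          rw [← LinearMap.map_smul_of_tower, ← LinearMap.map_smul_of_tower, ← map_add, Ideal.toCotangent_eq]
          simp only [Submodule.coe_add, Submodule.coe_smul_of_tower, Algebra.smul_def, map_mul]
          have := Ideal.mul_mem_mul (sub_eps_mem (ε := ε) a) (sub_eps_mem (ε := ε) b)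
          rw [← pow_two] at this
          convert this using 1
          ring
        rw [hrr', hrr', hrr', map_sub, map_sub, map_sub, hab, map_sum, map_sum, map_sum]
        simp only [smul_sub, Finset.smul_sum, map_smul, smul_smul]
        rw [show (∑ i, v i (a * b) • cot (e i)) =
          ∑ i, (ε a * v i b) • cot (e i) + ∑ i, (ε b * v i a) • cot (e i) from by
            rw [← Finset.sum_add_distrib]
            refine Finset.sum_congr rfl fun i _ => ?_
            rw [hv i a b, ← add_smul]; simp]
        abel
      have h' : (cot ∘ₗ rr).rangeRestrict (a * b) =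
          ε a • (cot ∘ₗ rr).rangeRestrict b + ε b • (cot ∘ₗ rr).rangeRestrict a := Subtype.ext h
      change f _ = algebraMap R K (ε a) * f _ + algebraMap R K (ε b) * f _
      rw [h', map_add, map_smul, map_smul, Algebra.smul_def, Algebra.smul_def]
    have hDe : ∀ j, D (e j) = 0 := fun j => by
      have : (cot ∘ₗ rr).rangeRestrict (e j) = 0 := by
        refine Subtype.ext ?_
        change cot (rr (e j)) = 0
        rw [hrr']
        simp [hve]
      change f _ = 0
      rw [this, map_zero]
    let D' : Fin (n + 1) → (A →ₗ[R] K) := Fin.cons D fun i => (Algebra.linearMap R K) ∘ₗ v i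
    have hD' : ∀ i, IsDer ε (D' i) := Fin.cases hD fun i a b => by simp [D', hv i a b]
    have := hdim K (n + 1) D' hD' fun c hc => by
      have hj : ∀ j : Fin n, c j.succ = 0 := fun j => by
        have := hc (e j)
        simpa [Fin.sum_univ_succ, D', hDe, hve, Algebra.linearMap_apply, apply_ite (algebraMap R K)] using this
      funext i
      refine Fin.cases ?_ hj i
      by_contra h0
      refine hf (LinearMap.ext fun q => ?_)
      obtain ⟨a, ha⟩ := (cot ∘ₗ rr).surjective_rangeRestrict q
      have := hc a
      simp [Fin.sum_univ_succ, D', hj] at this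
      rw [← ha]
      exact this.resolve_left h0
    omega
  intro B _ _ D hD a
  have hmem := (Ideal.toCotangent_eq_zero I _).mp (hQ a)
  have := hD.map_sq hmem
  rw [hD.map_sub_eps, hrr', map_sub, map_sum, sub_eq_zero] at this
  simp only [map_smul] at this
  simpa [Algebra.smul_def] using this

end Groth.Agent.H21Split
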