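import Groth.Agent.H21Split.GlobalEval

/-!
The group law, inverses and conjugation in the products of root groups, on all schemes over the base.
-/

open CategoryTheory MonoidalCategory CartesianMonoidalCategory MonObj GrpObj AlgebraicGeometry
open CategoryTheory.Limits
open Groth.Agent.H27Witt.GaCoord (gaFn_comp gaFn_surjective gaFn_injective)

universe u

set_option backward.isDefEq.respectTransparency false
set_option linter.style.haveILetI false
set_option linter.unusedSectionVars false
set_option synthInstance.maxHeartbeats 400000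

noncomputable section

namespace Groth.Agent.H21Split

variable {S : Scheme.{u}} {G : Over S} [GrpObj G] (D : Red.SplitRed G)

theorem conj_mul3 {H : Type*} [Group H] (c a b : H) : (c * a * c⁻¹) * (c * b * c⁻¹) = c * (a * b) * c⁻¹ := by group

theorem conj_inv' {H : Type*} [Group H] (c a : H) : (c * a * c⁻¹)⁻¹ = c * a⁻¹ * c⁻¹ := by group

/-- scaling the coordinates by the roots is conjugation by the torus -/
theorem xProd_scale {X : Over S} (t : X ⟶ D.T) {m : ℕ} (e : Fin m → D.idx) (v v' : Fin m → (X ⟶ Red.Ga S))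
    (h : ∀ k, Red.gaFn (v' k) =
      Red.gmFn (t ≫ D.split.hom.hom.hom ≫ Red.chi S (D.P.root (e k))) * Red.gaFn (v k)) :
    xProd D e v' = (t ≫ D.i) * xProd D e v * (t ≫ D.i)⁻¹ := by
  rw [xProd, xProd, ← MulAut.conj_apply, ← MulEquiv.coe_toMonoidHom, map_prod_ofFn]
  congr
  funext k
  obtain ⟨y, hy, hy2⟩ := (D.rootHom (e k)).2.2 X t (v k)
  rw [MulEquiv.coe_toMonoidHom, MulAut.conj_apply, ← hy,
    gaFn_injective ((h k).trans hy2.symm)]

theorem xProd_one {X : Over S} {m : ℕ} (e : Fin m → D.idx) (v : Fin m → (X ⟶ Red.Ga S)) (hv : ∀ k, v k = 1) :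
    xProd D e v = 1 := by
  refine List.prod_eq_one fun x hx => ?_
  obtain ⟨k, rfl⟩ := List.mem_ofFn.mp hx
  rw [hv k, MonObj.one_comp]

variable {Ψ : Set D.idx} (hΨ : IsPosSet D.P Ψ) {m : ℕ} (e : Fin m → D.idx) (he : Function.Injective e)
  (hrange : Set.range e = Ψ)

include hΨ he hrange

/-- the group law on coordinates -/
theorem exists_global_law :
    ∃ Q : Fin m → MvPolynomial (Fin m ⊕ Fin m) Γ(S, ⊤),
      (∀ k d, (Q k).coeff d ≠ 0 → d ≠ 0 ∧ wt D (fun i => D.P.root (Sum.elim e e i)) d = D.P.root (e k)) ∧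
      ∀ (X : Over S) (x y z : Fin m → (X ⟶ Red.Ga S)),
        xProd D e z = xProd D e x * xProd D e y ↔ ∀ k, Red.gaFn (z k) = MvPolynomial.eval₂ X.hom.appTop.hom
          (Sum.elim (fun j => Red.gaFn (x j)) (fun j => Red.gaFn (y j))) (Q k) := by
  obtain ⟨Q, hQw, -, hQ⟩ := exists_global_eval D hΨ e he hrange (Sum.elim e e)
    (fun i => by rcases i with k | k <;> exact hrange ▸ ⟨k, rfl⟩) Set.univ
    (fun X v => xProd D e (fun k => v (Sum.inl k)) * xProd D e fun k => v (Sum.inr k))
    (fun X Y f v => by rw [MonObj.comp_mul, comp_xProd, comp_xProd])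
    (fun X t v v' h => by
      rw [xProd_scale D t e _ _ fun k => h (Sum.inl k), xProd_scale D t e _ _ fun k => h (Sum.inr k), conj_mul3])
    (fun X => by rw [xProd_one D e _ (fun _ => rfl), _root_.one_mul])
    (fun X v h => by
      rw [xProd_one D e _ fun k => h _ trivial, xProd_one D e _ fun k => h _ trivial, _root_.one_mul])
  refine ⟨Q, hQw, fun X x y z => (hQ X (Sum.elim x y) z).trans ?_⟩
  have e' : (fun i => Red.gaFn (Sum.elim x y i)) =
      Sum.elim (fun j => Red.gaFn (x j)) (fun j => Red.gaFn (y j)) := funext fun i => by rcases i <;> rfl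
  rw [e']

/-- closed under products -/
theorem exists_mul {X : Over S} (x y : Fin m → (X ⟶ Red.Ga S)) :
    ∃ z : Fin m → (X ⟶ Red.Ga S), xProd D e z = xProd D e x * xProd D e y := by
  obtain ⟨Q, -, hQ⟩ := exists_global_law D hΨ e he hrange
  choose z hz using fun k => gaFn_surjective (X := X) (MvPolynomial.eval₂ X.hom.appTop.hom
    (Sum.elim (fun j => Red.gaFn (x j)) (fun j => Red.gaFn (y j))) (Q k))
  exact ⟨z, (hQ X x y z).mpr hz⟩

/-- closed under inverses -/
theorem exists_inverse {X : Over S} (x : Fin m → (X ⟶ Red.Ga S)) :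
    ∃ z : Fin m → (X ⟶ Red.Ga S), xProd D e z = (xProd D e x)⁻¹ := by
  obtain ⟨Q, -, -, hQ⟩ := exists_global_eval D hΨ e he hrange e (fun k => hrange ▸ ⟨k, rfl⟩) Set.univ
    (fun X v => (xProd D e v)⁻¹) (fun X Y f v => by rw [GrpObj.comp_inv, comp_xProd])
    (fun X t v v' h => by rw [xProd_scale D t e _ _ h, conj_inv'])
    (fun X => by rw [xProd_one D e _ (fun _ => rfl), inv_one])
    (fun X v h => by rw [xProd_one D e _ fun k => h k trivial, inv_one])
  choose z hz using fun k => gaFn_surjective (X := X)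
    (MvPolynomial.eval₂ X.hom.appTop.hom (fun i => Red.gaFn (x i)) (Q k))
  exact ⟨z, (hQ X x z).mpr hz⟩

omit hΨ he hrange in
/-- the torus normalises -/
theorem exists_torus_conj {X : Over S} (t : X ⟶ D.T) (y : Fin m → (X ⟶ Red.Ga S)) :
    ∃ z : Fin m → (X ⟶ Red.Ga S), xProd D e z = (t ≫ D.i) * xProd D e y * (t ≫ D.i)⁻¹ := by
  choose z hz using fun k => gaFn_surjective (X := X)
    (Red.gmFn (t ≫ D.split.hom.hom.hom ≫ Red.chi S (D.P.root (e k))) * Red.gaFn (y k))
  exact ⟨z, xProd_scale D t e y z hz⟩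

/-- products in another order or over part of the set -/
theorem exists_reorder_global {n : ℕ} (e' : Fin n → D.idx) (he' : ∀ k, e' k ∈ Ψ) {X : Over S}
    (x : Fin n → (X ⟶ Red.Ga S)) : ∃ z : Fin m → (X ⟶ Red.Ga S), xProd D e z = xProd D e' x := by
  obtain ⟨Q, -, -, hQ⟩ := exists_global_eval D hΨ e he hrange e' he' Set.univ
    (fun X v => xProd D e' v) (fun X Y f v => comp_xProd D f e' v)
    (fun X t v v' h => xProd_scale D t e' _ _ h)
    (fun X => xProd_one D e' _ (fun _ => rfl))
    (fun X v h => xProd_one D e' _ fun k => h k trivial)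
  choose z hz using fun k => gaFn_surjective (X := X)
    (MvPolynomial.eval₂ X.hom.appTop.hom (fun i => Red.gaFn (x i)) (Q k))
  exact ⟨z, (hQ X x z).mpr hz⟩

end Groth.Agent.H21Split
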